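import Mathlib

/-!
# Two consecutive or neighbouring numbers whose divisors include at most one composite number

The arithmetic that picks the fields `F` for which `PSL₂(F)` has at most one composite element
order.
-/

set_option autoImplicit false

namespace CfsgLib.InvChar.OneComposite

/-- At most one composite number has the property. -/
def Sparse (P : ℕ → Prop) : Prop :=
  ∀ a b, P a → P b → (1 < a ∧ ¬ a.Prime) → (1 < b ∧ ¬ b.Prime) → a = b

variable {P : ℕ → Prop}

theorem prime_or (hs : Sparse P) {a b : ℕ} (ha : P a) (hb : P b) (ha1 : 1 < a) (hb1 : 1 < b)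
    (hne : a ≠ b) : a.Prime ∨ b.Prime := by
  by_contra h
  push Not at h
  exact hne (hs a b ha hb ⟨ha1, h.1⟩ ⟨hb1, h.2⟩)

theorem prime_cofactor (hs : Sparse P) {a p u : ℕ} (hd : ∀ d, d ∣ a → P d) (ha1 : 1 < a)
    (hna : ¬ a.Prime) (hp : p.Prime) (he : a = p * u) : u.Prime := by
  by_contra hu
  have hu1 : 1 < u := by
    rcases u with _ | _ | u
    · simp at he; omega
    · exact absurd (by rw [he, Nat.zero_add, mul_one]; exact hp) hna
    · omega
  have h := hs a u (hd a dvd_rfl) (hd u (he ▸ dvd_mul_left u p)) ⟨ha1, hna⟩ ⟨hu1, hu⟩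
  have h2 : 2 * u ≤ p * u := Nat.mul_le_mul_right u hp.two_le
  omega

theorem two_pow_mod (n : ℕ) : 2 ^ n % 3 = if Even n then 1 else 2 := by
  induction n with
  | zero => rfl
  | succ j ih =>
    rw [pow_succ, Nat.mul_mod, ih]
    by_cases hj : Even j <;> simp [hj, Nat.even_add_one]

theorem three_pow_mod (k : ℕ) : 3 ^ k % 8 = if Even k then 1 else 3 := by
  induction k with
  | zero => rfl
  | succ j ih =>
    rw [pow_succ, Nat.mul_mod, ih]
    by_cases hj : Even j <;> simp [hj, Nat.even_add_one]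

/-- Characteristic two. -/
theorem even_case (hs : Sparse P) {n : ℕ} (hn : 2 ≤ n)
    (hd : ∀ d, d ∣ 2 ^ n - 1 ∨ d ∣ 2 ^ n + 1 → P d) :
    n = 2 ∨ n = 4 ∨ ((2 ^ n - 1).Prime ∧ ∃ r, r.Prime ∧ 2 ^ n + 1 = 3 * r) := by
  have h3 := two_pow_mod n
  have h4 : 4 ≤ 2 ^ n := by
    calc 4 = 2 ^ 2 := rfl
      _ ≤ 2 ^ n := Nat.pow_le_pow_right (by norm_num) hn
  have hor := prime_or hs (hd (2 ^ n - 1) (Or.inl dvd_rfl)) (hd (2 ^ n + 1) (Or.inr dvd_rfl))
    (by omega) (by omega) (by omega)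
  by_cases he : Even n <;> simp only [he, if_true, if_false] at h3
  · by_cases hp : (2 ^ n - 1).Prime
    · have := (Nat.prime_dvd_prime_iff_eq Nat.prime_three hp).1 (by omega)
      left
      exact Nat.pow_right_injective le_rfl (show 2 ^ n = 2 ^ 2 by omega)
    · obtain ⟨k, rfl⟩ := he
      obtain ⟨j, rfl⟩ : ∃ j, k = j + 1 := ⟨k - 1, by omega⟩
      rcases j with _ | j
      · left; rfl
      right; left
      obtain ⟨t, ht⟩ : ∃ t, t = 2 ^ (j + 2) := ⟨_, rfl⟩
      have ht4 : 4 ≤ t := ht ▸ (show 2 ^ 2 ≤ 2 ^ (j + 2) from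
        Nat.pow_le_pow_right (by norm_num) (by omega))
      have hfac : 2 ^ (j + 1 + 1 + (j + 1 + 1)) - 1 = (t + 1) * (t - 1) := by
        rw [ht, pow_add, ← Nat.sq_sub_sq, one_pow, pow_two]
      have h3d : 3 ∣ (t + 1) * (t - 1) := hfac ▸ (by omega)
      rcases (Nat.Prime.dvd_mul Nat.prime_three).1 h3d with ⟨c, hc⟩ | ⟨c, hc⟩
      · exfalso
        have hu := prime_cofactor hs (fun d h => hd d (Or.inl h)) (by omega) hp
          Nat.prime_three (u := c * (t - 1)) (by rw [hfac, hc, mul_assoc])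
        rcases Nat.prime_mul_iff.1 hu with ⟨-, h⟩ | ⟨-, h⟩ <;> omega
      · have hu := prime_cofactor hs (fun d h => hd d (Or.inl h)) (by omega) hp
          Nat.prime_three (u := c * (t + 1)) (by rw [hfac, hc]; ring)
        rcases Nat.prime_mul_iff.1 hu with ⟨-, h⟩ | ⟨-, h⟩
        · omega
        · have := Nat.pow_right_injective le_rfl (show 2 ^ (j + 2) = 2 ^ 2 by omega)
          omega
  · right; right
    have hnp : ¬ (2 ^ n + 1).Prime := fun hp => by
      have := (Nat.prime_dvd_prime_iff_eq Nat.prime_three hp).1 (by omega)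
      omega
    obtain ⟨c, hc⟩ : 3 ∣ 2 ^ n + 1 := by omega
    exact ⟨hor.resolve_right hnp, c,
      prime_cofactor hs (fun d h => hd d (Or.inr h)) (by omega) hnp Nat.prime_three hc, hc⟩

/-- The two halves `(q ± 1) / 2`. -/
theorem halves (hs : Sparse P) {a : ℕ} (ha : 2 ≤ a) (hd : ∀ d, d ∣ a ∨ d ∣ a + 1 → P d) :
    a = 2 ∨ (∃ r, r.Prime ∧ a = 2 * r ∧ (a + 1).Prime) ∨
      (∃ r, r.Prime ∧ a + 1 = 2 * r ∧ a.Prime) := by
  have hor := prime_or hs (hd a (Or.inl dvd_rfl)) (hd (a + 1) (Or.inr dvd_rfl))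
    (by omega) (by omega) (by omega)
  rcases Nat.even_or_odd a with ⟨c, hc⟩ | ⟨c, hc⟩
  · by_cases hp : a.Prime
    · exact Or.inl ((Nat.prime_dvd_prime_iff_eq Nat.prime_two hp).1 (by omega)).symm
    · exact Or.inr (Or.inl ⟨c, prime_cofactor hs (fun d h => hd d (Or.inl h)) (by omega) hp
        Nat.prime_two (by omega), by omega, hor.resolve_left hp⟩)
  · have hp : ¬ (a + 1).Prime := fun hp => by
      have := (Nat.prime_dvd_prime_iff_eq Nat.prime_two hp).1 (by omega)
      omega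
    exact Or.inr (Or.inr ⟨c + 1, prime_cofactor hs (fun d h => hd d (Or.inr h)) (by omega) hp
      Nat.prime_two (by omega), by omega, hor.resolve_right hp⟩)

/-- Odd characteristic. -/
theorem odd_case (hs : Sparse P) {p n q : ℕ} (hp : p.Prime) (hq : q = p ^ n) (hodd : Odd q)
    (h5 : 5 ≤ q) (hd : ∀ d, d ∣ (q - 1) / 2 ∨ d ∣ (q + 1) / 2 → P d) :
    (q = 5 ∨ q = 7 ∨ q = 9 ∨ q = 11 ∨ q = 13) ∨
      ∃ r s, r.Prime ∧ s.Prime ∧ 3 ^ n - 1 = 2 * r ∧ 3 ^ n + 1 = 4 * s ∧ q = 3 ^ n := by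
  obtain ⟨a, ha⟩ := hodd
  have hh := halves hs (a := a) (by omega) (fun d h => hd d (by
    rwa [show (q - 1) / 2 = a by omega, show (q + 1) / 2 = a + 1 by omega]))
  by_cases h3 : 3 ∣ q
  · obtain rfl : 3 = p := (Nat.prime_dvd_prime_iff_eq Nat.prime_three hp).1
      (Nat.prime_three.dvd_of_dvd_pow (hq ▸ h3))
    have hm := three_pow_mod n
    rw [← hq] at hm
    rcases hh with h | ⟨r, hr, har, -⟩ | ⟨r, hr, har, hap⟩
    · omega
    · left
      by_cases he : Even n <;> simp only [he, if_true, if_false] at hm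
      · have := (Nat.prime_dvd_prime_iff_eq Nat.prime_two hr).1 (by omega)
        omega
      · omega
    · exact Or.inr ⟨a, r, hap, hr, by omega, by omega, hq⟩
  · left
    have h3a : 3 ∣ a ∨ 3 ∣ a + 1 := by
      rcases (show a % 3 = 0 ∨ a % 3 = 1 ∨ a % 3 = 2 by omega) with h | h | h <;> omega
    have key : ∀ {x : ℕ}, x.Prime → 3 ∣ x → x = 3 := fun hx h =>
      ((Nat.prime_dvd_prime_iff_eq Nat.prime_three hx).1 h).symm
    rcases hh with h | ⟨r, hr, har, hp1⟩ | ⟨r, hr, har, hap⟩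
    · omega
    · rcases h3a with h | h
      · have := key hr (by omega)
        omega
      · have := key hp1 h
        have := hr.two_le
        omega
    · rcases h3a with h | h
      · have := key hap h
        omega
      · have := key hr (by omega)
        omega

end CfsgLib.InvChar.OneComposite
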