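import Cfsg.Agent.Lib.InvChar.OneComposite.Strong
import Cfsg.Agent.Lib.Solvable.MinNormal

/-!
# The automizer of `T` when `N(T)` is transitive on the involutions of `T`

Its nontrivial elements have prime order, those of order other than `r` act without fixed points,
and a minimal normal subgroup is not an `r`-group unless all of it is.
-/

set_option autoImplicit false
set_option linter.unusedSectionVars false
set_option linter.style.haveILetI false

namespace CfsgLib.InvChar.OneComposite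

open Subgroup CfsgLib.Invol CfsgLib.EqOrder CfsgLib.FiveOrbit

variable {G : Type*} [Group G] [Finite G] {r : ℕ}

/-- `N(T)` is transitive on the involutions of `T`. -/
def Trans (T : Sylow 2 G) : Prop :=
  ∀ a ∈ (T : Subgroup G), a ≠ 1 → ∀ b ∈ (T : Subgroup G), b ≠ 1 →
    ∃ n ∈ normalizer ((T : Subgroup G) : Set G), n * a * n⁻¹ = b

namespace Spec

variable (h : Spec G r)
include h

/-- A fixed-point-free automorphism has trivial norms. -/
theorem norm_fpf {T : Sylow 2 G} {y : MulAut (T : Subgroup G)} {q : ℕ}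
    (hyq : y ^ q = 1) (hfix : ∀ a : (T : Subgroup G), y a = a → a = 1) (v : (T : Subgroup G))
    [IsMulCommutative (T : Subgroup G)] :
    open scoped IsMulCommutative in ∏ i ∈ Finset.range q, (y ^ i) v = 1 := by
  open scoped IsMulCommutative in
  refine hfix _ ?_
  rw [map_prod]
  have e : ∀ i, y ((y ^ i) v) = (y ^ (i + 1)) v := fun i => by rw [pow_succ', MulAut.mul_apply]
  rw [Finset.prod_congr rfl fun i _ => e i]
  have h1 := Finset.prod_range_succ' (fun i => (y ^ i) v) q
  have h2 := Finset.prod_range_succ (fun i => (y ^ i) v) q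
  rw [h1] at h2
  simp only [hyq, pow_zero, MulAut.one_apply] at h2
  exact mul_right_cancel h2

theorem fix_eq_one {T : Sylow 2 G} {l : (autT T).range} (hl : l ≠ 1) (hlr : orderOf l ≠ r)
    {a : (T : Subgroup G)} (ha : (l : MulAut (T : Subgroup G)) a = a) : a = 1 := by
  obtain ⟨hp, n, hn, hno⟩ := h.range_order hl
  have hq2 : orderOf l ≠ 2 := fun e => Nat.not_even_iff_odd.2
    ((h.odd_range T).of_dvd_nat (orderOf_dvd_natCard l)) (by rw [e]; exact even_two)
  refine Subtype.ext (h.fpf_of_ne (T := T) (n := (n : G)) hp hq2 hlr hno a.2 ?_)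
  rw [← hn] at ha
  exact mul_inv_eq_iff_eq_mul.1 (congrArg Subtype.val ha)

theorem eq_one_of_fixed {T : Sylow 2 G} (hT : Trans T) {N₀ : Subgroup (autT T).range} (hN : N₀.Normal)
    (hne : N₀ ≠ ⊥) {a : (T : Subgroup G)}
    (ha : ∀ n ∈ N₀, ((n : (autT T).range) : MulAut (T : Subgroup G)) a = a) : a = 1 := by
  by_contra ha1
  refine hne ((Subgroup.eq_bot_iff_forall _).2 fun n hn => Subtype.ext (MulEquiv.ext fun b => ?_))
  by_cases hb : b = 1
  · rw [hb, map_one, map_one]
  obtain ⟨m, hm, hme⟩ := hT a a.2 (fun e => ha1 (Subtype.ext e)) b b.2 (fun e => hb (Subtype.ext e))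
  set l : (autT T).range := ⟨autT T ⟨m, hm⟩, ⟨_, rfl⟩⟩
  have hb' : b = (l : MulAut (T : Subgroup G)) a := Subtype.ext hme.symm
  have h1 := ha _ (hN.conj_mem n hn l⁻¹)
  rw [inv_inv, Subgroup.coe_mul, Subgroup.coe_mul, InvMemClass.coe_inv, MulAut.mul_apply,
    MulAut.mul_apply, MulAut.inv_apply, MulEquiv.symm_apply_eq, ← hb'] at h1
  simpa using h1

/-- If the automizer has elements of order `r` and of another prime order, its minimal normal
subgroups are not `r`-groups. -/
theorem minimal_ne_r {T : Sylow 2 G} (hT : Trans T) {N₀ : Subgroup (autT T).range} (hN : N₀.Normal)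
    (hne : N₀ ≠ ⊥) (hexp : ∀ n ∈ N₀, n ^ r = 1) {x : (autT T).range} (hx : x ≠ 1)
    (hxr : orderOf x ≠ r) : False := by
  classical
  haveI : IsMulCommutative (T : Subgroup G) :=
    isMulCommutative_of fun a ha b hb => (h.comm_sylow T ha hb).eq
  open scoped IsMulCommutative in
  obtain ⟨hq, -⟩ := h.range_order hx
  set q := orderOf x with hqdef
  have hNodd : Odd (Nat.card N₀) := (h.odd_range T).of_dvd_nat (Subgroup.card_subgroup_dvd_card _)
  obtain ⟨a, ha, ha1⟩ := h.exists_ne_one T
  have key := pow_card_eq_one_of_norms (autT T).range.subtype N₀ hq.pos (x := x)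
    (fun n hn => hN.conj_mem n hn x) (fun i hi hiq n hn hc => ?_)
    (fun _ v => ?_) (fun v n hn => ?_) (⟨a, ha⟩ : (T : Subgroup G))
  · have h2 : (⟨a, ha⟩ : (T : Subgroup G)) ^ 2 = 1 :=
      Subtype.ext (by rw [SubgroupClass.coe_pow, pow_two]; exact h.sq_sylow T a ha)
    refine ha1 (congrArg Subtype.val (orderOf_eq_one_iff.1 (Nat.eq_one_of_dvd_coprimes
      (Nat.coprime_two_left.2 hNodd) (orderOf_dvd_of_pow_eq_one h2) (orderOf_dvd_of_pow_eq_one key))))
  · by_contra hn1
    have hor : orderOf n = r := ((Nat.dvd_prime h.hr).1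
      (orderOf_dvd_of_pow_eq_one (hexp n hn))).resolve_left fun e => hn1 (orderOf_eq_one_iff.1 e)
    have hoq : orderOf (x ^ i) = q := by
      refine orderOf_eq_prime (hp := ⟨hq⟩) (by rw [← pow_mul, mul_comm, pow_mul, hqdef, pow_orderOf_eq_one, one_pow]) ?_
      exact pow_ne_one_of_lt_orderOf hi.ne' hiq
    have he := (show Commute n (x ^ i) from hc).orderOf_mul_eq_mul_orderOf_of_coprime
      (by rw [hor, hoq]; exact (Nat.coprime_primes h.hr hq).2 (Ne.symm hxr))
    rw [hor, hoq] at he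
    by_cases h1 : n * x ^ i = 1
    · rw [h1, orderOf_one] at he
      exact h.hr.one_lt.ne' (Nat.eq_one_of_mul_eq_one_right he.symm)
    · have := (h.range_order h1).1
      rw [he] at this
      exact Nat.not_prime_mul h.hr.one_lt.ne' hq.one_lt.ne' this
  · refine h.eq_one_of_fixed hT hN hne fun m hm => ?_
    rw [map_prod]
    refine Fintype.prod_equiv (Equiv.mulLeft (⟨m, hm⟩ : N₀)) _ _ fun n => ?_
    simp [MulAut.mul_apply]
  · have hy : orderOf (n * x * n⁻¹) = q := orderOf_conj_eq n x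
    have := h.norm_fpf (y := ((n * x * n⁻¹ : (autT T).range) : MulAut (T : Subgroup G))) (q := q)
      (by rw [← SubgroupClass.coe_pow, ← hy, pow_orderOf_eq_one]; rfl)
      (fun a ha => h.fix_eq_one (fun e => hq.one_lt.ne' (by rw [← hy, e, orderOf_one]))
        (fun e => hxr (hy.symm.trans e)) ha) v
    simpa using this

theorem exists_minimal (T : Sylow 2 G) (hne : Nontrivial (autT T).range) :
    ∃ N₀ : Subgroup (autT T).range, N₀.Normal ∧ N₀ ≠ ⊥ ∧ (∀ a ∈ N₀, ∀ b ∈ N₀, a * b = b * a) ∧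
      ∃ s, s.Prime ∧ ∀ n ∈ N₀, n ^ s = 1 := by
  obtain ⟨N₀, hN, hne, hmin⟩ := CfsgLib.Solvable.exists_minimal_normal (G := (autT T).range)
  haveI := h.isSolvable_range T
  haveI := CfsgLib.Solvable.isMulCommutative_of_minimal_normal hne hmin
  obtain ⟨s, hs, hexp⟩ := CfsgLib.Solvable.exists_prime_pow_eq_one_of_minimal_normal hne hmin
  exact ⟨N₀, hN, hne, fun a ha b hb => congrArg Subtype.val
    (mul_comm' (⟨a, ha⟩ : N₀) ⟨b, hb⟩), s, hs, hexp⟩

theorem nontrivial_range {T : Sylow 2 G} (hT : Trans T) : Nontrivial (autT T).range := by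
  obtain ⟨a, ha, ha1⟩ := h.exists_ne_one T
  obtain ⟨b, hb, hb1, hba⟩ : ∃ b ∈ (T : Subgroup G), b ≠ 1 ∧ b ≠ a := by
    by_contra hne
    push Not at hne
    have h4 := h.four_le T
    let f : Bool → (T : Subgroup G) := fun i => if i then 1 else ⟨a, ha⟩
    have hf : Function.Surjective f := fun x => by
      by_cases hx : (x : G) = 1
      · exact ⟨true, Subtype.ext (by simp [f, hx])⟩
      · exact ⟨false, Subtype.ext (by simp [f, hne x x.2 hx])⟩
    have := Nat.card_le_card_of_surjective f hf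
    simp at this
    omega
  obtain ⟨n, hn, he⟩ := hT a ha ha1 b hb hb1
  refine ⟨⟨⟨autT T ⟨n, hn⟩, ⟨_, rfl⟩⟩, 1, fun e => ?_⟩⟩
  have := autT_eq_one_iff.1 (congrArg Subtype.val e) a ha
  rw [this.eq, mul_inv_cancel_right] at he
  exact hba he.symm

/-- If the automizer is an `r`-group, it acts regularly. -/
theorem stab_eq_one_of_r_group {T : Sylow 2 G} (hT : Trans T)
    (hall : ∀ x : (autT T).range, x ≠ 1 → orderOf x = r) {a : G} (ha : a ∈ (T : Subgroup G))
    (ha1 : a ≠ 1) {l : (autT T).range} (hla : l • (⟨a, ha⟩ : (T : Subgroup G)) = ⟨a, ha⟩) : l = 1 := by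
  classical
  haveI := Fact.mk h.hr
  haveI : Fact (Nat.Prime 2) := ⟨Nat.prime_two⟩
  set a' : (T : Subgroup G) := ⟨a, ha⟩
  have ha' : a' ≠ 1 := fun e => ha1 (congrArg Subtype.val e)
  have hp : IsPGroup r (autT T).range := IsPGroup.iff_orderOf.2 fun x => by
    by_cases hx : x = 1
    · exact ⟨0, by rw [hx, orderOf_one, pow_zero]⟩
    · exact ⟨1, by rw [hall x hx, pow_one]⟩
  haveI : Nontrivial (autT T).range := h.nontrivial_range hT
  haveI := hp.center_nontrivial
  obtain ⟨⟨z, hz⟩, hz1⟩ := exists_ne (1 : Subgroup.center (autT T).range)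
  have hz1' : z ≠ 1 := fun e => hz1 (Subtype.ext e)
  have hzN : (zpowers z).Normal := ⟨fun y hy g => by
    obtain ⟨i, rfl⟩ := hy
    rw [show g * z ^ i * g⁻¹ = z ^ i from
      mul_inv_eq_iff_eq_mul.2 ((Commute.zpow_right (Subgroup.mem_center_iff.1 hz g : Commute g z) i).eq)]
    exact zpow_mem (mem_zpowers z) i⟩
  -- the orbit of `a` is everything
  have horb : MulAction.orbit (autT T).range a' = {b | b ≠ 1} := by
    ext b
    constructor
    · rintro ⟨g, rfl⟩ e
      refine ha' ?_
      have e' : g • a' = g • (1 : (T : Subgroup G)) := by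
        show g • a' = g • 1
        rw [smul_one]; exact e
      exact MulAction.injective g e'
    · intro hb
      obtain ⟨m, hm, hme⟩ := hT a ha ha1 b b.2 (fun e => hb (Subtype.ext e))
      exact ⟨⟨autT T ⟨m, hm⟩, ⟨_, rfl⟩⟩, Subtype.ext hme⟩
  have hcard : Nat.card (MulAction.orbit (autT T).range a') + 1 = Nat.card (T : Subgroup G) := by
    rw [horb, Nat.card_coe_set_eq, show {b : (T : Subgroup G) | b ≠ 1} = {1}ᶜ from rfl,
      Set.ncard_compl, Set.ncard_singleton]
    have := Nat.card_pos (α := (T : Subgroup G))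
    omega
  obtain ⟨k, hk⟩ := hp.card_orbit a'
  obtain ⟨m, hm⟩ := IsPGroup.iff_card.1 T.2
  have h4 := h.four_le T
  have hm2 : 2 ≤ m := by
    by_contra hlt
    have := Nat.pow_le_pow_right two_pos (show m ≤ 1 by omega)
    omega
  have hk1 := exponent_eq_one h.hr h.r_odd hm2 (by rw [← hm, ← hcard, hk])
  -- the central element moves `a` to everything
  have hzfix : ∀ i : ℕ, 0 < i → i < r → z ^ i • a' ≠ a' := by
    intro i hi hir e
    refine ha' (h.eq_one_of_fixed hT hzN (by rw [Ne, zpowers_eq_bot]; exact hz1') fun y hy => ?_)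
    obtain ⟨j, rfl⟩ := hy
    have hgen : z ∈ zpowers (z ^ i) := by
      obtain ⟨u, hu⟩ := exists_pow_eq_self_of_coprime (x := z) (n := i) (by
        rw [hall z hz1']
        exact ((h.hr.coprime_iff_not_dvd).2 fun hd => by
          have := Nat.le_of_dvd hi hd; omega).symm)
      have hp' := pow_mem (mem_zpowers (z ^ i)) u
      rwa [hu] at hp'
    obtain ⟨j', hj'⟩ : z ^ j ∈ zpowers (z ^ i) := zpow_mem hgen j
    show (z ^ j) • a' = a'
    rw [← hj']
    exact MulAction.mem_stabilizer_iff.1 (zpow_mem (show z ^ i ∈ MulAction.stabilizer (autT T).range a' from e) j')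
  let f : Fin r → MulAction.orbit (autT T).range a' := fun i => ⟨z ^ (i : ℕ) • a', MulAction.mem_orbit _ _⟩
  have hf : Function.Surjective f := by
    refine (Function.Injective.bijective_of_nat_card_le ?_ (by rw [hk, hk1, pow_one, Nat.card_fin])).2
    intro i j e
    have e' : z ^ (i : ℕ) • a' = z ^ (j : ℕ) • a' := congrArg Subtype.val e
    by_contra hij
    rcases lt_or_gt_of_ne (Fin.val_ne_of_ne hij) with hlt | hlt
    · refine hzfix ((j : ℕ) - i) (by omega) (by omega) (MulAction.injective (z ^ (i : ℕ)) ?_)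
      show z ^ (i : ℕ) • z ^ ((j : ℕ) - i) • a' = z ^ (i : ℕ) • a'
      rw [← mul_smul, ← pow_add, Nat.add_sub_cancel' hlt.le, e']
    · refine hzfix ((i : ℕ) - j) (by omega) (by omega) (MulAction.injective (z ^ (j : ℕ)) ?_)
      show z ^ (j : ℕ) • z ^ ((i : ℕ) - j) • a' = z ^ (j : ℕ) • a'
      rw [← mul_smul, ← pow_add, Nat.add_sub_cancel' hlt.le, e']
  refine Subtype.ext (MulEquiv.ext fun b => ?_)
  by_cases hb : b = 1
  · rw [hb, map_one, map_one]
  obtain ⟨i, hi⟩ := hf ⟨b, horb ▸ hb⟩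
  have hb' : z ^ (i : ℕ) • a' = b := congrArg Subtype.val hi
  show l • b = b
  rw [← hb', ← mul_smul, show l * z ^ (i : ℕ) = z ^ (i : ℕ) * l from
    (Commute.pow_right (Subgroup.mem_center_iff.1 hz l : Commute l z) _).eq, mul_smul, hla]


end Spec

end CfsgLib.InvChar.OneComposite
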