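import Cfsg.Agent.Lib.FiveOrbit.Core
import Cfsg.Agent.Lib.FT.OddOrder

/-!
# One composite element order `2 r`: basic facts

`Spec G r`: a simple group in which every element order is `1`, a prime or `2 r`, with `r` an odd
prime, and in which `2 r` occurs.
-/

set_option autoImplicit false
set_option linter.unusedSectionVars false
set_option linter.style.haveILetI false

namespace CfsgLib.InvChar.OneComposite

open Subgroup CfsgLib.Invol

/-- The standing hypotheses. -/
structure Spec (G : Type*) [Group G] (r : ℕ) : Prop where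
  simple : IsSimpleGroup G
  nonab : ¬ IsMulCommutative G
  hr : r.Prime
  r_odd : Odd r
  ord : ∀ g : G, orderOf g = 1 ∨ (orderOf g).Prime ∨ orderOf g = 2 * r
  two_r : ∃ g : G, orderOf g = 2 * r

/-- The odd core of a subgroup, as a subgroup of the whole group. -/
def oddSub {G : Type*} [Group G] (K : Subgroup G) : Subgroup G := (Cfsg.oddCore K).map K.subtype

variable {G : Type*} [Group G] [Finite G] {r : ℕ}

theorem odd_of_mem {K : Subgroup G} (hK : Odd (Nat.card K)) {x : G} (hx : x ∈ K) :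
    Odd (orderOf x) :=
  hK.of_dvd_nat (Subgroup.orderOf_dvd_natCard _ hx)

theorem eq_one_of_odd_sq {x : G} (hx : Odd (orderOf x)) (h : x * x = 1) : x = 1 :=
  orderOf_eq_one_iff.1 (Nat.eq_one_of_dvd_coprimes (Nat.coprime_two_left.2 hx)
    (orderOf_dvd_of_pow_eq_one ((pow_two x).trans h)) dvd_rfl)

theorem eq_one_of_two_of_odd {x : G} {H : Subgroup G} (hH : IsPGroup 2 H) (hx : x ∈ H)
    (ho : Odd (orderOf x)) : x = 1 := by
  haveI : Fact (Nat.Prime 2) := ⟨Nat.prime_two⟩
  obtain ⟨k, hk⟩ := IsPGroup.iff_orderOf.1 hH ⟨x, hx⟩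
  rw [← Subgroup.orderOf_coe] at hk
  rcases k with _ | k
  · exact orderOf_eq_one_iff.1 (by simpa using hk)
  · exact absurd (hk ▸ ho) (Nat.not_odd_iff_even.2 (even_iff_two_dvd.2 (dvd_pow_self 2 k.succ_ne_zero)))

theorem isMulCommutative_of {H : Subgroup G} (h : ∀ a ∈ H, ∀ b ∈ H, a * b = b * a) :
    IsMulCommutative H := ⟨⟨fun a b => Subtype.ext (h a a.2 b b.2)⟩⟩

theorem mem_centralizer_commute {H : Subgroup G} {x : G} :
    x ∈ centralizer (H : Set G) ↔ ∀ a ∈ H, Commute a x :=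
  ⟨fun h a ha => mem_centralizer_iff.1 h a ha, fun h => mem_centralizer_iff.2 fun a ha => (h a ha).eq⟩

theorem normalizer_of_conj_mem {H : Subgroup G} {g : G} (h : ∀ a ∈ H, g * a * g⁻¹ ∈ H) :
    g ∈ normalizer (H : Set G) := by
  refine Subgroup.mem_normalizer_iff.2 fun b => ⟨h b, fun hb => ?_⟩
  let f : H → H := fun b => ⟨g * (b : G) * g⁻¹, h b b.2⟩
  have hf : Function.Injective f := fun a b e =>
    Subtype.ext (by simpa [f] using congrArg Subtype.val e)
  obtain ⟨c, hc⟩ := Finite.injective_iff_surjective.1 hf ⟨_, hb⟩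
  have hcb : g * (c : G) * g⁻¹ = g * b * g⁻¹ := congrArg Subtype.val hc
  have : (c : G) = b := by simpa using hcb
  rw [← this]; exact c.2

namespace Spec

variable (h : Spec G r)
include h

theorem r_ne_two : r ≠ 2 := fun e => absurd (e ▸ h.r_odd) (by decide)

theorem three_le : 3 ≤ r := by
  have := h.r_ne_two
  have := h.hr.two_le
  omega

/-- A composite element order is `2 r`, so commuting elements of distinct prime orders have orders
`2` and `r`. -/
theorem prime_pair {a b : G} {q s : ℕ} (hq : q.Prime) (hs : s.Prime) (hne : q ≠ s)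
    (ha : orderOf a = q) (hb : orderOf b = s) (hc : Commute a b) :
    (q = 2 ∧ s = r) ∨ (q = r ∧ s = 2) := by
  have hco : q.Coprime s := (Nat.coprime_primes hq hs).2 hne
  have he := hc.orderOf_mul_eq_mul_orderOf_of_coprime (by rw [ha, hb]; exact hco)
  rw [ha, hb] at he
  rcases h.ord (a * b) with e | e | e <;> rw [he] at e
  · exact absurd (Nat.dvd_one.1 (e ▸ dvd_mul_right q s)) hq.one_lt.ne'
  · exact absurd e (Nat.not_prime_mul hq.one_lt.ne' hs.one_lt.ne')
  · have h2 := Nat.prime_two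
    have hq' : q = 2 ∨ q = r := ((Nat.Prime.dvd_mul hq).1 (e ▸ dvd_mul_right q s)).imp
      (Nat.prime_dvd_prime_iff_eq hq h2).1 (Nat.prime_dvd_prime_iff_eq hq h.hr).1
    rcases hq' with rfl | rfl
    · exact Or.inl ⟨rfl, Nat.eq_of_mul_eq_mul_left two_pos e⟩
    · exact Or.inr ⟨rfl, Nat.eq_of_mul_eq_mul_left h.hr.pos (by rw [e, mul_comm])⟩

theorem prime_of_odd {g : G} (hg : Odd (orderOf g)) (h1 : g ≠ 1) : (orderOf g).Prime := by
  rcases h.ord g with e | e | e
  · exact absurd (orderOf_eq_one_iff.1 e) h1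
  · exact e
  · rw [e] at hg; exact absurd hg (Nat.not_odd_iff_even.2 (even_two_mul r))

/-- An odd element commuting with an involution has order `r`. -/
theorem order_of_invol {x t : G} (ht : orderOf t = 2) (hc : Commute x t) (hx : Odd (orderOf x))
    (h1 : x ≠ 1) : orderOf x = r := by
  have hp := h.prime_of_odd hx h1
  have hne : orderOf x ≠ 2 := fun e => by rw [e] at hx; exact absurd hx (by decide)
  rcases h.prime_pair hp Nat.prime_two hne rfl ht hc with ⟨e, -⟩ | ⟨e, -⟩
  · exact absurd e hne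
  · exact e

/-- An odd element commuting with an element of order `r` has order `r`. -/
theorem order_of_r {x y : G} (hy : orderOf y = r) (hc : Commute x y) (hx : Odd (orderOf x))
    (h1 : x ≠ 1) : orderOf x = r := by
  by_contra hne
  rcases h.prime_pair (h.prime_of_odd hx h1) h.hr hne rfl hy hc with ⟨e, -⟩ | ⟨e, -⟩
  · rw [e] at hx; exact absurd hx (by decide)
  · exact hne e

theorem sq_sylow (T : Sylow 2 G) : ∀ a ∈ (T : Subgroup G), a * a = 1 := by
  intro a ha
  haveI : Fact (Nat.Prime 2) := ⟨Nat.prime_two⟩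
  obtain ⟨k, hk⟩ := IsPGroup.iff_orderOf.1 T.2 ⟨a, ha⟩
  rw [← Subgroup.orderOf_coe] at hk
  rw [← pow_two, ← orderOf_dvd_iff_pow_eq_one]
  rcases h.ord a with e | e | e
  · rw [e]; exact one_dvd _
  · rw [(Nat.prime_dvd_prime_iff_eq e Nat.prime_two).1 (e.dvd_of_dvd_pow hk.dvd)]
  · exfalso
    have hd : r ∣ 2 ^ k := hk ▸ e ▸ dvd_mul_left r 2
    exact h.r_ne_two ((Nat.prime_dvd_prime_iff_eq h.hr Nat.prime_two).1 (h.hr.dvd_of_dvd_pow hd))

theorem comm_sylow (T : Sylow 2 G) {a b : G} (ha : a ∈ (T : Subgroup G)) (hb : b ∈ (T : Subgroup G)) :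
    Commute a b := by
  have hinv : ∀ c ∈ (T : Subgroup G), c⁻¹ = c := fun c hc =>
    inv_eq_of_mul_eq_one_right (h.sq_sylow T c hc)
  calc a * b = (a * b)⁻¹ := (hinv _ (mul_mem ha hb)).symm
    _ = b * a := by rw [mul_inv_rev, hinv a ha, hinv b hb]

theorem invol_sylow {T : Sylow 2 G} {a : G} (ha : a ∈ (T : Subgroup G)) (h1 : a ≠ 1) :
    orderOf a = 2 :=
  invol_of_mul_self (h.sq_sylow T a ha) h1

theorem pow_r {R : Subgroup G} (hR : IsPGroup r R) {x : G} (hx : x ∈ R) : x ^ r = 1 := by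
  haveI := Fact.mk h.hr
  obtain ⟨k, hk⟩ := IsPGroup.iff_orderOf.1 hR ⟨x, hx⟩
  rw [← Subgroup.orderOf_coe] at hk
  rw [← orderOf_dvd_iff_pow_eq_one]
  rcases h.ord x with e | e | e
  · rw [e]; exact one_dvd _
  · rw [(Nat.prime_dvd_prime_iff_eq e h.hr).1 (e.dvd_of_dvd_pow hk.dvd)]
  · exfalso
    have hd : 2 ∣ r ^ k := hk ▸ e ▸ dvd_mul_right 2 r
    exact h.r_ne_two.symm ((Nat.prime_dvd_prime_iff_eq Nat.prime_two h.hr).1 (Nat.prime_two.dvd_of_dvd_pow hd))

theorem isPGroup_r_of_order {X : Subgroup G} (hX : ∀ x ∈ X, x ≠ 1 → orderOf x = r) : IsPGroup r X := by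
  haveI := Fact.mk h.hr
  refine IsPGroup.iff_orderOf.2 fun x => ?_
  rw [← Subgroup.orderOf_coe]
  by_cases hx : (x : G) = 1
  · exact ⟨0, by rw [hx, orderOf_one, pow_zero]⟩
  · exact ⟨1, by rw [hX x x.2 hx, pow_one]⟩

theorem isPGroup_of_commute {X : Subgroup G} {t : G} (ht : orderOf t = 2) (hX : Odd (Nat.card X))
    (hc : ∀ x ∈ X, Commute x t) : IsPGroup r X :=
  h.isPGroup_r_of_order fun x hx h1 => h.order_of_invol ht (hc x hx) (odd_of_mem hX hx) h1

/-- A subgroup centralising an element of order `2` or `r` is a `{2, r}`-group. -/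
theorem prime_cases {X : Subgroup G} {g : G} (hg : orderOf g = 2 ∨ orderOf g = r)
    (hc : ∀ x ∈ X, Commute x g) {q : ℕ} (hq : q.Prime) (hd : q ∣ Nat.card X) : q = 2 ∨ q = r := by
  haveI := Fact.mk hq
  obtain ⟨⟨x, hxX⟩, hx⟩ := exists_prime_orderOf_dvd_card' q hd
  rw [← Subgroup.orderOf_coe] at hx
  by_contra hne
  push Not at hne
  have hodd : Odd (orderOf x) := hx ▸ hq.odd_of_ne_two hne.1
  have h1 : x ≠ 1 := fun e => hq.one_lt.ne' (by rw [← hx]; simp [e])
  rcases hg with hg | hg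
  · exact hne.2 (hx ▸ h.order_of_invol hg (hc x hxX) hodd h1)
  · exact hne.2 (hx ▸ h.order_of_r hg (hc x hxX) hodd h1)

theorem isSolvable_of_commute {X : Subgroup G} {g : G} (hg : orderOf g = 2 ∨ orderOf g = r)
    (hc : ∀ x ∈ X, Commute x g) : Group.IsSolvable X := by
  obtain ⟨a, b, hab⟩ : ∃ a b, Nat.card X = 2 ^ a * r ^ b := by
    obtain ⟨a, m, hm, he⟩ := Nat.exists_eq_pow_mul_and_not_dvd (Nat.card_pos (α := X)).ne' 2 (by norm_num)
    refine ⟨a, _, he.trans (congrArg _ (Nat.eq_prime_pow_of_unique_prime_dvd (p := r) (n := m)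
      (fun e => hm (e ▸ dvd_zero 2)) fun {d} hd hdd => ?_))⟩
    rcases h.prime_cases hg hc hd (hdd.trans (he ▸ dvd_mul_left m _)) with rfl | rfl
    · exact absurd hdd hm
    · rfl
  exact CfsgLib.Char.burnside_pq 2 r Nat.prime_two h.hr a b X hab

theorem isSolvable_centralizer {g : G} (hg : orderOf g = 2 ∨ orderOf g = r) :
    Group.IsSolvable (Subgroup.centralizer ({g} : Set G)) :=
  h.isSolvable_of_commute hg fun _ hx => Subgroup.mem_centralizer_singleton_iff.1 hx

theorem four_le (T : Sylow 2 G) : 4 ≤ Nat.card (T : Subgroup G) := by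
  by_contra hlt
  haveI := h.simple
  haveI : Fact (Nat.Prime 2) := ⟨Nat.prime_two⟩
  obtain ⟨n, hn⟩ := IsPGroup.iff_card.1 T.2
  have hn1 : n ≤ 1 := by
    by_contra h2
    exact hlt (hn ▸ (show 2 ^ 2 ≤ 2 ^ n from Nat.pow_le_pow_right two_pos (by omega)))
  haveI : IsCyclic (T : Subgroup G) := by
    rcases Nat.le_one_iff_eq_zero_or_eq_one.1 hn1 with rfl | rfl
    · haveI := (Nat.card_eq_one_iff_unique.1 hn).1
      exact isCyclic_of_subsingleton
    · exact isCyclic_of_prime_card (hn.trans (pow_one 2))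
  obtain ⟨W, hWn, hWo, hWi⟩ := CfsgLib.EqOrder.exists_compl_of_cyclic_two T
  obtain ⟨g, hg⟩ := h.two_r
  have hdvd := orderOf_dvd_natCard g
  rcases IsSimpleGroup.eq_bot_or_eq_top_of_normal W hWn with rfl | rfl
  · rw [Subgroup.index_bot] at hWi
    rw [hWi, hg, hn] at hdvd
    have := Nat.le_of_dvd (by positivity) hdvd
    have := h.three_le
    have := Nat.pow_le_pow_right two_pos hn1
    omega
  · rw [Subgroup.card_top, Nat.odd_iff] at hWo
    rw [hg] at hdvd
    have : 2 ∣ Nat.card G := (dvd_mul_right 2 r).trans hdvd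
    omega

theorem not_isCyclic_sylow (T : Sylow 2 G) : ¬ IsCyclic (T : Subgroup G) := by
  intro hc
  obtain ⟨g, hg⟩ := hc.exists_ofOrder_eq_natCard
  have h1 : orderOf g ∣ 2 := orderOf_dvd_of_pow_eq_one (Subtype.ext (by
    rw [SubgroupClass.coe_pow, pow_two]; exact h.sq_sylow T g g.2))
  have := Nat.le_of_dvd two_pos h1
  have := h.four_le T
  omega

theorem exists_ne_one (T : Sylow 2 G) : ∃ a ∈ (T : Subgroup G), a ≠ 1 := by
  by_contra hne
  push Not at hne
  have := h.four_le T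
  rw [(Subgroup.eq_bot_iff_forall _).2 hne, Subgroup.card_bot] at this
  omega

theorem exists_conj_mem (T : Sylow 2 G) {u : G} (hu : orderOf u = 2) :
    ∃ g : G, g * u * g⁻¹ ∈ (T : Subgroup G) := exists_conj_invol_mem_sylow T hu

/-- An element normalising a Sylow 2-subgroup and of two-power order lies in it. -/
theorem mem_of_normalizer {T : Sylow 2 G} {x : G} (hn : x ∈ normalizer ((T : Subgroup G) : Set G))
    (hx : x * x = 1) : x ∈ (T : Subgroup G) := CAHyp.mem_T_of_sq hn hx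

end Spec

end CfsgLib.InvChar.OneComposite
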