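import Cfsg.Agent.Lib.InvChar.OneComposite.Local

/-!
# All odd cores of involution centralisers lie in one `r`-subgroup

This holds when `C(T)` has a nontrivial odd element or `|T| ≥ 8`.
-/

set_option autoImplicit false
set_option linter.unusedSectionVars false
set_option linter.style.haveILetI false

namespace CfsgLib.InvChar.OneComposite

open Subgroup CfsgLib.Invol CfsgLib.EqOrder CfsgLib.FiveOrbit
open scoped Pointwise

variable {G : Type*} [Group G] [Finite G] {r : ℕ}

namespace Spec

variable (h : Spec G r)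
include h

theorem invR_core {T : Sylow 2 G} {a : G} (ha : a ∈ (T : Subgroup G)) (ha1 : a ≠ 1) :
    InvR T r (core a) :=
  ⟨h.isPGroup_core (h.invol_sylow ha ha1), fun _ hb =>
    normalizer_of_conj_mem fun _ hw => core_normal (h.comm_sylow T hb ha) hw⟩

/-- An odd `T`-invariant group generated by fixed points lies in any bound of the cores. -/
theorem le_of_cores {T : Sylow 2 G} {R Y : Subgroup G}
    (hR : ∀ a ∈ (T : Subgroup G), a ≠ 1 → core a ≤ R) (hY : Odd (Nat.card Y))
    (hYT : (T : Subgroup G) ≤ normalizer (Y : Set G)) : Y ≤ R := by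
  haveI : Fact (Nat.Prime 2) := ⟨Nat.prime_two⟩
  have hab : IsMulCommutative (T : Subgroup G) :=
    isMulCommutative_of fun a ha b hb => (h.comm_sylow T ha hb).eq
  have hcop : (Nat.card (T : Subgroup G)).Coprime (Nat.card Y) := by
    rw [T.card_eq_multiplicity]
    exact Nat.Coprime.pow_left _ (Nat.coprime_two_left.2 hY)
  rw [← CfsgLib.Coprime.iSup_centralizer_eq hab (h.not_isCyclic_sylow T) hYT hcop]
  refine iSup_le fun ⟨a, ha, ha1⟩ => le_trans ?_ (hR a ha ha1)
  refine h.le_core ha ha1 (hY.of_dvd_nat (Subgroup.card_dvd_of_le inf_le_left))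
    (fun y hy => Subgroup.mem_centralizer_singleton_iff.1 hy.2) fun b hb y hy => ⟨?_, ?_⟩
  · exact (Subgroup.mem_normalizer_iff.1 (hYT hb) y).1 hy.1
  · have h1 := (Commute.conj_iff b).2 (Subgroup.mem_centralizer_singleton_iff.1 hy.2 : Commute y a)
    rw [(h.comm_sylow T hb ha).eq, mul_inv_cancel_right] at h1
    exact Subgroup.mem_centralizer_singleton_iff.2 h1.eq

theorem exists_bound (T : Sylow 2 G)
    (hcase : (∃ z : G, z ≠ 1 ∧ Odd (orderOf z) ∧ ∀ a ∈ (T : Subgroup G), Commute z a) ∨
      8 ≤ Nat.card (T : Subgroup G)) :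
    ∃ R, InvR T r R ∧ ∀ a ∈ (T : Subgroup G), a ≠ 1 → core a ≤ R := by
  haveI : Fact (Nat.Prime 2) := ⟨Nat.prime_two⟩
  haveI := Fact.mk h.hr
  by_cases hall : ∀ a ∈ (T : Subgroup G), a ≠ 1 → core a = ⊥
  · refine ⟨⊥, ⟨IsPGroup.of_bot, fun a _ => normalizer_of_conj_mem fun x hx => ?_⟩,
      fun a ha ha1 => (hall a ha ha1).le⟩
    rw [Subgroup.mem_bot] at hx ⊢; subst hx; group
  push Not at hall
  -- two nontrivial cores are linked
  have key : ∀ a ∈ (T : Subgroup G), a ≠ 1 → core a ≠ ⊥ → ∀ b ∈ (T : Subgroup G), b ≠ 1 → core b ≠ ⊥ →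
      ∀ {Ra Rb}, InvR T r Ra → InvR T r Rb → (∀ M, InvR T r M → Ra ≤ M → M = Ra) →
        (∀ M, InvR T r M → Rb ≤ M → M = Rb) → core a ≤ Ra → core b ≤ Rb → Ra = Rb := by
    intro a ha ha1 hna b hb hb1 hnb Ra Rb hRa hRb hmA hmB hA hB
    rcases hcase with ⟨z, hz1, hzo, hzT⟩ | h8
    · have hzc : ∀ c ∈ (T : Subgroup G), c ≠ 1 → z ∈ core c := fun c hc hc1 =>
        h.le_core (Y := zpowers z) hc hc1 (by rw [Nat.card_zpowers]; exact hzo)
          (fun y ⟨i, hi⟩ => hi ▸ (hzT c hc).zpow_left i)
          (fun d hd y ⟨i, hi⟩ => by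
            subst hi
            rw [← ((hzT d hd).zpow_left i).eq, mul_inv_cancel_right]
            exact zpow_mem (mem_zpowers z) i)
          (mem_zpowers z)
      exact h.max_eq hRa hRb hmA hmB fun e => hz1 (Subgroup.mem_bot.1
        (e ▸ ⟨hA (hzc a ha ha1), hB (hzc b hb hb1)⟩))
    · -- hyperplanes fixing points of the cores
      have hyp : ∀ c ∈ (T : Subgroup G), c ≠ 1 → core c ≠ ⊥ → ∃ B : Subgroup G, B ≤ (T : Subgroup G) ∧
          B.relIndex (T : Subgroup G) ≤ 2 ∧ core c ⊓ centralizer (B : Set G) ≠ ⊥ := by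
        intro c hc hc1 hnc
        by_contra hne
        push Not at hne
        have hab : IsMulCommutative (T : Subgroup G) :=
          isMulCommutative_of fun a ha b hb => (h.comm_sylow T ha hb).eq
        have hcop : (Nat.card (T : Subgroup G)).Coprime (Nat.card (core c)) := by
          rw [T.card_eq_multiplicity]
          exact Nat.Coprime.pow_left _ (Nat.coprime_two_left.2 (odd_core c))
        refine hnc (le_bot_iff.1 ?_)
        conv_lhs => rw [← CfsgLib.Coprime.cocyclicJoin_eq hab (h.invR_core hc hc1).2 hcop]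
        refine iSup₂_le ?_
        rintro B ⟨hBT, x, hx, hBx⟩
        refine (hne B hBT ?_).le
        -- `T = B ∪ B x`
        have hxx : zpowers x ≤ normalizer (B : Set G) := zpowers_le.2 (normalizer_of_conj_mem fun y hy => by
          rw [(h.comm_sylow T hx (hBT hy)).eq, mul_inv_cancel_right]; exact hy)
        have hz2 : Nat.card (zpowers x) ≤ 2 := by
          rw [Nat.card_zpowers]
          exact Nat.le_of_dvd two_pos (orderOf_dvd_of_pow_eq_one (by rw [pow_two]; exact h.sq_sylow T x hx))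
        have hcard : Nat.card (T : Subgroup G) ≤ Nat.card B * 2 := by
          have hcoe : ((T : Subgroup G) : Set G) = (zpowers x : Set G) * (B : Set G) := by
            rw [← Subgroup.coe_mul_of_left_le_normalizer_right _ _ hxx, sup_comm, hBx]
          have h1 : Nat.card (T : Subgroup G) ≤ Nat.card ((zpowers x) × B) := by
            refine Nat.card_le_card_of_surjective
              (fun p => ⟨(p.1 : G) * p.2, by rw [← SetLike.mem_coe, hcoe]; exact Set.mul_mem_mul p.1.2 p.2.2⟩) ?_
            rintro ⟨y, hy⟩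
            rw [← SetLike.mem_coe, hcoe] at hy
            obtain ⟨u, hu, v, hv, rfl⟩ := Set.mem_mul.1 hy
            exact ⟨(⟨u, hu⟩, ⟨v, hv⟩), rfl⟩
          rw [Nat.card_prod, mul_comm] at h1
          exact h1.trans (Nat.mul_le_mul_left _ hz2)
        have h2 := (B.subgroupOf (T : Subgroup G)).card_mul_index
        rw [Nat.card_congr (subgroupOfEquivOfLe hBT).toEquiv] at h2
        exact Nat.le_of_mul_le_mul_left (h2.le.trans hcard) Nat.card_pos
      obtain ⟨B, hBT, hBi, hBne⟩ := hyp a ha ha1 hna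
      obtain ⟨B', hBT', hBi', hBne'⟩ := hyp b hb hb1 hnb
      obtain ⟨c, hc, hc1⟩ : ∃ c ∈ B ⊓ B', c ≠ 1 := by
        by_contra hne
        push Not at hne
        have h4 : (B ⊓ B').relIndex (T : Subgroup G) ≤ 4 :=
          Subgroup.relIndex_inf_le.trans (Nat.mul_le_mul hBi hBi')
        rw [(Subgroup.eq_bot_iff_forall _).2 hne, Subgroup.relIndex_bot_left] at h4
        omega
      have hcT : c ∈ (T : Subgroup G) := hBT hc.1
      have hle : ∀ {B₀ : Subgroup G} {d : G}, d ∈ (T : Subgroup G) → B₀ ≤ (T : Subgroup G) → c ∈ B₀ →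
          core d ⊓ centralizer (B₀ : Set G) ≤ core c := by
        intro B₀ d hd hB₀ hcB
        refine h.le_core hcT hc1 ((odd_core d).of_dvd_nat (Subgroup.card_dvd_of_le inf_le_left))
          (fun y hy => (mem_centralizer_commute.1 hy.2 c hcB).symm) fun e he y hy =>
            ⟨core_normal (h.comm_sylow T he hd) hy.1, mem_centralizer_commute.2 fun e' he' => ?_⟩
        have h1 := (Commute.conj_iff e).2 (mem_centralizer_commute.1 hy.2 e' he')
        rwa [(h.comm_sylow T he (hB₀ he')).eq, mul_inv_cancel_right] at h1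
      obtain ⟨Rc, hRc, hcR, hmC⟩ := exists_max_invR T (h.invR_core hcT hc1)
      have e1 := h.max_eq hRa hRc hmA hmC fun e => hBne (le_bot_iff.1
        ((le_inf (inf_le_left.trans hA) ((hle ha hBT hc.1).trans hcR)).trans e.le))
      have e2 := h.max_eq hRb hRc hmB hmC fun e => hBne' (le_bot_iff.1
        ((le_inf (inf_le_left.trans hB) ((hle hb hBT' hc.2).trans hcR)).trans e.le))
      exact e1.trans e2.symm
  obtain ⟨a, ha, ha1, hna⟩ := hall
  obtain ⟨R, hR, haR, hmR⟩ := exists_max_invR T (h.invR_core ha ha1)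
  refine ⟨R, hR, fun b hb hb1 => ?_⟩
  by_cases hnb : core b = ⊥
  · rw [hnb]; exact bot_le
  obtain ⟨Rb, hRb, hbR, hmB⟩ := exists_max_invR T (h.invR_core hb hb1)
  exact (key a ha ha1 hna b hb hb1 hnb hR hRb hmR hmB haR hbR) ▸ hbR

end Spec

end CfsgLib.InvChar.OneComposite
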