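import Cfsg.Agent.Lib.InvChar.OneComposite.Strong
import Cfsg.Agent.Lib.PLocal.Section
import Cfsg.Agent.Lib.StructC.BurnsideBasis

/-!
# A nontrivial odd core: `N(T)` is strongly embedded and centralised cores are equal

`Bounded`: the odd cores lie in one `r`-group and one of them is nontrivial.  Then `W`, the group
they generate, is centralised by `T`, equals each core, and `N(T) = N(W)` is strongly embedded.
-/

set_option autoImplicit false
set_option linter.unusedSectionVars false
set_option linter.style.haveILetI false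

namespace CfsgLib.InvChar.OneComposite

open Subgroup CfsgLib.Invol CfsgLib.EqOrder CfsgLib.FiveOrbit

variable {G : Type*} [Group G] [Finite G] {r : ℕ}

/-- The cores of the involutions of `T` generate a nontrivial `r`-group. -/
structure Bounded (T : Sylow 2 G) (r : ℕ) : Prop where
  bound : ∃ R, InvR T r R ∧ ∀ a ∈ (T : Subgroup G), a ≠ 1 → core a ≤ R
  ne_bot : ∃ a ∈ (T : Subgroup G), a ≠ 1 ∧ core a ≠ ⊥

/-- The subgroup generated by the cores. -/
noncomputable def cores (T : Sylow 2 G) : Subgroup G :=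
  ⨆ a : {a : G // a ∈ (T : Subgroup G) ∧ a ≠ 1}, core (a : G)

theorem core_le_cores {T : Sylow 2 G} {a : G} (ha : a ∈ (T : Subgroup G)) (ha1 : a ≠ 1) :
    core a ≤ cores T :=
  le_iSup (fun a : {a : G // a ∈ (T : Subgroup G) ∧ a ≠ 1} => core (a : G)) ⟨a, ha, ha1⟩

namespace Spec

variable (h : Spec G r)
include h

theorem cores_facts {T : Sylow 2 G} (hB : Bounded T r) :
    IsPGroup r (cores T) ∧ cores T ≠ ⊥ ∧
      normalizer ((T : Subgroup G) : Set G) ≤ normalizer (cores T : Set G) := by
  obtain ⟨⟨R, hR, hle⟩, a, ha, ha1, hne⟩ := hB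
  refine ⟨hR.1.to_le (iSup_le fun b => hle b b.2.1 b.2.2),
    fun e => hne (le_bot_iff.1 ((core_le_cores ha ha1).trans e.le)), fun g hg => ?_⟩
  refine normalizer_of_conj_mem ?_
  have key : cores T ≤ (cores T).comap (MulAut.conj g).toMonoidHom := by
    refine iSup_le fun b w hw => ?_
    exact core_le_cores ((Subgroup.mem_normalizer_iff.1 hg _).1 b.2.1)
      (fun e => b.2.2 (conj_eq_one_iff.1 e)) (core_conj hw)
  exact fun x hx => key hx

theorem le_cores {T : Sylow 2 G} {Y : Subgroup G} (hY : Odd (Nat.card Y))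
    (hYT : (T : Subgroup G) ≤ normalizer (Y : Set G)) : Y ≤ cores T :=
  h.le_of_cores (fun _ ha ha1 => core_le_cores ha ha1) hY hYT

theorem centralizer_le_normalizer_cores {T : Sylow 2 G} (hB : Bounded T r) {a c : G}
    (ha : a ∈ (T : Subgroup G)) (ha1 : a ≠ 1) (hc : Commute c a) :
    c ∈ normalizer (cores T : Set G) := by
  obtain ⟨w, hw, n, hn, -, rfl⟩ := h.decomp_centralizer ha ha1 hc
  exact mul_mem (le_normalizer (core_le_cores ha ha1 hw)) ((h.cores_facts hB).2.2 hn)

theorem se_cores {T : Sylow 2 G} (hB : Bounded T r) :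
    Cfsg.IsStronglyEmbedded (normalizer (cores T : Set G)) := by
  haveI := h.simple
  obtain ⟨hp, hne, hN⟩ := h.cores_facts hB
  refine h.isStronglyEmbedded (fun e => ?_) hN fun a ha ha1 c hc =>
    h.centralizer_le_normalizer_cores hB ha ha1 hc
  rcases IsSimpleGroup.eq_bot_or_eq_top_of_normal _ (Subgroup.normalizer_eq_top_iff.1 e) with e' | e'
  · exact hne e'
  · obtain ⟨g, hg⟩ := h.two_r
    have hgr := orderOf_dvd_of_pow_eq_one (h.pow_r hp (e' ▸ mem_top g : g ∈ cores T))
    rw [hg] at hgr
    have := Nat.le_of_dvd h.hr.pos hgr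
    have := h.hr.pos
    omega

/-- `T` centralises the cores. -/
theorem commute_cores {T : Sylow 2 G} (hB : Bounded T r) {a w : G} (ha : a ∈ (T : Subgroup G))
    (hw : w ∈ cores T) : Commute a w := by
  classical
  haveI := Fact.mk h.hr
  obtain ⟨hp, -, hN⟩ := h.cores_facts hB
  set W := cores T with hW
  have hTW : (T : Subgroup G) ≤ normalizer (W : Set G) := le_normalizer.trans hN
  by_contra hna
  have ha1 : a ≠ 1 := fun e => hna (e ▸ Commute.one_left w)
  -- no involution of `T` centralises `W`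
  have hfaith : ∀ b ∈ (T : Subgroup G), (∀ v ∈ W, Commute b v) → b = 1 := by
    intro b hb hcb
    by_contra hb1
    obtain ⟨n, hn, rfl⟩ := h.transitive (h.se_cores hB) hb hb1 ha ha1
    have hw' : n⁻¹ * w * n ∈ W := by
      have := (Subgroup.mem_normalizer_iff.1 (inv_mem (hN hn)) w).1 hw
      simpa using this
    exact hna (by simpa [mul_assoc] using (Commute.conj_iff n).2 (hcb _ hw'))
  -- the action on the Frattini quotient
  let Q := W ⧸ frattini W
  letI : CommGroup Q :=
    { (inferInstance : Group Q) with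
      mul_comm := fun a b => by
        obtain ⟨a, rfl⟩ := QuotientGroup.mk_surjective a
        obtain ⟨b, rfl⟩ := QuotientGroup.mk_surjective b
        rw [← QuotientGroup.mk_mul, ← QuotientGroup.mk_mul, QuotientGroup.eq]
        simpa [mul_assoc] using CfsgLib.StructC.comm_mem_frattini hp b a }
  have hmap : ∀ e : W ≃* W, (frattini W).map (e : W →* W) = frattini W := fun e =>
    Subgroup.characteristic_iff_map_eq.1 inferInstance e
  let φ : normalizer (W : Set G) →* MulAut Q := MonoidHom.mk'
    (fun n => QuotientGroup.congr _ _ (W.normalizerMonoidHom n) (hmap _)) fun m n => by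
      refine MulEquiv.ext fun v => ?_
      obtain ⟨v, rfl⟩ := QuotientGroup.mk_surjective v
      simp [map_mul, MulAut.mul_apply]
  set θ := QuotientGroup.mk' (frattini W) with hθ
  have hφ : ∀ (n : normalizer (W : Set G)) (v : W), φ n (θ v) = θ (W.normalizerMonoidHom n v) :=
    fun n v => rfl
  have hker : ∀ b : normalizer (W : Set G), (b : G) ∈ (T : Subgroup G) → φ b = 1 → (b : G) = 1 := by
    intro b hb hb1
    have hcop : (orderOf (b : G)).Coprime r :=
      Nat.Coprime.coprime_dvd_left (orderOf_dvd_of_pow_eq_one (n := 2) (by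
        rw [pow_two]; exact h.sq_sylow T _ hb)) (Nat.coprime_two_left.2 h.r_odd)
    refine hfaith _ hb fun v hv => (mem_centralizer_iff.1
      (CfsgLib.PLocal.centralizes_of_trivial_on_frattini_quotient hp b.2 hcop (fun k hk => ?_)) v hv).symm
    have e := DFunLike.congr_fun hb1 (θ ⟨k, hk⟩)
    rw [hφ, MulAut.one_apply, eq_comm, hθ, QuotientGroup.mk'_apply, QuotientGroup.mk'_apply,
      QuotientGroup.eq] at e
    refine ⟨_, e, ?_⟩
    show k⁻¹ * ((b : G) * k * (b : G)⁻¹) = _
    rw [inv_eq_of_mul_eq_one_right (h.sq_sylow T _ hb)]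
    group
  set S : Subgroup (MulAut Q) := ((T : Subgroup G).subgroupOf (normalizer (W : Set G))).map φ with hS
  have hsq : ∀ s ∈ S, s * s = 1 := by
    rintro _ ⟨b, hb, rfl⟩
    rw [← map_mul, show b * b = 1 from Subtype.ext (h.sq_sylow T b hb), map_one]
  have hcomm : ∀ s ∈ S, ∀ t ∈ S, s * t = t * s := by
    rintro _ ⟨b, hb, rfl⟩ _ ⟨c, hc, rfl⟩
    rw [← map_mul, ← map_mul, show b * c = c * b from Subtype.ext (h.comm_sylow T hb hc).eq]
  have hQ : Odd (Nat.card Q) :=
    (h.odd_of_isPGroup hp).of_dvd_nat (Subgroup.card_quotient_dvd_card _)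
  -- elements of odd prime order of `N(T)` centralise `T`
  have hprime : ∀ (y : normalizer ((T : Subgroup G) : Set G)) (q : ℕ), q.Prime → q ≠ 2 →
      orderOf (y : G) = q → autT T y = 1 := by
    intro y q hq hq2 hy
    refine autT_eq_one_iff.2 fun b hb => ?_
    set y' : normalizer (W : Set G) := ⟨y, hN y.2⟩
    set b' : normalizer (W : Set G) := ⟨b, hTW hb⟩
    have hyT : ∀ c ∈ (T : Subgroup G), (y : G)⁻¹ * c * y ∈ (T : Subgroup G) := fun c hc => by
      have := (Subgroup.mem_normalizer_iff.1 (inv_mem y.2) c).1 hc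
      simpa using this
    have hyS : ∀ s ∈ S, (φ y')⁻¹ * s * φ y' ∈ S := by
      rintro _ ⟨c, hc, rfl⟩
      exact ⟨y'⁻¹ * c * y', hyT c hc, by rw [map_mul, map_mul, map_inv]⟩
    have hN' : ∀ v : Q, ∏ i ∈ Finset.range q, (φ y' ^ i) v = 1 := by
      intro v
      obtain ⟨v, rfl⟩ := QuotientGroup.mk'_surjective (frattini W) v
      rw [← h.norm_eq_one hp θ (hN y.2) hq hq2 hy v]
      refine Finset.prod_congr rfl fun i _ => ?_
      rw [← map_pow, hφ, map_pow]
    have key := comm_of_norm hQ hsq hcomm hq hyS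
      (by rw [← map_pow, show y' ^ q = 1 from Subtype.ext (hy ▸ pow_orderOf_eq_one (y : G)), map_one])
      hN' (show φ b' ∈ S from ⟨b', hb, rfl⟩)
    have hz := hker (y'⁻¹ * b' * y' * b'⁻¹) (mul_mem (hyT b hb) (inv_mem hb))
      (by rw [map_mul, map_mul, map_mul, map_inv, map_inv, key, mul_inv_cancel])
    have hz' : (y : G)⁻¹ * b * y * b⁻¹ = 1 := hz
    rw [mul_inv_eq_one, mul_assoc, inv_mul_eq_iff_eq_mul] at hz'
    exact hz'.symm
  -- hence `N(T)` centralises `T`
  have hall : ∀ n ∈ normalizer ((T : Subgroup G) : Set G), Commute a n := fun n hn =>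
    h.commute_of_prime (Subgroup.subtype _) a (fun b hb => h.comm_sylow T ha hb)
      (fun y q hq hq2 hy => (autT_eq_one_iff.1 (hprime y q hq hq2 hy) a ha).symm) ⟨n, hn⟩
  obtain ⟨b, hb, hb1, hba⟩ : ∃ b ∈ (T : Subgroup G), b ≠ 1 ∧ b ≠ a := by
    by_contra hne
    push Not at hne
    have h4 := h.four_le T
    have hle : Nat.card (T : Subgroup G) ≤ 2 := by
      let f : Bool → (T : Subgroup G) := fun i => if i then 1 else ⟨a, ha⟩
      have hf : Function.Surjective f := fun x => by
        by_cases hx : (x : G) = 1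
        · exact ⟨true, Subtype.ext (by simp [f, hx])⟩
        · exact ⟨false, Subtype.ext (by simp [f, hne x x.2 hx])⟩
      simpa using Nat.card_le_card_of_surjective f hf
    omega
  obtain ⟨n, hn, hne⟩ := h.transitive (h.se_cores hB) ha ha1 hb hb1
  rw [← (hall n hn).eq, mul_inv_cancel_right] at hne
  exact hba hne.symm

theorem core_eq_cores {T : Sylow 2 G} (hB : Bounded T r) {a : G} (ha : a ∈ (T : Subgroup G))
    (ha1 : a ≠ 1) : core a = cores T :=
  le_antisymm (core_le_cores ha ha1) (h.le_core ha ha1 (h.odd_of_isPGroup (h.cores_facts hB).1)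
    (fun y hy => (h.commute_cores hB ha hy).symm)
    (fun b hb y hy => by rwa [(h.commute_cores hB hb hy).eq, mul_inv_cancel_right]))

/-- An odd element centralising `T` lies in the cores. -/
theorem mem_cores {T : Sylow 2 G} {c : G} (ho : Odd (orderOf c))
    (hc : ∀ a ∈ (T : Subgroup G), Commute c a) : c ∈ cores T :=
  h.le_cores (Y := zpowers c) (by rw [Nat.card_zpowers]; exact ho) (fun a ha =>
    normalizer_of_conj_mem fun y ⟨i, hi⟩ => by
      subst hi
      rw [← ((hc a ha).zpow_left i).eq, mul_inv_cancel_right]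
      exact zpow_mem (mem_zpowers c) i) (mem_zpowers c)

theorem mem_centralizer_cases {T : Sylow 2 G} {c : G} (hc : ∀ a ∈ (T : Subgroup G), Commute c a) :
    ∃ w ∈ cores T, ∃ a ∈ (T : Subgroup G), c = w * a := by
  obtain ⟨a, ha, ho⟩ := h.odd_part_centralizer hc
  refine ⟨c * a, h.mem_cores ho fun b hb => (hc b hb).mul_left (h.comm_sylow T ha hb), a, ha, ?_⟩
  rw [mul_assoc, h.sq_sylow T a ha, mul_one]

theorem cores_le_normalizer {T : Sylow 2 G} (hB : Bounded T r) :
    cores T ≤ normalizer ((T : Subgroup G) : Set G) := fun w hw =>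
  normalizer_of_conj_mem fun a ha => by
    rwa [← (h.commute_cores hB ha hw).eq, mul_inv_cancel_right]

theorem normalizer_eq {T : Sylow 2 G} (hB : Bounded T r) :
    normalizer (cores T : Set G) = normalizer ((T : Subgroup G) : Set G) := by
  haveI := Fact.mk h.hr
  obtain ⟨hp, hne, hN⟩ := h.cores_facts hB
  refine le_antisymm (fun m hm => normalizer_of_conj_mem fun a ha => ?_) hN
  by_cases ha1 : a = 1
  · rw [ha1, mul_one, mul_inv_cancel]; exact one_mem _
  obtain ⟨v, hv, hv1⟩ : ∃ v ∈ cores T, v ≠ 1 := (Subgroup.bot_or_exists_ne_one _).resolve_left hne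
  have hvr : orderOf v = r :=
    ((Nat.dvd_prime h.hr).1 (orderOf_dvd_of_pow_eq_one (h.pow_r hp hv))).resolve_left
      fun e => hv1 (orderOf_eq_one_iff.1 e)
  set K := centralizer (cores T : Set G) with hK
  haveI : Group.IsSolvable K := h.isSolvable_of_commute (Or.inr hvr)
    fun x hx => (mem_centralizer_iff.1 hx v hv).symm
  have hTK : (T : Subgroup G) ≤ K := fun b hb =>
    mem_centralizer_iff.2 fun v hv => (h.commute_cores hB hb hv).symm.eq
  have hbK : m * a * m⁻¹ ∈ K := mem_centralizer_iff.2 fun v hv => by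
    have hv' : m⁻¹ * v * m ∈ cores T := by
      have := (Subgroup.mem_normalizer_iff.1 (inv_mem hm) v).1 hv
      simpa using this
    have := (Commute.conj_iff m).2 (h.commute_cores hB ha hv').symm
    simpa [mul_assoc] using this.eq
  obtain ⟨w, hw, n, hn, -, he⟩ := h.decomp hTK hbK
  refine h.mem_of_normalizer ?_ (by rw [conj_mul, h.sq_sylow T a ha, mul_one, mul_inv_cancel])
  rw [he]
  exact mul_mem (h.cores_le_normalizer hB (h.le_cores (odd_oddSub K)
    (hTK.trans (le_normalizer_oddSub K)) hw)) hn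

theorem se_normalizer {T : Sylow 2 G} (hB : Bounded T r) :
    Cfsg.IsStronglyEmbedded (normalizer ((T : Subgroup G) : Set G)) :=
  h.normalizer_eq hB ▸ h.se_cores hB

theorem centralizer_le {T : Sylow 2 G} (hB : Bounded T r) {a c : G} (ha : a ∈ (T : Subgroup G))
    (ha1 : a ≠ 1) (hc : Commute c a) : c ∈ normalizer ((T : Subgroup G) : Set G) :=
  h.normalizer_eq hB ▸ h.centralizer_le_normalizer_cores hB ha ha1 hc

end Spec

end CfsgLib.InvChar.OneComposite
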