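import Cfsg.Agent.Lib.InvChar.OneComposite.Base
import Cfsg.Agent.Lib.InvChar.OneComposite.Arith
import Cfsg.Agent.Lib.Invol.CIT.Main
import Cfsg.Agent.Lib.KnownB.PSL2Elem
import Cfsg.Agent.Lib.ClassK.Simple360
import Cfsg.Agent.Lib.ClassK.SmallSimple
import Cfsg.Agent.Lib.Classical.PSLTwoPerm
import Cfsg.Agent.Lib.Suzuki.Tori
import Cfsg.Agent.Lib.Suzuki.Model
import Cfsg.Agent.Lib.Recog.EPPOSimple.Simple

/-!
# The simple groups with at most one composite element order

Either some involution commutes with an element of odd prime order `r`, and then all orders are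
`1`, primes or `2 r`, or all involution centralisers are 2-groups. Given that the group is then
`PSL₂`, `PSL₃(4)` or a Suzuki group, the element orders select the members of the list.
-/

set_option autoImplicit false
set_option linter.unusedSectionVars false
set_option linter.style.haveILetI false

universe u

namespace CfsgLib.InvChar.OneComposite

/-- The element orders. -/
def Occurs (G : Type u) [Group G] (n : ℕ) : Prop := ∃ g : G, orderOf g = n

/-- The simple groups with at most one composite element order. -/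
def Concl (G : Type u) [Group G] : Prop :=
    (∃ (F : Type) (_ : Field F) (_ : Fintype F), (Fintype.card F = 5 ∨ Fintype.card F = 7 ∨ Fintype.card F = 8 ∨ Fintype.card F = 9 ∨
        Fintype.card F = 11 ∨ Fintype.card F = 13 ∨ Fintype.card F = 16) ∧ Nonempty (G ≃* Matrix.ProjectiveSpecialLinearGroup (Fin 2) F)) ∨
    (∃ (F : Type) (_ : Field F) (_ : Fintype F), Fintype.card F = 4 ∧ Nonempty (G ≃* Matrix.ProjectiveSpecialLinearGroup (Fin 3) F)) ∨
    (∃ (F : Type) (_ : Field F) (_ : Fintype F), Fintype.card F = 8 ∧ Nonempty (G ≃* ↥(Cfsg.Lie.Sz F 4))) ∨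
    (∃ (F : Type) (_ : Field F) (_ : Fintype F), ∃ n r s : ℕ, r.Prime ∧ s.Prime ∧ 3 ^ n - 1 = 2 * r ∧ 3 ^ n + 1 = 4 * s ∧
        Fintype.card F = 3 ^ n ∧ Nonempty (G ≃* Matrix.ProjectiveSpecialLinearGroup (Fin 2) F)) ∨
    (∃ (F : Type) (_ : Field F) (_ : Fintype F), ∃ n r : ℕ, (2 ^ n - 1).Prime ∧ r.Prime ∧ 2 ^ n + 1 = 3 * r ∧
        Fintype.card F = 2 ^ n ∧ Nonempty (G ≃* Matrix.ProjectiveSpecialLinearGroup (Fin 2) F))

variable {G : Type u} [Group G] [Finite G]

theorem occurs_of_equiv {H : Type*} [Group H] (e : G ≃* H) {x : H} {n : ℕ} (hx : orderOf x = n) :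
    Occurs G n :=
  ⟨e.symm x, by rw [e.symm.orderOf_eq x, hx]⟩

variable [IsSimpleGroup G]

/-- An involution commuting with an odd element, or 2-groups as involution centralisers. -/
theorem spec_or_cit (hG : ¬ IsMulCommutative G) (hs : Sparse (Occurs G)) :
    (∃ r, Spec G r) ∨
      ∀ t : G, orderOf t = 2 → IsPGroup 2 (Subgroup.centralizer ({t} : Set G)) := by
  refine or_iff_not_imp_left.2 fun hne t ht => ?_
  refine IsPGroup.of_card (n := (Nat.card (Subgroup.centralizer ({t} : Set G))).primeFactorsList.length)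
    (Nat.eq_prime_pow_of_unique_prime_dvd Nat.card_pos.ne' fun {d} hd hdd => ?_)
  by_contra hd2
  haveI := Fact.mk hd
  obtain ⟨x, hx⟩ := exists_prime_orderOf_dvd_card' (G := Subgroup.centralizer ({t} : Set G)) d hdd
  rw [← Subgroup.orderOf_coe] at hx
  have hc : Commute (x : G) t := Subgroup.mem_centralizer_singleton_iff.1 x.2
  have hco : Nat.Coprime 2 d := (Nat.coprime_primes Nat.prime_two hd).2 (Ne.symm hd2)
  have hord : orderOf (t * (x : G)) = 2 * d := by
    rw [hc.symm.orderOf_mul_eq_mul_orderOf_of_coprime (by rw [ht, hx]; exact hco), ht, hx]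
  refine hne ⟨d, ⟨inferInstance, hG, hd, hd.odd_of_ne_two hd2, fun g => ?_, ⟨_, hord⟩⟩⟩
  by_cases h1 : orderOf g = 1
  · exact Or.inl h1
  by_cases h2 : (orderOf g).Prime
  · exact Or.inr (Or.inl h2)
  have := orderOf_pos g
  exact Or.inr (Or.inr (hs _ _ ⟨g, rfl⟩ ⟨_, hord⟩ ⟨by omega, h2⟩
    ⟨by have := hd.two_le; omega, Nat.not_prime_mul (by norm_num) hd.one_lt.ne'⟩))

/-- Which `PSL₂(F)` occur. -/
theorem psl_case (hG : ¬ IsMulCommutative G) (hs : Sparse (Occurs G)) {F : Type} [Field F]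
    [Fintype F] (e : G ≃* Matrix.ProjectiveSpecialLinearGroup (Fin 2) F) : Concl G := by
  have hcard : Nat.card G = Nat.card (Matrix.ProjectiveSpecialLinearGroup (Fin 2) F) :=
    Nat.card_congr e.toEquiv
  have h4 : 4 ≤ Fintype.card F := by
    by_contra hlt
    have h1 : 1 < Fintype.card F := Fintype.one_lt_card
    obtain ⟨h6, h12⟩ := CfsgLib.Recog.EPPOSimple.not_card_six_or_twelve hG
    rcases (show Fintype.card F = 2 ∨ Fintype.card F = 3 by omega) with hq | hq
    · exact h6 (hcard.trans (CfsgLib.Classical.card_psl_two_eq hq 6 (by decide)))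
    · exact h12 (hcard.trans (CfsgLib.Classical.card_psl_two_eq hq 12 (by decide)))
  obtain ⟨p, hchar⟩ := CharP.exists F
  obtain ⟨⟨n, hn0⟩, hp, hq⟩ := FiniteField.card F p
  replace hq : Fintype.card F = p ^ n := hq
  haveI := Fact.mk hp
  have hocc : ∀ m, m ∣ p ∨ m ∣ (Fintype.card F - 1) / Nat.gcd 2 (Fintype.card F - 1) ∨
      m ∣ (Fintype.card F + 1) / Nat.gcd 2 (Fintype.card F - 1) → Occurs G m := fun m hm => by
    obtain ⟨g, hg⟩ := CfsgLib.KnownB.SL2.exists_orderOf_psl (F := F) p hm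
    exact occurs_of_equiv e hg
  rcases hp.eq_two_or_odd' with rfl | hpo
  · have hn : 2 ≤ n := by
      by_contra hn
      have : 2 ^ n ≤ 2 ^ 1 := Nat.pow_le_pow_right (by norm_num) (by omega)
      omega
    have hd : Nat.gcd 2 (Fintype.card F - 1) = 1 := by
      rw [hq]
      have : 2 ∣ 2 ^ n := dvd_pow_self 2 (by omega)
      exact Nat.prime_two.coprime_iff_not_dvd.2 (by omega)
    rcases even_case hs hn (fun m hm => hocc m (Or.inr (by rwa [hd, Nat.div_one, Nat.div_one, hq]))) with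
      rfl | rfl | ⟨h1, r, hr, h2⟩
    · have h5 : Fintype.card (ZMod 5) = 5 := ZMod.card 5
      haveI : Fact (Nat.Prime 5) := ⟨by norm_num⟩
      haveI := CfsgLib.ClassK.isSimpleGroup_psl_two (F := ZMod 5) (by rw [h5]; norm_num)
      exact Or.inl ⟨ZMod 5, inferInstance, inferInstance, Or.inl h5,
        CfsgLib.ClassK.nonempty_equiv_sixty
          (hcard.trans (CfsgLib.Classical.card_psl_two_eq hq 60 (by decide)))
          (CfsgLib.Classical.card_psl_two_eq h5 60 (by decide))⟩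
    · exact Or.inl ⟨F, inferInstance, inferInstance, by simp [hq], ⟨e⟩⟩
    · exact Or.inr (Or.inr (Or.inr (Or.inr
        ⟨F, inferInstance, inferInstance, n, r, h1, hr, h2, hq, ⟨e⟩⟩)))
  · have hodd : Odd (Fintype.card F) := hq ▸ hpo.pow
    have hd : Nat.gcd 2 (Fintype.card F - 1) = 2 := by
      refine Nat.gcd_eq_left ?_
      rw [Nat.odd_iff] at hodd
      omega
    have h5 : 5 ≤ Fintype.card F := by
      rw [Nat.odd_iff] at hodd
      omega
    rcases odd_case hs hp hq hodd h5 (fun m hm => hocc m (Or.inr (by rwa [hd]))) with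
      h | ⟨r, s, hr, hs', h1, h2, h3⟩
    · exact Or.inl ⟨F, inferInstance, inferInstance, by omega, ⟨e⟩⟩
    · exact Or.inr (Or.inr (Or.inr (Or.inl
        ⟨F, inferInstance, inferInstance, n, r, s, hr, hs', h1, h2, h3, ⟨e⟩⟩)))

/-- Which Suzuki groups occur. -/
theorem suzuki_case (hs : Sparse (Occurs G)) (hS : Cfsg.Lie.IsoSuzuki G) : Concl G := by
  obtain ⟨F, _, _, m, hm, hF, ⟨e⟩⟩ := hS
  haveI := Fact.mk Nat.prime_two
  haveI : CharP F 2 := charP_of_card_eq_prime_pow hF
  let e' : G ≃* Cfsg.Sz F m := e.trans (CfsgLib.Suzuki.szEquiv hm hF).symm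
  obtain ⟨A, B, hA, hB, hprod, -, -, -, -⟩ := CfsgLib.Suzuki.exists_two_tori hm hF
  have h5 : 5 ∣ Fintype.card F ^ 2 + 1 := by
    rw [hF, ← pow_mul]
    have : 2 ^ ((2 * m + 1) * 2) % 5 = 4 := by
      rw [show (2 * m + 1) * 2 = 4 * m + 2 by ring, pow_add, pow_mul]
      simp [Nat.mul_mod, Nat.pow_mod]
    omega
  obtain ⟨C, hC, hC5⟩ : ∃ C, CfsgLib.Suzuki.IsTorus C ∧ 5 ∣ Nat.card C := by
    rcases (Nat.Prime.dvd_mul (by norm_num)).1 (hprod ▸ h5) with h' | h'
    · exact ⟨A, hA, h'⟩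
    · exact ⟨B, hB, h'⟩
  have h4 : Occurs G 4 := occurs_of_equiv e'
    (CfsgLib.Suzuki.orderOf_tG_of_ne_zero (CfsgLib.Suzuki.thSq_of_card hF) (one_ne_zero (α := F)) 0)
  have hcard := (hC.card_mem hm hF).1
  have hle : 2 ^ (m + 1) ≤ 2 ^ (2 * m + 1) := Nat.pow_le_pow_right (by norm_num) (by omega)
  have h2m : 4 ∣ 2 ^ (m + 1) := Nat.pow_dvd_pow 2 (show 2 ≤ m + 1 by omega)
  have h2q : 4 ∣ 2 ^ (2 * m + 1) := Nat.pow_dvd_pow 2 (show 2 ≤ 2 * m + 1 by omega)
  have hocc : Occurs G (Nat.card C) := by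
    obtain ⟨x, hx, hp, rfl⟩ := hC
    haveI := (CfsgLib.Suzuki.cyclic_and_index_le hF hx hp rfl).1
    obtain ⟨g, hg⟩ := IsCyclic.exists_generator (α := Subgroup.centralizer ({x} : Set (Cfsg.Sz F m)))
    exact occurs_of_equiv e' (x := (g : Cfsg.Sz F m))
      (by rw [Subgroup.orderOf_coe, orderOf_eq_card_of_forall_mem_zpowers hg])
  have hC : Nat.card C = 5 := by
    by_contra hne
    have hnp : ¬ (Nat.card C).Prime := fun h =>
      hne ((Nat.prime_dvd_prime_iff_eq (by norm_num) h).1 hC5).symm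
    have hpos : 0 < Nat.card C := Nat.card_pos
    have := Nat.le_of_dvd hpos hC5
    have := hs _ _ hocc h4 ⟨by omega, hnp⟩ ⟨by norm_num, by norm_num⟩
    omega
  have hm1 : m = 1 := by
    by_contra hne
    have h8 : 8 ≤ 2 ^ (m + 1) :=
      le_of_eq_of_le (by norm_num) (Nat.pow_le_pow_right (n := 2) (by norm_num) (show 3 ≤ m + 1 by omega))
    have h2 : 2 * 2 ^ (m + 1) ≤ 2 ^ (2 * m + 1) := by
      rw [← pow_succ']; exact Nat.pow_le_pow_right (by norm_num) (by omega)
    omega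
  subst hm1
  exact Or.inr (Or.inr (Or.inl ⟨F, inferInstance, inferInstance, by simpa using hF, ⟨e⟩⟩))

/-- The list, given the structure theorem for one composite order `2 r`. -/
theorem concl_of (hspec : ∀ r, Spec G r → ∃ (F : Type) (_ : Field F) (_ : Fintype F),
      Nonempty (G ≃* Matrix.ProjectiveSpecialLinearGroup (Fin 2) F))
    (hG : ¬ IsMulCommutative G) (hs : Sparse (Occurs G)) : Concl G := by
  rcases spec_or_cit hG hs with ⟨r, h⟩ | hCIT
  · obtain ⟨F, _, _, ⟨e⟩⟩ := hspec r h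
    exact psl_case hG hs e
  · have hne : ∃ a b : G, a * b ≠ b * a := by
      by_contra hne
      push Not at hne
      exact hG ⟨⟨hne⟩⟩
    rcases CfsgLib.Invol.CIT.classification hne hCIT with ⟨F, _, _, -, ⟨e⟩⟩ | h | h
    · exact psl_case hG hs e
    · exact Or.inr (Or.inl h)
    · exact suzuki_case hs h.2

end CfsgLib.InvChar.OneComposite
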