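import Cfsg.Agent.Lib.InvChar.OneComposite.Norm
import Cfsg.Agent.Lib.Coprime.Generation

/-!
# Odd cores of solvable subgroups containing a Sylow 2-subgroup
-/

set_option autoImplicit false
set_option linter.unusedSectionVars false
set_option linter.style.haveILetI false

namespace CfsgLib.InvChar.OneComposite

open Subgroup CfsgLib.Invol CfsgLib.EqOrder CfsgLib.FiveOrbit

variable {G : Type*} [Group G] [Finite G] {r : ℕ}

theorem oddSub_le (K : Subgroup G) : oddSub K ≤ K := map_subtype_le _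

theorem odd_oddSub (K : Subgroup G) : Odd (Nat.card (oddSub K)) := by
  rw [oddSub, card_map_of_injective (Subgroup.subtype_injective _)]
  exact odd_card_oddCore _

theorem oddSub_conj {K : Subgroup G} {c w : G} (hc : c ∈ K) (hw : w ∈ oddSub K) :
    c * w * c⁻¹ ∈ oddSub K := by
  obtain ⟨w', hw', rfl⟩ := hw
  exact ⟨⟨c, hc⟩ * w' * ⟨c, hc⟩⁻¹, (normal_oddCore _).conj_mem w' hw' _, rfl⟩

theorem le_normalizer_oddSub (K : Subgroup G) : K ≤ normalizer (oddSub K : Set G) :=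
  fun _ hc => normalizer_of_conj_mem fun _ hw => oddSub_conj hc hw

/-- An odd normal subgroup of `K` lies in its odd core. -/
theorem le_oddSub_of_normal {K Y : Subgroup G} (hY : Odd (Nat.card Y)) (hYK : Y ≤ K)
    (hn : ∀ c ∈ K, ∀ y ∈ Y, c * y * c⁻¹ ∈ Y) : Y ≤ oddSub K := by
  have hN : (Y.subgroupOf K).Normal := ⟨fun y hy c => hn c c.2 y hy⟩
  have hle := le_oddCore hN (by rwa [Nat.card_congr (subgroupOfEquivOfLe hYK).toEquiv])
  exact fun y hy => ⟨⟨y, hYK hy⟩, hle (show (⟨y, hYK hy⟩ : K) ∈ Y.subgroupOf K from hy), rfl⟩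

theorem core_conj {g t w : G} (hw : w ∈ core t) : g * w * g⁻¹ ∈ core (g * t * g⁻¹) := by
  refine le_oddSub_of_normal (Y := (core t).map (MulAut.conj g).toMonoidHom)
    (K := Subgroup.centralizer ({g * t * g⁻¹} : Set G)) ?_ ?_ ?_ ⟨w, hw, rfl⟩
  · rw [card_map_of_injective (MulAut.conj g).injective]; exact odd_core t
  · rintro _ ⟨a, ha, rfl⟩
    exact Subgroup.mem_centralizer_singleton_iff.2 ((Commute.conj_iff g).2 (core_commute ha)).eq
  · rintro c hc _ ⟨a, ha, rfl⟩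
    have hc' : Commute (g⁻¹ * c * g) t := by
      have h1 := (Commute.conj_iff g⁻¹).2 (Subgroup.mem_centralizer_singleton_iff.1 hc : Commute c _)
      simpa [mul_assoc] using h1
    exact ⟨_, core_normal hc' ha, by simp [MulAut.conj_apply, mul_assoc]⟩

namespace Spec

variable (h : Spec G r)
include h

/-- A solvable subgroup containing `T`, modulo its odd core: `T` is normal and self-centralising. -/
theorem mod_oddSub {T : Sylow 2 G} {K : Subgroup G} [Group.IsSolvable K] (hTK : (T : Subgroup G) ≤ K) :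
    (∀ c ∈ K, ∀ a ∈ (T : Subgroup G), ∃ a' ∈ (T : Subgroup G), a'⁻¹ * (c * a * c⁻¹) ∈ oddSub K) ∧
    (∀ x ∈ K, (∀ a ∈ (T : Subgroup G), x * a * x⁻¹ * a⁻¹ ∈ oddSub K) →
      ∃ a' ∈ (T : Subgroup G), a'⁻¹ * x ∈ oddSub K) := by
  haveI : Fact (Nat.Prime 2) := ⟨Nat.prime_two⟩
  set W := Cfsg.oddCore K with hW
  haveI : W.Normal := normal_oddCore K
  haveI : Group.IsSolvable (K ⧸ W) := Group.isSolvable_of_surjective (QuotientGroup.mk'_surjective W)
  set T₁ : Sylow 2 K := T.subtype hTK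
  set Tb : Sylow 2 (K ⧸ W) := T₁.mapSurjective (f := QuotientGroup.mk' W) (QuotientGroup.mk'_surjective W)
  have hab : ∀ a ∈ (Tb : Subgroup (K ⧸ W)), ∀ b ∈ (Tb : Subgroup (K ⧸ W)), a * b = b * a := by
    rintro _ ⟨a, ha, rfl⟩ _ ⟨b, hb, rfl⟩
    rw [← map_mul, ← map_mul]
    exact congrArg _ (Subtype.ext (h.comm_sylow T (Subgroup.mem_subgroupOf.1 ha)
      (Subgroup.mem_subgroupOf.1 hb)).eq)
  obtain ⟨hn, hself⟩ := normal_of_oddCore_bot (CfsgLib.Fusion.oddCore_quotient_oddCore (G := K)) Tb hab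
  have hback : ∀ x : K, ((x : K ⧸ W)) ∈ (Tb : Subgroup (K ⧸ W)) →
      ∃ a' ∈ (T : Subgroup G), a'⁻¹ * (x : G) ∈ oddSub K := by
    rintro x ⟨a, ha, hax⟩
    exact ⟨a, Subgroup.mem_subgroupOf.1 ha, ⟨a⁻¹ * x, QuotientGroup.eq.1 hax, rfl⟩⟩
  refine ⟨fun c hc a ha => ?_, fun x hx hxa => ?_⟩
  · exact hback (⟨c, hc⟩ * ⟨a, hTK ha⟩ * ⟨c, hc⟩⁻¹) (by
      simp only [QuotientGroup.mk_mul, QuotientGroup.mk_inv]
      exact hn.conj_mem _ (⟨⟨a, hTK ha⟩, Subgroup.mem_subgroupOf.2 ha, rfl⟩) _)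
  · set x' : K := ⟨x, hx⟩
    refine hback x' (hself _ fun a ha => ?_)
    obtain ⟨a, ha', rfl⟩ := ha
    obtain ⟨w, hw, hwe⟩ := hxa a (Subgroup.mem_subgroupOf.1 ha')
    have hh : x' * a * x'⁻¹ * a⁻¹ ∈ W := by
      have : w = x' * a * x'⁻¹ * a⁻¹ := Subtype.ext hwe
      rwa [← this]
    have h2 : ((x' * a * x'⁻¹ * a⁻¹ : K) : K ⧸ W) = 1 := (QuotientGroup.eq_one_iff _).2 hh
    simp only [QuotientGroup.mk_mul, QuotientGroup.mk_inv] at h2
    exact mul_inv_eq_iff_eq_mul.1 (mul_inv_eq_one.1 h2)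

/-- An odd `T`-invariant subgroup of a solvable `K ≥ T` lies in the odd core of `K`. -/
theorem le_oddSub {T : Sylow 2 G} {K Y : Subgroup G} [Group.IsSolvable K]
    (hTK : (T : Subgroup G) ≤ K) (hY : Odd (Nat.card Y)) (hYK : Y ≤ K)
    (hYT : ∀ a ∈ (T : Subgroup G), ∀ y ∈ Y, a * y * a⁻¹ ∈ Y) : Y ≤ oddSub K := by
  obtain ⟨hconj, hself⟩ := h.mod_oddSub hTK
  intro y hy
  have hodd : ∀ z ∈ Y, ∀ a' ∈ (T : Subgroup G), a'⁻¹ * z ∈ oddSub K → z ∈ oddSub K := by
    intro z hz a' ha' hm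
    obtain ⟨k, hk⟩ := exists_pow_eq_self_of_coprime (x := z) (n := 2)
      (Nat.coprime_two_left.2 (odd_of_mem hY hz))
    rw [← hk]
    refine pow_mem ?_ k
    have h1 : z ^ 2 = (a' * (a'⁻¹ * z) * a'⁻¹) * ((a' * a') * (a'⁻¹ * z)) := by
      rw [pow_two]; group
    rw [h1, h.sq_sylow T a' ha', one_mul]
    exact mul_mem (oddSub_conj (hTK ha') hm) hm
  obtain ⟨a', ha', hm⟩ := hself y (hYK hy) fun a ha => by
    have hz : y * a * y⁻¹ * a⁻¹ ∈ Y := by
      have := mul_mem hy (hYT a ha _ (inv_mem hy))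
      simpa [mul_assoc] using this
    obtain ⟨a', ha', hm⟩ := hconj y (hYK hy) a ha
    refine hodd _ hz (a' * a⁻¹) (mul_mem ha' (inv_mem ha)) ?_
    rw [show (a' * a⁻¹)⁻¹ * (y * a * y⁻¹ * a⁻¹) = a * (a'⁻¹ * (y * a * y⁻¹)) * a⁻¹ by group]
    exact oddSub_conj (hTK ha) hm
  exact hodd y hy a' ha' hm

/-- Frattini: `K = O(K) N_K(T)`. -/
theorem decomp {T : Sylow 2 G} {K : Subgroup G} [Group.IsSolvable K] (hTK : (T : Subgroup G) ≤ K)
    {c : G} (hc : c ∈ K) :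
    ∃ w ∈ oddSub K, ∃ n ∈ normalizer ((T : Subgroup G) : Set G), n ∈ K ∧ c = w * n := by
  haveI : Fact (Nat.Prime 2) := ⟨Nat.prime_two⟩
  set U := oddSub K ⊔ (T : Subgroup G) with hU
  have hTn : (T : Subgroup G) ≤ normalizer (oddSub K : Set G) := hTK.trans (le_normalizer_oddSub K)
  have hUmem : ∀ x : G, x ∈ U ↔ ∃ w ∈ oddSub K, ∃ a ∈ (T : Subgroup G), x = w * a := by
    intro x
    rw [hU, ← SetLike.mem_coe, sup_comm (oddSub K), Subgroup.coe_mul_of_left_le_normalizer_right _ _ hTn,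
      Set.mem_mul]
    constructor
    · rintro ⟨a, ha, w, hw, rfl⟩
      exact ⟨a * w * a⁻¹, (Subgroup.mem_normalizer_iff.1 (hTn ha) w).1 hw, a, ha, by group⟩
    · rintro ⟨w, hw, a, ha, rfl⟩
      refine ⟨a, ha, a⁻¹ * w * a, ?_, by group⟩
      have := (Subgroup.mem_normalizer_iff.1 (hTn (inv_mem ha)) w).1 hw
      simpa using this
  -- the conjugate of `T` by `c` is a Sylow 2-subgroup of `O(K) T`
  have hcT : ((c • T : Sylow 2 G) : Subgroup G) ≤ U := by
    rintro _ ⟨a, ha, rfl⟩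
    show c * a * c⁻¹ ∈ U
    obtain ⟨a', ha', hm⟩ := (h.mod_oddSub hTK).1 c hc a ha
    have := mul_mem (Subgroup.mem_sup_right (S := oddSub K) ha') (Subgroup.mem_sup_left (T := (T : Subgroup G)) hm)
    rwa [mul_inv_cancel_left] at this
  obtain ⟨⟨u, hu⟩, hu'⟩ := MulAction.exists_smul_eq U ((c • T).subtype hcT)
    (T.subtype (le_sup_right : (T : Subgroup G) ≤ U))
  have hn : u * c ∈ normalizer ((T : Subgroup G) : Set G) := by
    refine normalizer_of_conj_mem fun a ha => ?_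
    have h1 : c * a * c⁻¹ ∈ ((c • T : Sylow 2 G) : Subgroup G) := ⟨a, ha, rfl⟩
    have h2 : (⟨u, hu⟩ : U) * ⟨_, hcT h1⟩ * (⟨u, hu⟩ : U)⁻¹ ∈
        ((T.subtype (le_sup_right : (T : Subgroup G) ≤ U) : Sylow 2 U) : Subgroup U) := by
      rw [← hu']
      exact ⟨⟨_, hcT h1⟩, h1, rfl⟩
    have h3 : u * (c * a * c⁻¹) * u⁻¹ ∈ (T : Subgroup G) := h2
    simpa [mul_assoc] using h3
  obtain ⟨w, hw, a, ha, he⟩ := (hUmem u⁻¹).1 (inv_mem hu)
  have hn' : a * (u * c) ∈ normalizer ((T : Subgroup G) : Set G) := mul_mem (le_normalizer ha) hn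
  refine ⟨w, hw, _, hn', ?_, ?_⟩
  · have huK : u ∈ K := (sup_le (oddSub_le K) hTK : U ≤ K) hu
    exact mul_mem (hTK ha) (mul_mem huK hc)
  · rw [← mul_assoc, ← he, inv_mul_cancel_left]

/-- An odd `T`-invariant subgroup of `C(t)` lies in the core. -/
theorem le_core {T : Sylow 2 G} {t : G} (ht : t ∈ (T : Subgroup G)) (ht1 : t ≠ 1) {Y : Subgroup G}
    (hY : Odd (Nat.card Y)) (hYt : ∀ y ∈ Y, Commute y t)
    (hYT : ∀ a ∈ (T : Subgroup G), ∀ y ∈ Y, a * y * a⁻¹ ∈ Y) : Y ≤ core t := by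
  haveI := h.isSolvable_centralizer (Or.inl (h.invol_sylow ht ht1))
  exact h.le_oddSub (fun a ha => Subgroup.mem_centralizer_singleton_iff.2 (h.comm_sylow T ha ht).eq)
    hY (fun y hy => Subgroup.mem_centralizer_singleton_iff.2 (hYt y hy).eq) hYT

theorem isPGroup_core {t : G} (ht : orderOf t = 2) : IsPGroup r (core t) :=
  h.isPGroup_of_commute ht (odd_core t) fun _ hw => core_commute hw

theorem decomp_centralizer {T : Sylow 2 G} {t c : G} (ht : t ∈ (T : Subgroup G)) (ht1 : t ≠ 1)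
    (hc : Commute c t) :
    ∃ w ∈ core t, ∃ n ∈ normalizer ((T : Subgroup G) : Set G), Commute n t ∧ c = w * n := by
  haveI := h.isSolvable_centralizer (Or.inl (h.invol_sylow ht ht1))
  obtain ⟨w, hw, n, hn, hnK, he⟩ := h.decomp (T := T)
    (fun a ha => Subgroup.mem_centralizer_singleton_iff.2 (h.comm_sylow T ha ht).eq)
    (Subgroup.mem_centralizer_singleton_iff.2 hc.eq)
  exact ⟨w, hw, n, hn, Subgroup.mem_centralizer_singleton_iff.1 hnK, he⟩

/-- The centraliser of `T` is `T` times an odd group. -/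
theorem odd_part_centralizer {T : Sylow 2 G} {c : G} (hc : ∀ a ∈ (T : Subgroup G), Commute c a) :
    ∃ a ∈ (T : Subgroup G), Odd (orderOf (c * a)) := by
  obtain ⟨t, ht, ht1⟩ := h.exists_ne_one T
  rcases Nat.even_or_odd (orderOf c) with he | ho
  · rcases h.ord c with e | e | e
    · rw [e] at he; exact absurd he (by decide)
    · have h2 : orderOf c = 2 := (Nat.prime_dvd_prime_iff_eq Nat.prime_two e).1 he.two_dvd |>.symm
      have hcT := h.mem_of_normalizer (T := T) (normalizer_of_conj_mem fun a ha => by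
        rw [(hc a ha).eq, mul_inv_cancel_right]; exact ha) (invol_mul_self h2)
      exact ⟨c, hcT, by rw [invol_mul_self h2, orderOf_one]; exact odd_one⟩
    · have h2 : orderOf (c ^ r) = 2 := by
        rw [orderOf_pow_of_dvd h.hr.ne_zero (e ▸ dvd_mul_left r 2), e, Nat.mul_div_cancel 2 h.hr.pos]
      have hcr : ∀ a ∈ (T : Subgroup G), Commute (c ^ r) a := fun a ha => (hc a ha).pow_left r
      have hcT := h.mem_of_normalizer (T := T) (normalizer_of_conj_mem fun a ha => by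
        rw [(hcr a ha).eq, mul_inv_cancel_right]; exact ha) (invol_mul_self h2)
      refine ⟨c ^ r, hcT, Odd.of_dvd_nat h.r_odd (orderOf_dvd_of_pow_eq_one ?_)⟩
      have e2 : c * c ^ r = c ^ (r + 1) := (pow_succ' c r).symm
      rw [e2, ← pow_mul, ← orderOf_dvd_iff_pow_eq_one, e]
      exact mul_dvd_mul_right (even_iff_two_dvd.1 h.r_odd.add_one) r
  · exact ⟨1, one_mem _, by rwa [mul_one]⟩

end Spec

end CfsgLib.InvChar.OneComposite
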