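import Cfsg.Agent.Lib.InvChar.OneComposite.Endgame

/-!
# Trivial cores: the permutation of order nine
-/

set_option autoImplicit false
set_option linter.unusedSectionVars false
set_option linter.style.haveILetI false

namespace CfsgLib.InvChar.OneComposite

open Subgroup CfsgLib.Invol CfsgLib.EqOrder CfsgLib.FiveOrbit

variable {G : Type*} [Group G] [Finite G] {r : ℕ}

/-- An orbit of length three or nine. -/
theorem three_dvd_orderOf {α : Type*} [MulAction G α] {g : G} {b : α} (h3 : (g ^ 3) • b = b)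
    (h1 : g • b ≠ b) : 3 ∣ orderOf g := by
  by_contra hnd
  obtain ⟨k, hk⟩ := exists_pow_eq_self_of_coprime (x := g) (n := 3)
    ((Nat.prime_three.coprime_iff_not_dvd).2 hnd)
  refine h1 ?_
  rw [← hk]
  exact MulAction.mem_stabilizer_iff.1 (pow_mem (show g ^ 3 ∈ MulAction.stabilizer G b from h3) k)

namespace Spec

variable (h : Spec G r)
include h

theorem r_eq_three {T : Sylow 2 G} (hB : NoCore T) {x y a : G} {q k : ℕ} (F : Frame T r x y a q k)
    {u : G} (hu : orderOf u = 2) (huN : u ∉ normalizer ((T : Subgroup G) : Set G))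
    (huy : Commute u y) (hux : u * x * u⁻¹ = x⁻¹) :
    r = 3 ∧ u • (a • (u • base T)) = a • (u • base T) := by
  have ha0 : a • base T = base T := mem_iff_fix.2 (le_normalizer F.ha)
  have hne : u • base T ≠ base T := fun e => huN (mem_iff_fix.1 e)
  have hnf := h.not_fix_two hB F.ha F.ha1 hne
  have hy0 : y • base T = base T := mem_iff_fix.2 F.hy
  have hne2 : a • (u • base T) ≠ base T := fun e => hne (MulAction.injective a (e.trans ha0.symm))
  have hy2 : y • (u • (a • (u • base T))) = u • (a • (u • base T)) := by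
    rw [← mul_smul, ← huy.eq, mul_smul, ← mul_smul y a, F.comm.eq, mul_smul, ← mul_smul y u,
      ← huy.eq, mul_smul, hy0]
  have hfix : u • (a • (u • base T)) = a • (u • base T) := by
    have hne3 : u • (a • (u • base T)) ≠ base T := fun e => hnf
      (MulAction.injective u (e.trans (invol_smul_swap hu rfl).symm))
    rcases h.fix_y_cases hB F huy hux hne3 hy2 with e | e
    · exact absurd (MulAction.injective u e) hne2
    · exact e
  refine ⟨?_, hfix⟩
  have h1 : (u * a) • base T = u • base T := by rw [mul_smul, ha0]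
  have h2 : (u * a) • (u • base T) = a • (u • base T) := by rw [mul_smul, hfix]
  have h3 : (u * a) • (a • (u • base T)) = base T := by
    rw [mul_smul, ← mul_smul a a, h.sq_sylow T a F.ha, one_smul, invol_smul_swap hu rfl]
  have hd := three_dvd_orderOf (g := u * a) (b := base T)
    (by rw [pow_succ, pow_two, mul_smul, mul_smul, h1, h2, h3]) (by rw [h1]; exact hne)
  have hz : Commute (u * a) y := huy.mul_left F.comm.symm
  have ho : orderOf ((u * a) ^ (orderOf (u * a) / 3)) = 3 :=
    orderOf_pow_orderOf_div (orderOf_pos _).ne' hd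
  exact (ho.symm.trans (h.order_of_r F.oy (hz.pow_left _) (by rw [ho]; decide) fun e => by
    rw [e, orderOf_one] at ho; omega)).symm

theorem card_le_eight {T : Sylow 2 G} {x y a : G} {q k : ℕ} (F : Frame T r x y a q k) (hr : r = 3) :
    Nat.card (T : Subgroup G) ≤ 8 := by
  classical
  haveI := Fact.mk F.hq
  let f : ℕ → G → G := fun n v => x ^ n * v * (x ^ n)⁻¹
  have hfT : ∀ n, ∀ v ∈ (T : Subgroup G), f n v ∈ (T : Subgroup G) := fun n v hv =>
    (Subgroup.mem_normalizer_iff.1 (pow_mem F.hx n) v).1 hv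
  have hfm : ∀ n v w, f n (v * w) = f n v * f n w := fun n v w => by simp only [f]; group
  have hff : ∀ m n v, f m (f n v) = f (m + n) v := fun m n v => by
    simp only [f, pow_add, mul_inv_rev, mul_assoc]
  have hfq : ∀ m n v, m ≡ n [MOD q] → f m v = f n v := fun m n v hmn => by
    simp only [f]
    rw [pow_eq_pow_iff_modEq.2 (F.ox.symm ▸ hmn)]
  -- conjugation by `y`
  set σ : G → G := fun v => y * v * y⁻¹ with hσ
  have hσf : ∀ n v, σ (f n v) = f (n * k) (σ v) := fun n v => by
    have e : y * x ^ n * y⁻¹ = x ^ (n * k) := by rw [← conj_pow, F.conj, ← pow_mul, mul_comm]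
    simp only [hσ, f]
    rw [← e]; group
  have hσa : σ a = a := by rw [hσ]; simp only [F.comm.eq, mul_inv_cancel_right]
  have hσm : ∀ v w, σ (v * w) = σ v * σ w := fun v w => by simp only [hσ]; group
  -- `k` has order three
  have hpow : ∀ j : ℕ, y ^ j * x * (y ^ j)⁻¹ = x ^ (k ^ j) := by
    intro j
    induction j with
    | zero => simp
    | succ j ih =>
      rw [pow_succ', show y * y ^ j * x * (y * y ^ j)⁻¹ = y * (y ^ j * x * (y ^ j)⁻¹) * y⁻¹ by group, ih,
        ← conj_pow, F.conj, ← pow_mul, pow_succ']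
  have hk3 : k ^ 3 ≡ 1 [MOD q] := by
    have := hpow 3
    rw [show y ^ 3 = 1 from hr ▸ F.oy ▸ pow_orderOf_eq_one y, one_mul, inv_one, mul_one] at this
    nth_rewrite 1 [← pow_one x] at this
    exact (F.ox ▸ pow_eq_pow_iff_modEq.1 this).symm
  have hk1 : ¬ k ≡ 1 [MOD q] := fun e => F.ne (by
    nth_rewrite 2 [← pow_one x]
    exact pow_eq_pow_iff_modEq.2 (F.ox.symm ▸ e))
  have hsum : 1 + k + k * k ≡ 0 [MOD q] := by
    rw [Nat.modEq_zero_iff_dvd]
    by_contra hnd
    refine hk1 (Nat.ModEq.cancel_left_of_coprime (c := 1 + k + k * k)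
      ((F.hq.coprime_iff_not_dvd).2 hnd) ?_)
    calc (1 + k + k * k) * k = k + k * k + k ^ 3 := by ring
      _ ≡ k + k * k + 1 [MOD q] := Nat.ModEq.add_left _ hk3
      _ = (1 + k + k * k) * 1 := by ring
  have hk2 : k * k * k ≡ 1 [MOD q] := by rwa [pow_succ, pow_two] at hk3
  -- the symmetric functions
  let e1 : G → G := fun v => f 1 v * f k v * f (k * k) v
  let e2 : G → G := fun v => f (1 + k) v * f (1 + k * k) v * f (k + k * k) v
  have hsyl : ∀ {v w : G}, v ∈ (T : Subgroup G) → w ∈ (T : Subgroup G) → v * w = w * v :=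
    fun hv hw => (h.comm_sylow T hv hw).eq
  have ha := F.ha
  have hmem : ∀ n, f n a ∈ (T : Subgroup G) := fun n => hfT n a ha
  have he1 : σ (e1 a) = e1 a := by
    simp only [e1, hσm, hσf, hσa, one_mul]
    rw [hfq (k * k * k) 1 a hk2, mul_assoc, hsyl (hmem k) (mul_mem (hmem (k * k)) (hmem 1)),
      mul_assoc, hsyl (hmem (k * k)) (mul_mem (hmem 1) (hmem k))]
  have he2 : σ (e2 a) = e2 a := by
    simp only [e2, hσm, hσf, hσa]
    rw [hfq ((1 + k * k) * k) (1 + k) a (by
        rw [show (1 + k * k) * k = k + k * k * k by ring, add_comm 1 k]; exact Nat.ModEq.add_left _ hk2),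
      hfq ((k + k * k) * k) (1 + k * k) a (by
        rw [show (k + k * k) * k = k * k + k * k * k by ring, add_comm 1 (k * k)]; exact Nat.ModEq.add_left _ hk2),
      show (1 + k) * k = k + k * k by ring, mul_assoc,
      hsyl (hmem (k + k * k)) (mul_mem (hmem (1 + k)) (hmem (1 + k * k)))]
  have hcases : ∀ v ∈ (T : Subgroup G), σ v = v → v = 1 ∨ v = a := fun v hv e =>
    F.fixy v hv (mul_inv_eq_iff_eq_mul.1 e)
  have hc1 := hcases _ (mul_mem (mul_mem (hmem _) (hmem _)) (hmem _)) he1
  have hc2 := hcases _ (mul_mem (mul_mem (hmem _) (hmem _)) (hmem _)) he2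
  -- `f 3 a` is generated by the lower conjugates
  set U := Subgroup.closure ({a, f 1 a, f 2 a} : Set G) with hU
  have hUa : a ∈ U := Subgroup.subset_closure (by simp)
  have hU1 : f 1 a ∈ U := Subgroup.subset_closure (by simp)
  have hU2 : f 2 a ∈ U := Subgroup.subset_closure (by simp)
  have hf0 : f 0 a = a := by simp [f]
  have hone : ∀ n, f n 1 = 1 := fun n => by simp [f]
  have hA : f 2 (e1 a) ∈ U := by
    rcases hc1 with e | e <;> simp only [show e1 a = _ from e]
    · rw [hone]; exact one_mem _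
    · exact hU2
  have hB' : f 1 (e2 a) ∈ U := by
    rcases hc2 with e | e <;> simp only [show e2 a = _ from e]
    · rw [hone]; exact one_mem _
    · exact hU1
  have h3 : f 3 a = f 2 (e1 a) * f 1 (e2 a) * a := by
    simp only [e1, e2, hfm, hff]
    rw [show 1 + (1 + k) = 2 + k by ring, show 1 + (1 + k * k) = 2 + k * k by ring,
      hfq (1 + (k + k * k)) 0 a (by rw [← add_assoc]; exact hsum), hf0,
      show f (2 + 1) a * f (2 + k) a * f (2 + k * k) a * (f (2 + k) a * f (2 + k * k) a * a) * a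
        = f (2 + 1) a * ((f (2 + k) a * f (2 + k * k) a) * (f (2 + k) a * f (2 + k * k) a)) * (a * a) by
          simp only [mul_assoc],
      h.sq_sylow T _ (mul_mem (hmem _) (hmem _)), h.sq_sylow T a ha, mul_one, mul_one]
  have hU3 : f 3 a ∈ U := by rw [h3]; exact mul_mem (mul_mem hA hB') hUa
  have hUT : U ≤ (T : Subgroup G) := by
    rw [hU, Subgroup.closure_le]
    rintro v (rfl | rfl | rfl)
    exacts [ha, hmem 1, hmem 2]
  have hstep : ∀ v ∈ U, f 1 v ∈ U := by
    intro v hv
    induction hv using Subgroup.closure_induction with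
    | one => rw [hone]; exact one_mem _
    | mul v w _ _ hv hw => rw [hfm]; exact mul_mem hv hw
    | inv v _ hv => rw [show f 1 v⁻¹ = (f 1 v)⁻¹ by simp only [f]; group]; exact inv_mem hv
    | mem v hv =>
      rcases hv with rfl | rfl | rfl
      · exact hU1
      · rw [hff]; exact hU2
      · rw [hff]; exact hU3
  have hall : ∀ n, f n a ∈ U := by
    intro n
    induction n with
    | zero => rw [hf0]; exact hUa
    | succ n ih => rw [add_comm, ← hff]; exact hstep _ ih
  have hTU : (T : Subgroup G) ≤ U := fun v hv => by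
    by_cases hv1 : v = 1
    · rw [hv1]; exact one_mem _
    obtain ⟨i, -, hi⟩ := F.orbit v hv hv1
    exact hi ▸ hall i
  -- `U` has at most eight elements
  let g : Bool × Bool × Bool → G := fun p =>
    (if p.1 then a else 1) * (if p.2.1 then f 1 a else 1) * (if p.2.2 then f 2 a else 1)
  have hg : ∀ v ∈ U, ∃ p, g p = v := by
    have hab := hsyl ha (hmem 1)
    have hac := hsyl ha (hmem 2)
    have hbc := hsyl (hmem 1) (hmem 2)
    have haa := h.sq_sylow T a ha
    have hbb := h.sq_sylow T _ (hmem 1)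
    have hcc := h.sq_sylow T _ (hmem 2)
    have hgm : ∀ p p' : Bool × Bool × Bool,
        g p * g p' = g (Bool.xor p.1 p'.1, Bool.xor p.2.1 p'.2.1, Bool.xor p.2.2 p'.2.2) := by
      have key : ∀ {A B C A' B' C' : G}, A ∈ (T : Subgroup G) → B ∈ (T : Subgroup G) →
          C ∈ (T : Subgroup G) → A' ∈ (T : Subgroup G) → B' ∈ (T : Subgroup G) → C' ∈ (T : Subgroup G) →
          A * B * C * (A' * B' * C') = (A * A') * (B * B') * (C * C') := by
        intro A B C A' B' C' hA hB hC hA' hB' hC'
        calc A * B * C * (A' * B' * C') = A * ((B * C) * A') * B' * C' := by simp only [mul_assoc]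
          _ = A * (A' * (B * C)) * B' * C' := by rw [hsyl (mul_mem hB hC) hA']
          _ = A * A' * B * (C * B') * C' := by simp only [mul_assoc]
          _ = A * A' * B * (B' * C) * C' := by rw [hsyl hC hB']
          _ = _ := by simp only [mul_assoc]
      rintro ⟨b1, b2, b3⟩ ⟨c1, c2, c3⟩
      have m1 : ∀ b : Bool, (if b then a else (1 : G)) ∈ (T : Subgroup G) := fun b => by
        cases b <;> simp [ha, one_mem]
      have m2 : ∀ b : Bool, (if b then f 1 a else (1 : G)) ∈ (T : Subgroup G) := fun b => by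
        cases b <;> simp [hmem 1, one_mem]
      have m3 : ∀ b : Bool, (if b then f 2 a else (1 : G)) ∈ (T : Subgroup G) := fun b => by
        cases b <;> simp [hmem 2, one_mem]
      simp only [g]
      rw [key (m1 b1) (m2 b2) (m3 b3) (m1 c1) (m2 c2) (m3 c3)]
      cases b1 <;> cases b2 <;> cases b3 <;> cases c1 <;> cases c2 <;> cases c3 <;>
        simp [haa, hbb, hcc]
    intro v hv
    induction hv using Subgroup.closure_induction with
    | one => exact ⟨(false, false, false), by simp [g]⟩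
    | mul v w _ _ hv hw =>
      obtain ⟨p, rfl⟩ := hv
      obtain ⟨p', rfl⟩ := hw
      exact ⟨_, (hgm p p').symm⟩
    | inv v hv' hv =>
      obtain ⟨p, rfl⟩ := hv
      exact ⟨p, (inv_eq_of_mul_eq_one_right (h.sq_sylow T _ (hUT hv'))).symm⟩
    | mem v hv =>
      rcases hv with rfl | rfl | rfl
      · exact ⟨(true, false, false), by simp [g]⟩
      · exact ⟨(false, true, false), by simp [g]⟩
      · exact ⟨(false, false, true), by simp [g]⟩
  refine (Nat.card_le_card_of_injective (fun v : (T : Subgroup G) => (hg v (hTU v.2)).choose) ?_).trans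
    (le_of_eq (by simp))
  intro v w e
  have e' := congrArg g e
  simp only at e'
  rw [(hg v (hTU v.2)).choose_spec, (hg w (hTU w.2)).choose_spec] at e'
  exact Subtype.ext e'

theorem false_of_noCore {T : Sylow 2 G} (hB : NoCore T) : False := by
  haveI : Fact (Nat.Prime 2) := ⟨Nat.prime_two⟩
  obtain ⟨x, y, a, q, k, F⟩ := h.exists_frame hB
  obtain ⟨u, hu, huN, huy, hux⟩ := h.exists_u hB F
  obtain ⟨hr3, hua⟩ := h.r_eq_three hB F hu huN huy hux
  have h8 := h.card_le_eight F hr3
  obtain ⟨n, hn⟩ := IsPGroup.iff_card.1 T.2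
  have hcard := F.card
  have hq7 : q = 7 := by
    have hqr := F.qr
    have hq2 := F.q2
    have := F.hq.two_le
    rw [hn] at h8 hcard
    have hn3 : n ≤ 3 := by
      by_contra hlt
      have := Nat.pow_le_pow_right two_pos (show 4 ≤ n by omega)
      omega
    interval_cases n <;> norm_num at hcard <;> omega
  subst hq7
  set T' := (T : Subgroup G)
  set β := u • base T with hβdef
  have hβ : β ≠ base T := fun e => huN (mem_iff_fix.1 e)
  let t : ℕ → G := fun i => x ^ i * a * (x ^ i)⁻¹
  have htT : ∀ i, t i ∈ T' := fun i => (Subgroup.mem_normalizer_iff.1 (pow_mem F.hx i) a).1 F.ha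
  have hper : ∀ {i j : ℕ}, i % 7 = j % 7 → t i = t j := fun {i j} e => by
    show x ^ i * a * (x ^ i)⁻¹ = x ^ j * a * (x ^ j)⁻¹
    rw [pow_eq_pow_iff_modEq.2 (F.ox.symm ▸ (e : i ≡ j [MOD 7]))]
  have hne1 : ∀ i, t i ≠ 1 := fun i e => F.ha1 (conj_eq_one_iff.1 e)
  have hdiff : ∀ {i j : ℕ}, t i = t j → i % 7 = j % 7 := by
    intro i j e
    have key : ∀ {i j : ℕ}, i ≤ j → t i = t j → i % 7 = j % 7 := by
      intro i j hij e
      obtain ⟨d, rfl⟩ := Nat.exists_eq_add_of_le hij
      have e1 : x ^ d * a * (x ^ d)⁻¹ = a := by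
        have e' : x ^ i * a * (x ^ i)⁻¹ = x ^ (i + d) * a * (x ^ (i + d))⁻¹ := e
        rw [pow_add] at e'
        have := congrArg (fun z => (x ^ i)⁻¹ * z * x ^ i) e'
        simpa [mul_assoc] using this.symm
      by_contra hne
      refine F.ha1 (h.fix_commute_fpf F (i := d) (fun e' => hne ?_) F.ha (mul_inv_eq_iff_eq_mul.1 e1))
      have hd := orderOf_dvd_of_pow_eq_one e'
      rw [F.ox] at hd
      omega
    rcases le_total i j with hij | hij
    · exact key hij e
    · exact (key hij e.symm).symm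
  -- the lines
  obtain ⟨j, hj, hj01⟩ : ∃ j, j < 7 ∧ t 0 * t 1 = t j := by
    obtain ⟨j, hj, he⟩ := F.orbit _ (mul_mem (htT 0) (htT 1)) (fun e => by
      have := hdiff ((eq_inv_of_mul_eq_one_left e).trans
        (inv_eq_of_mul_eq_one_right (h.sq_sylow T _ (htT 1))))
      omega)
    exact ⟨j, hj, he.symm⟩
  have hline : ∀ i, t i * t (i + 1) = t (i + j) := by
    intro i
    have e : ∀ m, t (i + m) = x ^ i * t m * (x ^ i)⁻¹ := fun m => by
      show x ^ (i + m) * a * (x ^ (i + m))⁻¹ = x ^ i * (x ^ m * a * (x ^ m)⁻¹) * (x ^ i)⁻¹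
      rw [pow_add]; group
    have := congrArg (fun z => x ^ i * z * (x ^ i)⁻¹) hj01
    rw [e, e, ← Nat.add_zero i, e]
    simpa [mul_assoc] using this
  have hsq : ∀ i, t i * t i = 1 := fun i => h.sq_sylow T _ (htT i)
  have hcm : ∀ i l, t i * t l = t l * t i := fun i l => (h.comm_sylow T (htT i) (htT l)).eq
  -- rotations of a line
  have hrot : ∀ {a' b c : ℕ}, t a' * t b = t c → t c * t a' = t b ∧ t b * t c = t a' := by
    intro a' b c e
    constructor
    · rw [← e, hcm a' b, mul_assoc, hsq, mul_one]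
    · rw [← e, hcm a' b, ← mul_assoc, hsq, one_mul]
  -- the points
  let P : ℕ → G ⧸ normalizer ((T : Subgroup G) : Set G) := fun i => t i • β
  have hα : ∀ i, t i • base T = base T := fun i => mem_iff_fix.2 (le_normalizer (htT i))
  have hxβ : ∀ i : ℕ, (x ^ i)⁻¹ • β = β := by
    intro i
    rw [inv_smul_eq_iff]
    symm
    have hx1 : x • β = β := by
      have e : x * u = u * x⁻¹ := by
        have e1 : u * x * u = x⁻¹ := by rw [← hux, invol_inv hu]
        rw [← e1, show u * (u * x * u) = (u * u) * x * u by group, invol_mul_self hu, one_mul]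
      rw [hβdef, ← mul_smul, e, mul_smul, mem_iff_fix.2 (inv_mem F.hx)]
    exact MulAction.mem_stabilizer_iff.1 (pow_mem (show x ∈ MulAction.stabilizer G β from hx1) i)
  have huP : ∀ {i l : ℕ}, (i + l) % 7 = 0 → u • P i = P l := by
    intro i l hil
    have e : ∀ i, P i = x ^ i • (a • β) := fun i => by
      show (x ^ i * a * (x ^ i)⁻¹) • β = _
      rw [mul_smul, mul_smul, hxβ]
    have hl : x ^ l = (x ^ i)⁻¹ := by
      rw [eq_inv_iff_mul_eq_one, ← pow_add, ← orderOf_dvd_iff_pow_eq_one, F.ox]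
      omega
    rw [e, e, ← mul_smul, show u * x ^ i = x ^ l * u by
      rw [hl, ← inv_pow, ← hux, conj_pow, inv_mul_cancel_right], mul_smul, hua]
  have hua0 : u • base T = β := rfl
  have hub : u • β = base T := invol_smul_swap hu rfl
  have hPne : ∀ i, P i ≠ base T := fun i e => hβ (MulAction.injective (t i) (e.trans (hα i).symm))
  have htP : ∀ {c i l : ℕ}, t c * t i = t l → t c • P i = P l := fun {c i l} e => by
    show t c • (t i • β) = t l • β
    rw [← mul_smul, e]
  have htc : ∀ c, t c • P c = β := fun c => by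
    show t c • (t c • β) = β
    rw [← mul_smul, hsq, one_smul]
  -- an orbit of length nine is impossible
  have hnine : ∀ g : G, (g ^ 9) • base T = base T → (g ^ 3) • base T ≠ base T → False := by
    intro g h9 h3
    set d := Nat.gcd 9 (orderOf g) with hd
    have hgd : g ^ d ∈ MulAction.stabilizer G (base T) := by
      have e : g ^ (d : ℤ) = (g ^ (9 : ℤ)) ^ (Nat.gcdA 9 (orderOf g)) := by
        rw [hd, Nat.gcd_eq_gcd_ab, zpow_add, zpow_mul, zpow_mul, zpow_natCast g (orderOf g),
          pow_orderOf_eq_one, one_zpow, mul_one]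
        norm_num
      rw [← zpow_natCast, e]
      refine zpow_mem ?_ _
      rw [show (9 : ℤ) = ((9 : ℕ) : ℤ) from rfl, zpow_natCast]
      exact h9
    have hd9 : d ∣ 3 ^ 2 := Nat.gcd_dvd_left 9 (orderOf g)
    obtain ⟨i, hi, hdi⟩ := (Nat.dvd_prime_pow Nat.prime_three).1 hd9
    by_cases h2 : i = 2
    · have h9' : 9 ∣ orderOf g := by
        have := Nat.gcd_dvd_right 9 (orderOf g)
        rwa [← hd, hdi, h2] at this
      rcases h.ord g with e | e | e
      · rw [e] at h9'; omega
      · rcases (Nat.dvd_prime e).1 h9' with hh | hh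
        · omega
        · rw [← hh] at e; norm_num at e
      · rw [e, hr3] at h9'; omega
    · refine h3 (MulAction.mem_stabilizer_iff.1 ?_)
      obtain ⟨m, hm⟩ : d ∣ 3 := by
        rw [hdi]
        exact (Nat.pow_dvd_pow 3 (show i ≤ 1 by omega)).trans (dvd_of_eq (pow_one 3))
      rw [hm, pow_mul]
      exact pow_mem hgd m
  have hn01 : j ≠ 0 ∧ j ≠ 1 := by
    constructor <;> rintro rfl
    · exact hne1 1 (mul_left_cancel (hj01.trans (mul_one _).symm))
    · exact hne1 0 (mul_right_cancel (hj01.trans (one_mul _).symm))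
  have L : ∀ i a' b : ℕ, (i + 1) % 7 = a' % 7 → (i + j) % 7 = b % 7 → t i * t a' = t b := by
    intro i a' b e1 e2
    rw [← hper e1, ← hper e2]
    exact hline i
  have rev : ∀ {a' b c : ℕ}, t a' * t b = t c → t b * t a' = t c := fun e => by rw [hcm]; exact e
  interval_cases j
  · exact hn01.1 rfl
  · exact hn01.2 rfl
  · have := hdiff ((L 1 2 3 rfl rfl).symm.trans (hrot (L 0 1 2 rfl rfl)).2)
    omega
  · -- the line `{0, 1, 3}`
    have s1 : (t 2 * u) • base T = P 2 := by rw [mul_smul, hua0]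
    have s2 : (t 2 * u) • P 2 = P 3 := by
      rw [mul_smul, huP (l := 5) rfl]; exact htP (rev (hrot (L 2 3 5 rfl rfl)).1)
    have s3 : (t 2 * u) • P 3 = P 1 := by
      rw [mul_smul, huP (l := 4) rfl]; exact htP (hrot (L 1 2 4 rfl rfl)).2
    have s4 : (t 2 * u) • P 1 = P 0 := by
      rw [mul_smul, huP (l := 6) rfl]; exact htP (hrot (L 6 0 2 rfl rfl)).1
    have s5 : (t 2 * u) • P 0 = P 6 := by
      rw [mul_smul, huP (l := 0) rfl]; exact htP (rev (hrot (L 6 0 2 rfl rfl)).2)
    have s6 : (t 2 * u) • P 6 = P 4 := by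
      rw [mul_smul, huP (l := 1) rfl]; exact htP (rev (L 1 2 4 rfl rfl))
    have s7 : (t 2 * u) • P 4 = P 5 := by
      rw [mul_smul, huP (l := 3) rfl]; exact htP (L 2 3 5 rfl rfl)
    have s8 : (t 2 * u) • P 5 = β := by rw [mul_smul, huP (l := 2) rfl, htc]
    have s9 : (t 2 * u) • β = base T := by rw [mul_smul, hub, hα]
    generalize t 2 * u = g at s1 s2 s3 s4 s5 s6 s7 s8 s9
    refine hnine g ?_ ?_
    · simp only [pow_succ, pow_zero, one_mul, mul_smul, s1, s2, s3, s4, s5, s6, s7, s8, s9]
    · simp only [pow_succ, pow_zero, one_mul, mul_smul, s1, s2, s3]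
      exact hPne 1
  · have := hdiff ((hrot (L 4 5 1 rfl rfl)).1.symm.trans (hrot (L 0 1 4 rfl rfl)).2)
    omega
  · -- the line `{0, 1, 5}`
    have s1 : (t 3 * u) • base T = P 3 := by rw [mul_smul, hua0]
    have s2 : (t 3 * u) • P 3 = P 1 := by
      rw [mul_smul, huP (l := 4) rfl]; exact htP (L 3 4 1 rfl rfl)
    have s3 : (t 3 * u) • P 1 = P 5 := by
      rw [mul_smul, huP (l := 6) rfl]; exact htP (rev (hrot (L 5 6 3 rfl rfl)).2)
    have s4 : (t 3 * u) • P 5 = P 0 := by
      rw [mul_smul, huP (l := 2) rfl]; exact htP (rev (L 2 3 0 rfl rfl))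
    have s5 : (t 3 * u) • P 0 = P 2 := by
      rw [mul_smul, huP (l := 0) rfl]; exact htP (hrot (L 2 3 0 rfl rfl)).2
    have s6 : (t 3 * u) • P 2 = P 6 := by
      rw [mul_smul, huP (l := 5) rfl]; exact htP (hrot (L 5 6 3 rfl rfl)).1
    have s7 : (t 3 * u) • P 6 = P 4 := by
      rw [mul_smul, huP (l := 1) rfl]; exact htP (rev (hrot (L 3 4 1 rfl rfl)).1)
    have s8 : (t 3 * u) • P 4 = β := by rw [mul_smul, huP (l := 3) rfl, htc]
    have s9 : (t 3 * u) • β = base T := by rw [mul_smul, hub, hα]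
    generalize t 3 * u = g at s1 s2 s3 s4 s5 s6 s7 s8 s9
    refine hnine g ?_ ?_
    · simp only [pow_succ, pow_zero, one_mul, mul_smul, s1, s2, s3, s4, s5, s6, s7, s8, s9]
    · simp only [pow_succ, pow_zero, one_mul, mul_smul, s1, s2, s3]
      exact hPne 5
  · have := hdiff ((hrot (L 0 1 6 rfl rfl)).1.symm.trans (L 6 0 5 rfl rfl))
    omega

end Spec

end CfsgLib.InvChar.OneComposite
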