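import Cfsg.Agent.Lib.InvChar.OneComposite.Automizer

/-!
# Trivial cores: the normaliser of `T`

If all cores are trivial then `C(a) ≤ N(T)`, the automizer is `C_q : C_r` with `q = |T| - 1` and there
are `x, y ∈ N(T)` of orders `q, r` with `y` normalising `⟨x⟩` and centralising one involution `a`.
-/

set_option autoImplicit false
set_option linter.unusedSectionVars false
set_option linter.style.haveILetI false

namespace CfsgLib.InvChar.OneComposite

open Subgroup CfsgLib.Invol CfsgLib.EqOrder CfsgLib.FiveOrbit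

variable {G : Type*} [Group G] [Finite G] {r : ℕ}

/-- All cores are trivial. -/
def NoCore (T : Sylow 2 G) : Prop := ∀ a ∈ (T : Subgroup G), a ≠ 1 → core a = ⊥

/-- `N(T) = T : (⟨x⟩ : ⟨y⟩)`, `⟨x⟩` regular on the involutions of `T`, `y` fixing `a`. -/
structure Frame (T : Sylow 2 G) (r : ℕ) (x y a : G) (q k : ℕ) : Prop where
  hq : q.Prime
  qr : q ≠ r
  q2 : q ≠ 2
  ox : orderOf x = q
  oy : orderOf y = r
  hx : x ∈ normalizer ((T : Subgroup G) : Set G)
  hy : y ∈ normalizer ((T : Subgroup G) : Set G)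
  ha : a ∈ (T : Subgroup G)
  ha1 : a ≠ 1
  comm : Commute y a
  conj : y * x * y⁻¹ = x ^ k
  ne : x ^ k ≠ x
  fixy : ∀ b ∈ (T : Subgroup G), Commute y b → b = 1 ∨ b = a
  orbit : ∀ b ∈ (T : Subgroup G), b ≠ 1 → ∃ i : ℕ, i < q ∧ x ^ i * a * (x ^ i)⁻¹ = b
  decomp : ∀ n ∈ normalizer ((T : Subgroup G) : Set G),
    ∃ s ∈ (T : Subgroup G), ∃ i j : ℕ, n = s * x ^ i * y ^ j
  conjx : ∀ n ∈ normalizer ((T : Subgroup G) : Set G), orderOf n = q →
    ∃ s ∈ (T : Subgroup G), ∃ i : ℕ, n = s * x ^ i * s⁻¹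
  card : Nat.card (T : Subgroup G) = q + 1

/-- Two commuting fixed-point-free automorphisms of odd prime order generate a cyclic group. -/
theorem mem_zpowers_of_fpf {A : Type*} [CommGroup A] [Finite A] (hA : ∀ a : A, a * a = 1)
    (hne : Nontrivial A) {n m : MulAut A} {s : ℕ} (hs : s.Prime) (hs2 : s ≠ 2) (hn : n ^ s = 1)
    (hm : m ^ s = 1) (hc : Commute n m)
    (hfix : ∀ g : MulAut A, g ≠ 1 → g ∈ Subgroup.closure {n, m} → ∀ a, g a = a → a = 1) :
    n = 1 ∨ m ∈ zpowers n := by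
  classical
  by_contra hno
  push Not at hno
  obtain ⟨hn1, hmn⟩ := hno
  obtain ⟨v, hv⟩ := exists_ne (1 : A)
  have hnorm : ∀ g : MulAut A, g ≠ 1 → g ∈ Subgroup.closure {n, m} → g ^ s = 1 →
      ∀ w : A, ∏ i ∈ Finset.range s, (g ^ i) w = 1 := by
    intro g hg hgm hgs w
    refine hfix g hg hgm _ ?_
    rw [map_prod]
    have e : ∀ i, g ((g ^ i) w) = (g ^ (i + 1)) w := fun i => by rw [pow_succ', MulAut.mul_apply]
    rw [Finset.prod_congr rfl fun i _ => e i]
    have h1 := Finset.prod_range_succ' (fun i => (g ^ i) w) s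
    have h2 := Finset.prod_range_succ (fun i => (g ^ i) w) s
    rw [h1] at h2
    simp only [hgs, pow_zero, MulAut.one_apply] at h2
    exact mul_right_cancel h2
  have hn' : n ∈ Subgroup.closure {n, m} := Subgroup.subset_closure (Set.mem_insert _ _)
  have hm' : m ∈ Subgroup.closure {n, m} :=
    Subgroup.subset_closure (Set.mem_insert_of_mem _ rfl)
  -- the norms of the elements `n m ^ k`
  have h1 : ∏ k ∈ Finset.range s, ∏ i ∈ Finset.range s, ((n * m ^ k) ^ i) v = 1 := by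
    refine Finset.prod_eq_one fun k hk => hnorm _ (fun e => hmn ?_) (mul_mem hn' (pow_mem hm' k)) ?_ v
    · have hk0 : k ≠ 0 := fun e0 => hn1 (by simpa [e0] using e)
      have hco : k.Coprime s := ((hs.coprime_iff_not_dvd).2 fun hd => by
        have := Nat.le_of_dvd (Nat.pos_of_ne_zero hk0) hd
        have := Finset.mem_range.1 hk
        omega).symm
      obtain ⟨u, hu⟩ := exists_pow_eq_self_of_coprime (x := m) (n := k)
        (hco.coprime_dvd_right (orderOf_dvd_of_pow_eq_one hm))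
      rw [← hu, eq_inv_of_mul_eq_one_right e]
      exact pow_mem (inv_mem (mem_zpowers n)) u
    · rw [(hc.pow_right k).mul_pow, hn, ← pow_mul, mul_comm, pow_mul, hm, one_pow, mul_one]
  rw [Finset.prod_comm] at h1
  obtain ⟨s', rfl⟩ := Nat.exists_eq_succ_of_ne_zero hs.ne_zero
  rw [Finset.prod_range_succ'] at h1
  have h2 : ∀ i ∈ Finset.range s', ∏ k ∈ Finset.range (s' + 1), ((n * m ^ k) ^ (i + 1)) v = 1 := by
    intro i hi
    have e : ∀ k, ((n * m ^ k) ^ (i + 1)) v = (n ^ (i + 1)) (((m ^ (i + 1)) ^ k) v) := fun k => by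
      rw [(hc.pow_right k).mul_pow, MulAut.mul_apply, ← pow_mul, ← pow_mul, mul_comm k]
    rw [Finset.prod_congr rfl fun k _ => e k, ← map_prod,
      hnorm (m ^ (i + 1)) (fun e1 => hmn ?_) (pow_mem hm' _)
        (by rw [← pow_mul, mul_comm, pow_mul, hm, one_pow]) v, map_one]
    have hco : (i + 1).Coprime (s' + 1) := ((hs.coprime_iff_not_dvd).2 fun hd => by
      have := Nat.le_of_dvd (Nat.succ_pos i) hd
      have := Finset.mem_range.1 hi
      omega).symm
    obtain ⟨u, hu⟩ := exists_pow_eq_self_of_coprime (x := m) (n := i + 1)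
      (hco.coprime_dvd_right (orderOf_dvd_of_pow_eq_one hm))
    rw [← hu, e1, one_pow]
    exact one_mem _
  rw [Finset.prod_eq_one h2, one_mul] at h1
  have h3 : v ^ (s' + 1) = 1 := by simpa using h1
  obtain ⟨l, hl⟩ := hs.odd_of_ne_two hs2
  have hl' : s' + 1 = 2 * l + 1 := hl
  rw [hl', pow_succ, pow_mul, pow_two, hA, one_pow, one_mul] at h3
  exact hv h3

namespace Spec

variable (h : Spec G r)
include h

theorem se_of_noCore {T : Sylow 2 G} (hB : NoCore T) :
    Cfsg.IsStronglyEmbedded (normalizer ((T : Subgroup G) : Set G)) := by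
  haveI := h.simple
  refine h.isStronglyEmbedded (fun e => ?_) le_rfl fun a ha ha1 c hc => ?_
  · obtain ⟨a, ha, ha1⟩ := h.exists_ne_one T
    rcases IsSimpleGroup.eq_bot_or_eq_top_of_normal _ (Subgroup.normalizer_eq_top_iff.1 e) with e' | e'
    · exact ha1 (Subgroup.mem_bot.1 (e' ▸ ha))
    · exact h.nonab ⟨⟨fun x y => (h.comm_sylow T (e' ▸ mem_top x) (e' ▸ mem_top y)).eq⟩⟩
  · obtain ⟨w, hw, n, hn, -, rfl⟩ := h.decomp_centralizer ha ha1 hc
    rw [hB a ha ha1, Subgroup.mem_bot] at hw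
    rwa [hw, one_mul]

theorem centralizer_le_noCore {T : Sylow 2 G} (hB : NoCore T) {a c : G} (ha : a ∈ (T : Subgroup G))
    (ha1 : a ≠ 1) (hc : Commute c a) : c ∈ normalizer ((T : Subgroup G) : Set G) :=
  se_mem_of_commute (h.se_of_noCore hB) (h.invol_sylow ha ha1) (le_normalizer ha) hc

theorem mem_of_centralizes {T : Sylow 2 G} (hB : NoCore T) {c : G}
    (hc : ∀ a ∈ (T : Subgroup G), Commute c a) : c ∈ (T : Subgroup G) := by
  obtain ⟨b, hb, ho⟩ := h.odd_part_centralizer hc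
  obtain ⟨a, ha, ha1⟩ := h.exists_ne_one T
  have hcb : ∀ d ∈ (T : Subgroup G), Commute (c * b) d := fun d hd =>
    (hc d hd).mul_left (h.comm_sylow T hb hd)
  have hle := h.le_core (Y := zpowers (c * b)) ha ha1 (by rw [Nat.card_zpowers]; exact ho)
    (fun y ⟨i, hi⟩ => hi ▸ (hcb a ha).zpow_left i)
    (fun d hd y ⟨i, hi⟩ => by
      subst hi
      rw [← ((hcb d hd).zpow_left i).eq, mul_inv_cancel_right]
      exact zpow_mem (mem_zpowers _) i)
  rw [hB a ha ha1] at hle
  rw [eq_inv_of_mul_eq_one_left (Subgroup.mem_bot.1 (hle (mem_zpowers _)))]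
  exact inv_mem hb

/-- Elements with the same action differ by an element of `T`. -/
theorem div_mem_of_autT_eq {T : Sylow 2 G} (hB : NoCore T)
    {n m : normalizer ((T : Subgroup G) : Set G)} (e : autT T n = autT T m) :
    (n : G) * (m : G)⁻¹ ∈ (T : Subgroup G) :=
  h.mem_of_centralizes hB (autT_eq_one_iff.1
    (show autT T (n * m⁻¹) = 1 by rw [map_mul, map_inv, e, mul_inv_cancel]))

theorem exists_frame {T : Sylow 2 G} (hB : NoCore T) :
    ∃ (x y a : G) (q k : ℕ), Frame T r x y a q k := by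
  classical
  haveI := Fact.mk h.hr
  haveI : Fact (Nat.Prime 2) := ⟨Nat.prime_two⟩
  have hT : Trans T := fun _ ha ha1 _ hb hb1 => h.transitive (h.se_of_noCore hB) ha ha1 hb hb1
  set N := normalizer ((T : Subgroup G) : Set G) with hN
  -- an element of order `r` of the automizer with a fixed point
  obtain ⟨ly, a, ha, ha1, hly, hla⟩ : ∃ ly : (autT T).range, ∃ a : G, ∃ (ha : a ∈ (T : Subgroup G)),
      a ≠ 1 ∧ orderOf ly = r ∧ ly • (⟨a, ha⟩ : (T : Subgroup G)) = ⟨a, ha⟩ := by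
    obtain ⟨g, hg⟩ := h.two_r
    have h2 : orderOf (g ^ r) = 2 := by
      rw [orderOf_pow_of_dvd h.hr.ne_zero (hg ▸ dvd_mul_left r 2), hg, Nat.mul_div_cancel 2 h.hr.pos]
    have hr' : orderOf (g ^ 2) = r := by
      rw [orderOf_pow_of_dvd two_ne_zero (hg ▸ dvd_mul_right 2 r), hg, Nat.mul_div_cancel_left r two_pos]
    obtain ⟨c, hc⟩ := h.exists_conj_mem T h2
    have hc1 : c * g ^ r * c⁻¹ ≠ 1 := fun e => invol_ne_one h2 (conj_eq_one_iff.1 e)
    have hcm : Commute (c * g ^ 2 * c⁻¹) (c * g ^ r * c⁻¹) :=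
      (Commute.conj_iff c).2 ((Commute.refl g).pow_pow 2 r)
    have hmem := h.centralizer_le_noCore hB hc hc1 hcm
    refine ⟨⟨autT T ⟨_, hmem⟩, _, rfl⟩, c * g ^ r * c⁻¹, hc, hc1, ?_,
      Subtype.ext (show _ * _ * _⁻¹ = _ by rw [hcm.eq, mul_inv_cancel_right])⟩
    rw [← Subgroup.orderOf_coe]
    refine orderOf_eq_prime ?_ fun e => ?_
    · rw [← map_pow, show (⟨_, hmem⟩ : N) ^ r = 1 from Subtype.ext (by
        rw [SubgroupClass.coe_pow, conj_pow, ← hr', pow_orderOf_eq_one]; simp), map_one]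
    · have hoT := eq_one_of_two_of_odd T.2 (h.mem_of_centralizes hB (autT_eq_one_iff.1 e))
        (by rw [orderOf_conj_eq, hr']; exact h.r_odd)
      have h1 := conj_eq_one_iff.1 hoT
      rw [h1, orderOf_one] at hr'
      exact h.hr.one_lt.ne hr'
  set a' : (T : Subgroup G) := ⟨a, ha⟩ with ha'def
  have ha' : a' ≠ 1 := fun e => ha1 (congrArg Subtype.val e)
  have hly1 : ly ≠ 1 := fun e => h.hr.one_lt.ne (by rw [← hly, e, orderOf_one])
  -- a minimal normal subgroup, of prime order `q ≠ r`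
  obtain ⟨N₀, hN₀, hne, hab, q, hq, hexp⟩ := h.exists_minimal T (h.nontrivial_range hT)
  obtain ⟨x₀, hx₀, hx₀r⟩ : ∃ x₀ : (autT T).range, x₀ ≠ 1 ∧ orderOf x₀ ≠ r := by
    by_contra hne'
    push Not at hne'
    exact hly1 (h.stab_eq_one_of_r_group hT hne' ha ha1 hla)
  have hqr : q ≠ r := fun e => h.minimal_ne_r hT hN₀ hne (e ▸ hexp) hx₀ hx₀r
  have hN₀o : ∀ {n}, n ∈ N₀ → n ≠ 1 → orderOf n = q := fun hn hn1 =>
    ((Nat.dvd_prime hq).1 (orderOf_dvd_of_pow_eq_one (hexp _ hn))).resolve_left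
      fun e => hn1 (orderOf_eq_one_iff.1 e)
  obtain ⟨lx, hlx, hlx1⟩ := (Subgroup.bot_or_exists_ne_one _).resolve_left hne
  have hlxo := hN₀o hlx hlx1
  have hq2 : q ≠ 2 := fun e => Nat.not_even_iff_odd.2
    ((h.odd_range T).of_dvd_nat (orderOf_dvd_natCard lx)) (by rw [hlxo, e]; exact even_two)
  -- elements of order `q` commuting with `lx` are its powers
  haveI : IsMulCommutative (T : Subgroup G) :=
    isMulCommutative_of fun a ha b hb => (h.comm_sylow T ha hb).eq
  open scoped IsMulCommutative in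
  have hcyc : ∀ l : (autT T).range, Commute lx l → l ∈ zpowers lx := by
    intro l hc
    by_cases hl : l = 1
    · rw [hl]; exact one_mem _
    obtain ⟨hlp, -⟩ := h.range_order hl
    have hlo : orderOf l = q := by
      by_contra hne'
      have he := hc.orderOf_mul_eq_mul_orderOf_of_coprime
        (by rw [hlxo]; exact (Nat.coprime_primes hq hlp).2 (Ne.symm hne'))
      rw [hlxo] at he
      by_cases h1 : lx * l = 1
      · rw [h1, orderOf_one] at he
        exact hq.one_lt.ne' (Nat.eq_one_of_mul_eq_one_right he.symm)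
      · have := (h.range_order h1).1
        rw [he] at this
        exact Nat.not_prime_mul hq.one_lt.ne' hlp.one_lt.ne' this
    have hqcl : ∀ g : (autT T).range, g ∈ Subgroup.closure {lx, l} → g ^ q = 1 := by
      intro g hg
      have hall : ∀ g, g ∈ Subgroup.closure {lx, l} → Commute g lx ∧ Commute g l := by
        intro g hg
        induction hg using Subgroup.closure_induction with
        | one => exact ⟨Commute.one_left _, Commute.one_left _⟩
        | mul a b _ _ h1 h2 => exact ⟨h1.1.mul_left h2.1, h1.2.mul_left h2.2⟩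
        | inv a _ h1 => exact ⟨h1.1.inv_left, h1.2.inv_left⟩
        | mem g hg =>
          rcases hg with rfl | rfl
          · exact ⟨Commute.refl _, hc⟩
          · exact ⟨hc.symm, Commute.refl _⟩
      have hcomm : ∀ a b, a ∈ Subgroup.closure {lx, l} → b ∈ Subgroup.closure {lx, l} → Commute a b := by
        intro a b ha hb
        induction hb using Subgroup.closure_induction with
        | one => exact Commute.one_right _
        | mul u v _ _ k1 k2 => exact k1.mul_right k2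
        | inv u _ k1 => exact k1.inv_right
        | mem u hu =>
          rcases hu with rfl | rfl
          · exact (hall a ha).1
          · exact (hall a ha).2
      induction hg using Subgroup.closure_induction with
      | one => exact one_pow _
      | mul a b ha hb h1 h2 => rw [(hcomm a b ha hb).mul_pow, h1, h2, one_mul]
      | inv a _ h1 => rw [inv_pow, h1, inv_one]
      | mem g hg =>
        rcases hg with rfl | rfl
        · rw [← hlxo, pow_orderOf_eq_one]
        · rw [← hlo, pow_orderOf_eq_one]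
    have hor : ∀ g : (autT T).range, g ∈ Subgroup.closure {lx, l} → g ≠ 1 → orderOf g ≠ r :=
      fun g hg hg1 e => hqr ((Nat.prime_dvd_prime_iff_eq h.hr hq).1
        (e ▸ orderOf_dvd_of_pow_eq_one (hqcl g hg))).symm
    have hTne : Nontrivial (T : Subgroup G) := ⟨⟨a', 1, ha'⟩⟩
    rcases mem_zpowers_of_fpf (A := (T : Subgroup G)) (n := (lx : MulAut (T : Subgroup G)))
      (m := (l : MulAut (T : Subgroup G))) (fun b => Subtype.ext (h.sq_sylow T b b.2)) hTne hq hq2
      (by rw [← SubgroupClass.coe_pow, ← hlxo, pow_orderOf_eq_one, OneMemClass.coe_one])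
      (by rw [← SubgroupClass.coe_pow, ← hlo, pow_orderOf_eq_one, OneMemClass.coe_one])
      (hc.map (autT T).range.subtype) (fun g hg1 hg b hb => by
        have hg' : g ∈ (Subgroup.closure {lx, l}).map (autT T).range.subtype := by
          rw [MonoidHom.map_closure, Set.image_pair]; exact hg
        obtain ⟨g', hg'', rfl⟩ := hg'
        have hg'1 : g' ≠ 1 := fun e => hg1 (by rw [e]; rfl)
        exact h.fix_eq_one hg'1 (hor g' hg'' hg'1) hb) with e | e
    · exact absurd (Subtype.ext e) hlx1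
    · obtain ⟨i, hi⟩ := e
      exact ⟨i, Subtype.ext (by rw [SubgroupClass.coe_zpow]; exact hi)⟩
  have hN₀eq : N₀ = zpowers lx := le_antisymm (fun n hn => hcyc n (hab lx hlx n hn)) (zpowers_le.2 hlx)
  -- `L / N₀` has order `r`
  haveI : IsCyclic N₀ := by rw [hN₀eq]; infer_instance
  have hNcard : Nat.card N₀ = q := by rw [hN₀eq, Nat.card_zpowers, hlxo]
  set ρ : (autT T).range →* MulAut N₀ := MulAut.conjNormal with hρ
  have hρker : ρ.ker = N₀ := by
    ext l
    rw [MonoidHom.mem_ker]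
    constructor
    · intro e
      have e' := congrArg Subtype.val (DFunLike.congr_fun e ⟨lx, hlx⟩)
      rw [hρ, MulAut.conjNormal_apply, MulAut.one_apply, mul_inv_eq_iff_eq_mul] at e'
      exact hN₀eq ▸ hcyc l e'.symm
    · intro hl
      refine MulEquiv.ext fun n => Subtype.ext ?_
      rw [hρ, MulAut.conjNormal_apply, MulAut.one_apply, hab l hl n n.2, mul_inv_cancel_right]
  haveI : IsCyclic (MulAut N₀) := by
    haveI : Fact q.Prime := ⟨hq⟩
    exact isCyclic_of_surjective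
      (hNcard ▸ IsCyclic.mulAutMulEquiv N₀).symm (MulEquiv.surjective _)
  have hρr : Nat.card ρ.range = r := by
    obtain ⟨g, hg⟩ := IsCyclic.exists_ofOrder_eq_natCard (α := ρ.range)
    obtain ⟨l, hl⟩ := g.2
    have hlyn : ly ∉ N₀ := fun hm => hqr ((hN₀o hm hly1).symm.trans hly)
    have hlyo : orderOf (⟨ρ ly, ly, rfl⟩ : ρ.range) = r := by
      refine orderOf_eq_prime (Subtype.ext ?_) fun e => hlyn (hρker ▸ MonoidHom.mem_ker.2 (congrArg Subtype.val e))
      rw [SubgroupClass.coe_pow, ← map_pow, ← hly, pow_orderOf_eq_one, map_one, OneMemClass.coe_one]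
    have hdr : r ∣ Nat.card ρ.range := hlyo ▸ orderOf_dvd_natCard _
    have hl1 : l ≠ 1 := by
      rintro rfl
      rw [map_one] at hl
      rw [← hg, ← Subgroup.orderOf_coe g, ← hl, orderOf_one] at hdr
      exact h.hr.one_lt.ne' (Nat.dvd_one.1 hdr)
    obtain ⟨hlp, -⟩ := h.range_order hl1
    have hdl : Nat.card ρ.range ∣ orderOf l := by
      rw [← hg, ← Subgroup.orderOf_coe g, ← hl]; exact orderOf_map_dvd ρ l
    rcases (Nat.dvd_prime hlp).1 hdl with e | e
    · rw [e] at hdr; exact absurd (Nat.dvd_one.1 hdr) h.hr.one_lt.ne'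
    · rw [e] at hdr ⊢
      exact ((Nat.prime_dvd_prime_iff_eq h.hr hlp).1 hdr).symm
  have hLcard : Nat.card (autT T).range = q * r := by
    rw [← ρ.ker.card_mul_index, Subgroup.index_ker, hρker, hNcard, hρr]
  -- every element is `lx ^ i * ly ^ j`
  have hprod : ∀ l : (autT T).range, ∃ i j : ℕ, i < q ∧ l = lx ^ i * ly ^ j := by
    have hf : Function.Injective (fun p : Fin q × Fin r => lx ^ (p.1 : ℕ) * ly ^ (p.2 : ℕ)) := by
      rintro ⟨i, j⟩ ⟨i', j'⟩ e
      have e1 : (lx ^ (i' : ℕ))⁻¹ * lx ^ (i : ℕ) = ly ^ (j' : ℕ) * (ly ^ (j : ℕ))⁻¹ := by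
        rw [eq_mul_inv_iff_mul_eq, mul_assoc, inv_mul_eq_iff_eq_mul]; exact e
      have hboth : (lx ^ (i' : ℕ))⁻¹ * lx ^ (i : ℕ) = 1 := by
        have hm : (lx ^ (i' : ℕ))⁻¹ * lx ^ (i : ℕ) ∈ N₀ := mul_mem (inv_mem (pow_mem hlx _)) (pow_mem hlx _)
        by_contra h1
        have h2 : ((lx ^ (i' : ℕ))⁻¹ * lx ^ (i : ℕ)) ^ r = 1 := by
          rw [e1, ((Commute.refl ly).pow_pow _ _).inv_right.mul_pow, inv_pow, ← pow_mul, ← pow_mul,
            mul_comm, pow_mul, mul_comm, pow_mul, show ly ^ r = 1 from orderOf_dvd_iff_pow_eq_one.1 hly.dvd,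
            one_pow, one_pow,
            inv_one, mul_one]
        exact hqr ((Nat.prime_dvd_prime_iff_eq hq h.hr).1 (hN₀o hm h1 ▸ orderOf_dvd_of_pow_eq_one h2))
      rw [hboth] at e1
      have hi : (i : ℕ) = i' := (pow_injOn_Iio_orderOf (x := lx)) (by simpa [hlxo] using i.2)
        (by simpa [hlxo] using i'.2) (inv_mul_eq_one.1 hboth).symm
      have hj : (j : ℕ) = j' := (pow_injOn_Iio_orderOf (x := ly)) (by simpa [hly] using j.2)
        (by simpa [hly] using j'.2) (mul_inv_eq_one.1 e1.symm).symm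
      exact Prod.ext (Fin.ext hi) (Fin.ext hj)
    intro l
    obtain ⟨⟨i, j⟩, rfl⟩ := (hf.bijective_of_nat_card_le (by
      rw [Nat.card_prod, Nat.card_fin, Nat.card_fin, hLcard])).2 l
    exact ⟨i, j, i.2, rfl⟩
  have hlyfix : ∀ j : ℕ, ly ^ j • a' = a' := fun j =>
    MulAction.mem_stabilizer_iff.1 (pow_mem (show ly ∈ MulAction.stabilizer _ a' from hla) j)
  have hfree : ∀ {l : (autT T).range}, l ∈ N₀ → l • a' = a' → l = 1 := fun {l} hl hfx => by
    by_contra hl1
    exact ha' (h.fix_eq_one hl1 (by rw [hN₀o hl hl1]; exact hqr) hfx)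
  -- lift to `N(T)`
  obtain ⟨-, X, hX, hXo⟩ := h.range_order hlx1
  obtain ⟨-, Y₀, hY₀, hY₀o⟩ := h.range_order hly1
  rw [hlxo] at hXo
  have hfixX : ∀ i : ℕ, lx ^ i ≠ 1 → ∀ b ∈ (T : Subgroup G), Commute ((X : G) ^ i) b → b = 1 := by
    intro i hi b hb hc
    have := h.fix_eq_one (a := ⟨b, hb⟩) hi (by rw [hN₀o (pow_mem hlx i) hi]; exact hqr) (by
      rw [SubgroupClass.coe_pow, ← hX, ← map_pow]
      exact Subtype.ext (show ((X ^ i : N) : G) * b * ((X ^ i : N) : G)⁻¹ = b by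
        rw [SubgroupClass.coe_pow, hc.eq, mul_inv_cancel_right]))
    exact congrArg Subtype.val this
  -- elements with the same image as a power of `X` are `T`-conjugate to it
  have hsame : ∀ i : ℕ, lx ^ i ≠ 1 → ∀ n : N, autT T n = ((lx ^ i : (autT T).range) : MulAut _) →
      ∃ s ∈ (T : Subgroup G), (n : G) = s * (X : G) ^ i * s⁻¹ := by
    intro i hi n hn
    let f : ↥(T : Subgroup G) → ↥(T : Subgroup G) := fun s =>
      ⟨(s : G) * ((X : G) ^ i * (s : G)⁻¹ * ((X : G) ^ i)⁻¹),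
        mul_mem s.2 ((Subgroup.mem_normalizer_iff.1 (pow_mem X.2 i) _).1 (inv_mem s.2))⟩
    have hf : Function.Injective f := by
      intro s s' e
      have e' : (s : G) * ((X : G) ^ i * (s : G)⁻¹ * ((X : G) ^ i)⁻¹)
          = (s' : G) * ((X : G) ^ i * (s' : G)⁻¹ * ((X : G) ^ i)⁻¹) := congrArg Subtype.val e
      have hc : Commute ((X : G) ^ i) ((s' : G)⁻¹ * s) := by
        have := congrArg (fun z => (s' : G)⁻¹ * z * (X : G) ^ i * (s : G)) e'
        exact (by simpa [mul_assoc] using this : (s' : G)⁻¹ * s * (X : G) ^ i = (X : G) ^ i * ((s' : G)⁻¹ * s)).symm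
      exact Subtype.ext (inv_mul_eq_one.1 (hfixX i hi _ (mul_mem (inv_mem s'.2) s.2) hc)).symm
    have hT' : (n : G) * ((X ^ i : N) : G)⁻¹ ∈ (T : Subgroup G) := h.div_mem_of_autT_eq hB (by
      rw [hn, SubgroupClass.coe_pow, map_pow, hX])
    obtain ⟨s, hs⟩ := Finite.injective_iff_surjective.1 hf ⟨_, hT'⟩
    refine ⟨s, s.2, ?_⟩
    have e' := congrArg Subtype.val hs
    simp only [f, SubgroupClass.coe_pow] at e'
    rw [eq_mul_inv_iff_mul_eq] at e'
    rw [← e']
    group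
  -- the conjugate of `lx` by `ly`
  obtain ⟨k, hk⟩ : ∃ k : ℕ, ly * lx * ly⁻¹ = lx ^ k := by
    have hm := hN₀.conj_mem lx hlx ly
    rw [hN₀eq, ← mem_powers_iff_mem_zpowers] at hm
    obtain ⟨k, hk⟩ := hm
    exact ⟨k, hk.symm⟩
  have hkne : lx ^ k ≠ lx := fun e => by
    have : Commute lx ly := by
      rw [e, mul_inv_eq_iff_eq_mul] at hk
      exact hk.symm
    have := hcyc ly this
    rw [← hN₀eq] at this
    exact hqr ((hN₀o this hly1).symm.trans hly)
  have hk1 : lx ^ k ≠ 1 := by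
    rw [← hk]; exact fun e => hlx1 (conj_eq_one_iff.1 e)
  obtain ⟨s, hs, hse⟩ := hsame k hk1 (Y₀ * X * Y₀⁻¹) (by
    rw [map_mul, map_mul, map_inv, hY₀, hX, ← hk]; rfl)
  have hse' : (Y₀ : G) * X * (Y₀ : G)⁻¹ = s * (X : G) ^ k * s⁻¹ := hse
  set y₁ : G := s⁻¹ * Y₀ with hy₁
  have hy₁N : y₁ ∈ N := mul_mem (le_normalizer (inv_mem hs)) Y₀.2
  have hy₁ψ : autT T ⟨y₁, hy₁N⟩ = (ly : MulAut (T : Subgroup G)) := by
    rw [← hY₀, autT_eq_iff]
    intro b hb
    show s⁻¹ * (Y₀ : G) * b * (s⁻¹ * (Y₀ : G))⁻¹ = _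
    have hm : (Y₀ : G) * b * (Y₀ : G)⁻¹ ∈ (T : Subgroup G) := (Subgroup.mem_normalizer_iff.1 Y₀.2 b).1 hb
    calc s⁻¹ * (Y₀ : G) * b * (s⁻¹ * (Y₀ : G))⁻¹ = s⁻¹ * ((Y₀ : G) * b * (Y₀ : G)⁻¹) * s := by group
      _ = _ := by rw [(h.comm_sylow T (inv_mem hs) hm).eq, inv_mul_cancel_right]
  have hy₁x : y₁ * (X : G) * y₁⁻¹ = (X : G) ^ k := by
    calc y₁ * (X : G) * y₁⁻¹ = s⁻¹ * ((Y₀ : G) * X * (Y₀ : G)⁻¹) * s := by rw [hy₁]; group
      _ = _ := by rw [hse']; group
  -- its part of order `r`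
  obtain ⟨y, hyN, hyψ, hyo, hyx⟩ : ∃ y : G, ∃ hy : y ∈ N,
      autT T ⟨y, hy⟩ = (ly : MulAut (T : Subgroup G)) ∧ orderOf y = r ∧ y * (X : G) * y⁻¹ = (X : G) ^ k := by
    have hd : r ∣ orderOf y₁ := by
      rw [← hly, ← Subgroup.orderOf_coe ly, ← hy₁ψ, ← Subgroup.orderOf_mk y₁ hy₁N]
      exact orderOf_map_dvd _ _
    rcases h.ord y₁ with e | e | e
    · rw [e] at hd; exact absurd (Nat.dvd_one.1 hd) h.hr.one_lt.ne'
    · exact ⟨y₁, hy₁N, hy₁ψ, ((Nat.prime_dvd_prime_iff_eq h.hr e).1 hd).symm, hy₁x⟩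
    · refine ⟨y₁ ^ (r + 1), pow_mem hy₁N _, ?_, ?_, ?_⟩
      · show autT T ((⟨y₁, hy₁N⟩ : N) ^ (r + 1)) = _
        rw [map_pow, hy₁ψ, ← SubgroupClass.coe_pow, pow_succ, ← hly, pow_orderOf_eq_one, one_mul]
      · obtain ⟨j, hj⟩ := h.r_odd
        have h2 : orderOf (y₁ ^ 2) = r := by
          rw [orderOf_pow_of_dvd two_ne_zero (e ▸ dvd_mul_right 2 r), e, Nat.mul_div_cancel_left r two_pos]
        rw [show r + 1 = 2 * (j + 1) by omega, pow_mul, Nat.Coprime.orderOf_pow (by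
          rw [h2]
          exact (h.hr.coprime_iff_not_dvd).2 fun hd' => by
            have := h.three_le
            have := Nat.le_of_dvd (by omega) hd'; omega), h2]
      · -- `y₁ ^ r` centralises `X`
        have hψ2 : autT T (⟨y₁, hy₁N⟩ ^ r) = 1 := by
          rw [map_pow, hy₁ψ, ← SubgroupClass.coe_pow, ← hly, pow_orderOf_eq_one, OneMemClass.coe_one]
        have hT1 : y₁ ^ r ∈ (T : Subgroup G) := h.mem_of_centralizes hB (autT_eq_one_iff.1 hψ2)
        have hpm : ∀ i : ℕ, y₁ ^ i * (X : G) * (y₁ ^ i)⁻¹ ∈ zpowers (X : G) := by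
          intro i
          induction i with
          | zero => simp
          | succ i ih =>
            obtain ⟨j', hj'⟩ := ih
            rw [pow_succ', show y₁ * y₁ ^ i * (X : G) * (y₁ * y₁ ^ i)⁻¹ = y₁ * (y₁ ^ i * X * (y₁ ^ i)⁻¹) * y₁⁻¹ by group,
              ← hj']
            show y₁ * (X : G) ^ j' * y₁⁻¹ ∈ zpowers (X : G)
            rw [← conj_zpow, hy₁x]
            exact zpow_mem (pow_mem (mem_zpowers _) k) j'
        set t := y₁ ^ r with ht
        have hcomm : Commute t (X : G) := by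
          have hmX : t * (X : G) * t⁻¹ * (X : G)⁻¹ ∈ zpowers (X : G) := mul_mem (hpm r) (inv_mem (mem_zpowers _))
          have hmT : t * (X : G) * t⁻¹ * (X : G)⁻¹ ∈ (T : Subgroup G) := by
            have := mul_mem hT1 ((Subgroup.mem_normalizer_iff.1 X.2 t⁻¹).1 (inv_mem hT1))
            simpa [mul_assoc] using this
          have h1 := eq_one_of_two_of_odd T.2 hmT (odd_of_mem
            (by rw [Nat.card_zpowers, hXo]; exact hq.odd_of_ne_two hq2) hmX)
          exact mul_inv_eq_iff_eq_mul.1 (mul_inv_eq_one.1 h1)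
        rw [pow_succ', ← ht, mul_inv_rev, show y₁ * t * (X : G) * (t⁻¹ * y₁⁻¹) = y₁ * (t * X * t⁻¹) * y₁⁻¹ by group,
          hcomm.eq, mul_inv_cancel_right, hy₁x]
  have hcomm : Commute y a := by
    have e0 : (ly : MulAut (T : Subgroup G)) a' = a' := hla
    rw [← hyψ] at e0
    have e : y * a * y⁻¹ = a := congrArg Subtype.val e0
    exact mul_inv_eq_iff_eq_mul.1 e
  have hXi : ∀ i : ℕ, (lx ^ i • a' : (T : Subgroup G)).1 = (X : G) ^ i * a * ((X : G) ^ i)⁻¹ := fun i => by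
    rw [show lx ^ i • a' = ((lx ^ i : (autT T).range) : MulAut _) a' from rfl, SubgroupClass.coe_pow,
      ← hX, ← map_pow]
    rfl
  have horb : ∀ b ∈ (T : Subgroup G), b ≠ 1 → ∃ i : ℕ, i < q ∧ (X : G) ^ i * a * ((X : G) ^ i)⁻¹ = b := by
    intro b hb hb1
    obtain ⟨m, hm, hme⟩ := hT a ha ha1 b hb hb1
    obtain ⟨i, j, hi, he⟩ := hprod ⟨autT T ⟨m, hm⟩, _, rfl⟩
    refine ⟨i, hi, ?_⟩
    have h1 : (⟨autT T ⟨m, hm⟩, _, rfl⟩ : (autT T).range) • a' = lx ^ i • a' := by
      rw [he, mul_smul, hlyfix]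
    rw [← hXi i, ← h1]
    exact hme
  refine ⟨X, y, a, q, k, ⟨hq, hqr, hq2, hXo, hyo, X.2, hyN, ha, ha1, hcomm, hyx, fun e => hkne ?_, ?_,
    horb, ?_, ?_, ?_⟩⟩
  · exact Subtype.ext (by
      rw [SubgroupClass.coe_pow, ← hX, ← map_pow, show X ^ k = X from Subtype.ext (by rw [SubgroupClass.coe_pow]; exact e)])
  · -- the fixed points of `y`
    intro b hb hc
    by_contra hne'
    push Not at hne'
    obtain ⟨i, -, hi⟩ := horb b hb hne'.1
    have hb' : lx ^ i • a' = ⟨b, hb⟩ := Subtype.ext ((hXi i).trans hi)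
    have hfb : ly • (⟨b, hb⟩ : (T : Subgroup G)) = ⟨b, hb⟩ := by
      refine Subtype.ext ?_
      rw [show ly • (⟨b, hb⟩ : (T : Subgroup G)) = (ly : MulAut _) ⟨b, hb⟩ from rfl, ← hyψ]
      show y * b * y⁻¹ = b
      rw [hc.eq, mul_inv_cancel_right]
    rw [← hb', ← mul_smul] at hfb
    have h2 : ((lx ^ i)⁻¹ * (lx ^ k) ^ i) • a' = a' := by
      rw [← hk, conj_pow, mul_smul, mul_smul, mul_smul, show ly⁻¹ • a' = a' from inv_smul_eq_iff.2 hla.symm,
        ← mul_smul ly, hfb, inv_smul_smul]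
    have h3 := hfree (mul_mem (inv_mem (pow_mem hlx i)) (pow_mem (pow_mem hlx k) i)) h2
    rw [inv_mul_eq_one, ← pow_mul, mul_comm, pow_mul] at h3
    by_cases hi1 : lx ^ i = 1
    · have hX1 : (X : G) ^ i = 1 := by
        have hd := orderOf_dvd_iff_pow_eq_one.2 hi1
        rw [hlxo, ← hXo] at hd
        exact orderOf_dvd_iff_pow_eq_one.1 hd
      exact hne'.2 (by rw [← hi, hX1, one_mul, inv_one, mul_one])
    · have hco : i.Coprime q := ((hq.coprime_iff_not_dvd).2 fun hd => hi1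
        (orderOf_dvd_iff_pow_eq_one.1 (hlxo ▸ hd))).symm
      obtain ⟨u, hu⟩ := exists_pow_eq_self_of_coprime (x := lx) (n := i) (hlxo.symm ▸ hco)
      refine hkne ?_
      calc lx ^ k = ((lx ^ i) ^ u) ^ k := by rw [hu]
        _ = ((lx ^ i) ^ k) ^ u := by rw [← pow_mul (lx ^ i), mul_comm, pow_mul]
        _ = lx := by rw [← h3, hu]
  · intro n hn
    obtain ⟨i, j, -, he⟩ := hprod ⟨autT T ⟨n, hn⟩, _, rfl⟩
    have h1 := h.div_mem_of_autT_eq hB (n := (⟨n, hn⟩ : N)) (m := X ^ i * (⟨y, hyN⟩ : N) ^ j) (by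
      rw [map_mul, map_pow, map_pow, hX, hyψ, ← SubgroupClass.coe_pow, ← SubgroupClass.coe_pow, ← Subgroup.coe_mul, ← he])
    refine ⟨_, h1, i, j, ?_⟩
    simp only [Subgroup.coe_mul, SubgroupClass.coe_pow]
    group
  · intro n hn hno
    set l : (autT T).range := ⟨autT T ⟨n, hn⟩, _, rfl⟩
    have hl1 : autT T ⟨n, hn⟩ ≠ 1 := fun e => hq.one_lt.ne' (by
      have hn1 : n = 1 := eq_one_of_two_of_odd T.2 (h.mem_of_centralizes hB (autT_eq_one_iff.1 e))
        (hno ▸ hq.odd_of_ne_two hq2)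
      rw [← hno, hn1, orderOf_one])
    have hlq : l ^ q = 1 := by
      refine Subtype.ext ?_
      rw [SubgroupClass.coe_pow, ← map_pow, show (⟨n, hn⟩ : N) ^ q = 1 from
        Subtype.ext (hno ▸ pow_orderOf_eq_one n), map_one, OneMemClass.coe_one]
    have hlN : l ∈ N₀ := by
      rw [← hρker, MonoidHom.mem_ker]
      have h1 : (⟨ρ l, l, rfl⟩ : ρ.range) ^ q = 1 :=
        Subtype.ext (by rw [SubgroupClass.coe_pow, ← map_pow, hlq, map_one, OneMemClass.coe_one])
      have h2 : orderOf (⟨ρ l, l, rfl⟩ : ρ.range) = 1 := Nat.eq_one_of_dvd_coprimes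
        ((Nat.coprime_primes hq h.hr).2 hqr) (orderOf_dvd_of_pow_eq_one h1) (hρr ▸ orderOf_dvd_natCard _)
      exact congrArg Subtype.val (orderOf_eq_one_iff.1 h2)
    rw [hN₀eq, ← mem_powers_iff_mem_zpowers] at hlN
    obtain ⟨i, hi⟩ := hlN
    have hi' : lx ^ i = l := hi
    obtain ⟨s, hs, he⟩ := hsame i (fun e => hl1 (congrArg Subtype.val (e.symm.trans hi').symm)) ⟨n, hn⟩
      (congrArg Subtype.val hi').symm
    exact ⟨s, hs, i, he⟩
  · -- the orbit has `q` points
    let f : Fin q → {b : (T : Subgroup G) // b ≠ 1} := fun i => ⟨lx ^ (i : ℕ) • a', fun e => ha' (by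
      have := congrArg (fun b => (lx ^ (i : ℕ))⁻¹ • b) e
      simpa using this)⟩
    have hf : Function.Bijective f := by
      constructor
      · intro i j e
        have e' : lx ^ (i : ℕ) • a' = lx ^ (j : ℕ) • a' := congrArg Subtype.val e
        have h1 := hfree (mul_mem (inv_mem (pow_mem hlx (j : ℕ))) (pow_mem hlx (i : ℕ)))
          (by rw [mul_smul, e', inv_smul_smul])
        exact Fin.ext ((pow_injOn_Iio_orderOf (x := lx)) (by simpa [hlxo] using i.2)
          (by simpa [hlxo] using j.2) (inv_mul_eq_one.1 h1).symm)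
      · rintro ⟨b, hb⟩
        obtain ⟨i, hi, he⟩ := horb b b.2 fun e => hb (Subtype.ext e)
        exact ⟨⟨i, hi⟩, Subtype.ext (Subtype.ext ((hXi i).trans he))⟩
    have h1 := Nat.card_congr (Equiv.ofBijective f hf)
    rw [Nat.card_fin] at h1
    have h2 := Nat.card_congr (Equiv.optionSubtypeNe (1 : (T : Subgroup G)))
    rw [Finite.card_option, ← h1] at h2
    exact h2.symm

end Spec

end CfsgLib.InvChar.OneComposite
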