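import Cfsg.Agent.Lib.InvChar.OneComposite.EndFrame

/-!
# Trivial cores are impossible

An involution `u` outside `N(T)` commuting with `y` and inverting `x` exists; `y` fixes three cosets,
so `r = 3` and then `|T| = 8`, and the product of `u` with an involution of `T` has an orbit of
length nine on the cosets of `N(T)`.
-/

set_option autoImplicit false
set_option linter.unusedSectionVars false
set_option linter.style.haveILetI false

namespace CfsgLib.InvChar.OneComposite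

open Subgroup CfsgLib.Invol CfsgLib.EqOrder CfsgLib.FiveOrbit

variable {G : Type*} [Group G] [Finite G] {r : ℕ}

/-- The coset of the identity. -/
abbrev base (T : Sylow 2 G) : G ⧸ normalizer ((T : Subgroup G) : Set G) := ((1 : G) : G ⧸ _)

theorem mem_iff_fix {T : Sylow 2 G} {g : G} :
    g • base T = base T ↔ g ∈ normalizer ((T : Subgroup G) : Set G) := by
  rw [base, fix_coset_iff, inv_one, one_mul, mul_one]

namespace Spec

variable (h : Spec G r)
include h

theorem not_fix_two {T : Sylow 2 G} (hB : NoCore T) {b : G} (hb : b ∈ (T : Subgroup G)) (hb1 : b ≠ 1)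
    {β : G ⧸ normalizer ((T : Subgroup G) : Set G)} (hβ : β ≠ base T) : b • β ≠ β := fun e =>
  hβ (se_fix_eq (h.se_of_noCore hB) (h.invol_sylow hb hb1) e (mem_iff_fix.2 (le_normalizer hb)))

theorem fix_commute_fpf {T : Sylow 2 G} {x y a : G} {q k : ℕ} (F : Frame T r x y a q k) {i : ℕ}
    (hi : x ^ i ≠ 1) {b : G} (hb : b ∈ (T : Subgroup G)) (hc : Commute (x ^ i) b) : b = 1 := by
  refine h.fpf_of_ne F.hq F.q2 F.qr ?_ hb hc
  haveI := Fact.mk F.hq
  exact orderOf_eq_prime (by rw [← pow_mul, mul_comm, pow_mul, ← F.ox, pow_orderOf_eq_one, one_pow]) hi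

/-- An element of `N(T)` of odd order inverted by an outer involution has order `q`. -/
theorem inverted_conj {T : Sylow 2 G} (hB : NoCore T) {x y a : G} {q k : ℕ} (F : Frame T r x y a q k)
    {u g : G} (hu : orderOf u = 2) (huN : u ∉ normalizer ((T : Subgroup G) : Set G))
    (hg : g ∈ normalizer ((T : Subgroup G) : Set G)) (ho : Odd (orderOf g)) (h1 : g ≠ 1)
    (hinv : u * g * u⁻¹ = g⁻¹) :
    ∃ s ∈ (T : Subgroup G), ∃ i : ℕ, g = s * x ^ i * s⁻¹ ∧ x ^ i ≠ 1 := by
  haveI : Fact (Nat.Prime 2) := ⟨Nat.prime_two⟩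
  have hp := h.prime_of_odd ho h1
  by_cases hgq : orderOf g = q
  · obtain ⟨s, hs, i, he⟩ := F.conjx g hg hgq
    exact ⟨s, hs, i, he, fun e => h1 (by rw [he, e, mul_one, mul_inv_cancel])⟩
  exfalso
  haveI := Fact.mk hp
  -- such an element fixes an involution of `T`
  obtain ⟨b, hb, hb1, hgb⟩ : ∃ b ∈ (T : Subgroup G), b ≠ 1 ∧ Commute g b := by
    let ρ : zpowers g →* MulAut (T : Subgroup G) := (autT T).comp (Subgroup.inclusion (zpowers_le.2 hg))
    letI : MulAction (zpowers g) (T : Subgroup G) := MulAction.compHom _ ρ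
    have hzp : IsPGroup (orderOf g) (zpowers g) := IsPGroup.of_card (n := 1) (by rw [Nat.card_zpowers, pow_one])
    have hmod := hzp.card_modEq_card_fixedPoints (T : Subgroup G)
    rw [F.card] at hmod
    by_contra hne
    push Not at hne
    have hone : MulAction.fixedPoints (zpowers g) (T : Subgroup G) = {1} := by
      ext b
      refine ⟨fun hb => ?_, fun hb z => ?_⟩
      · by_contra hb1
        have e : g * (b : G) * g⁻¹ = b := congrArg Subtype.val (hb ⟨g, mem_zpowers g⟩)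
        exact hne b b.2 (fun e' => hb1 (Subtype.ext e')) (mul_inv_eq_iff_eq_mul.1 e)
      · rw [hb]; exact map_one (ρ z)
    rw [hone, Nat.card_coe_set_eq, Set.ncard_singleton] at hmod
    have hd : orderOf g ∣ q := (Nat.modEq_zero_iff_dvd).1 (Nat.ModEq.add_right_cancel' 1 (by simpa using hmod))
    exact hgq ((Nat.prime_dvd_prime_iff_eq hp F.hq).1 hd)
  have hse := h.se_of_noCore hB
  exact h1 (eq_one_of_odd_sq ho (se_inverted_centralized hse (h.invol_sylow hb hb1) hu hgb.symm hinv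
    (x := base T) (mem_iff_fix.2 (le_normalizer hb)) (fun e => huN (mem_iff_fix.1 e))))

/-- For two cosets there is a swapper inverting a nontrivial element fixing both. -/
theorem exists_swapper {T : Sylow 2 G} (hB : NoCore T)
    {β : G ⧸ normalizer ((T : Subgroup G) : Set G)} (hβ : β ≠ base T) :
    ∃ u g : G, orderOf u = 2 ∧ u ∉ normalizer ((T : Subgroup G) : Set G) ∧
      g ∈ normalizer ((T : Subgroup G) : Set G) ∧ Odd (orderOf g) ∧ g ≠ 1 ∧ u * g * u⁻¹ = g⁻¹ ∧
      u • base T = β ∧ g • β = β := by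
  have hse := h.se_of_noCore hB
  have hcard := se_card_swap hse hβ.symm
  obtain ⟨a, ha, ha1⟩ := h.exists_ne_one T
  obtain ⟨b, hb, hb1, hba⟩ : ∃ b ∈ (T : Subgroup G), b ≠ 1 ∧ b ≠ a := by
    by_contra hne
    push Not at hne
    have h4 := h.four_le T
    let f : Bool → (T : Subgroup G) := fun i => if i then 1 else ⟨a, ha⟩
    have hf : Function.Surjective f := fun x => by
      by_cases hx : (x : G) = 1
      · exact ⟨true, Subtype.ext (by simp [f, hx])⟩
      · exact ⟨false, Subtype.ext (by simp [f, hne x x.2 hx])⟩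
    have := Nat.card_le_card_of_surjective f hf
    simp at this
    omega
  haveI : Nontrivial {t : G // orderOf t = 2 ∧ t ∈ (normalizer ((T : Subgroup G) : Set G))} :=
    ⟨⟨⟨a, h.invol_sylow ha ha1, le_normalizer ha⟩, ⟨b, h.invol_sylow hb hb1, le_normalizer hb⟩,
      fun e => hba (congrArg Subtype.val e).symm⟩⟩
  haveI : Nontrivial {i : G // orderOf i = 2 ∧ i • base T = β} :=
    Finite.one_lt_card_iff_nontrivial.1 (hcard ▸ Finite.one_lt_card)
  obtain ⟨⟨i, hi, hix⟩, ⟨j, hj, hjx⟩, hij⟩ := exists_pair_ne {i : G // orderOf i = 2 ∧ i • base T = β}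
  have hiN : i ∉ (normalizer ((T : Subgroup G) : Set G)) := fun hm => hβ (hix.symm.trans (mem_iff_fix.2 hm))
  have hjiN : j * i ∈ (normalizer ((T : Subgroup G) : Set G)) := mem_iff_fix.1 (by rw [mul_smul, hix, invol_smul_swap hj hjx])
  refine ⟨i, j * i, hi, hiN, hjiN, ?_, fun e => hij (Subtype.ext ?_), ?_, hix, ?_⟩
  · have hmem : j * i ∈ (normalizer ((T : Subgroup G) : Set G)) ⊓ (normalizer ((T : Subgroup G) : Set G)).map (MulAut.conj i).toMonoidHom := ⟨hjiN, i * (j * i) * i, ?_, ?_⟩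
    · exact odd_of_mem (hse.2.2 i hiN) hmem
    · have := (normalizer ((T : Subgroup G) : Set G)).inv_mem hjiN
      rw [mul_inv_rev, invol_inv hi, invol_inv hj] at this
      rwa [show i * (j * i) * i = i * j * (i * i) by group, invol_mul_self hi, mul_one]
    · show i * (i * (j * i) * i) * i⁻¹ = j * i
      rw [invol_inv hi, show i * (i * (j * i) * i) * i = (i * i) * (j * i) * (i * i) by group,
        invol_mul_self hi, one_mul, mul_one]
  · show i = j
    rw [← invol_inv hj, eq_inv_of_mul_eq_one_right e]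
  · rw [mul_inv_rev, invol_inv hi, invol_inv hj, mul_assoc, mul_assoc j, invol_mul_self hi, mul_one]
  · rw [mul_smul, invol_smul_swap hi hix, hjx]

theorem eq_one_of_comm_xy {T : Sylow 2 G} {x y a : G} {q k : ℕ} (F : Frame T r x y a q k) {g : G}
    (h1 : Commute g x) (h2 : Commute g y) : g = 1 := by
  by_contra hg
  haveI := Fact.mk h.hr
  rcases h.ord g with e | e | e
  · exact hg (orderOf_eq_one_iff.1 e)
  · by_cases heq : orderOf g = q
    · rcases h.prime_pair F.hq h.hr F.qr heq F.oy h2 with ⟨e', -⟩ | ⟨e', -⟩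
      · exact F.q2 e'
      · exact F.qr e'
    · rcases h.prime_pair e F.hq heq rfl F.ox h1 with ⟨-, e'⟩ | ⟨-, e'⟩
      · exact F.qr e'
      · exact F.q2 e'
  · have hr' : orderOf (g ^ 2) = r := by
      rw [orderOf_pow_of_dvd two_ne_zero (e ▸ dvd_mul_right 2 r), e, Nat.mul_div_cancel_left r two_pos]
    rcases h.prime_pair h.hr F.hq (Ne.symm F.qr) hr' F.ox (h1.pow_left 2) with ⟨e', -⟩ | ⟨-, e'⟩
    · exact h.r_ne_two e'
    · exact F.q2 e'

/-- An outer involution inverting `x` normalises up to `C(x)` the element `y`. -/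
theorem comm_mod {T : Sylow 2 G} {x y a : G} {q k : ℕ} (F : Frame T r x y a q k) {u : G}
    (hu : orderOf u = 2) (hinv : u * x * u⁻¹ = x⁻¹) : Commute (u * y * u⁻¹ * y⁻¹) x := by
  have hui := invol_inv hu
  have hy' : y * x⁻¹ * y⁻¹ = (x ^ k)⁻¹ := by rw [← F.conj]; group
  have hu' : u * (x ^ k) * u⁻¹ = (x ^ k)⁻¹ := by rw [← conj_pow, hinv, inv_pow]
  have e1 : u * y * u⁻¹ * x * (u * y * u⁻¹)⁻¹ = x ^ k := by
    calc u * y * u⁻¹ * x * (u * y * u⁻¹)⁻¹ = u * (y * (u⁻¹ * x * u) * y⁻¹) * u⁻¹ := by group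
      _ = u * (y * x⁻¹ * y⁻¹) * u⁻¹ := by
        rw [show u⁻¹ * x * u = x⁻¹ from by rw [hui]; rw [hui] at hinv; exact hinv]
      _ = _ := by rw [hy', ← conj_inv, hu', inv_inv]
  have e2 : y⁻¹ * (u * y * u⁻¹) * x * (y⁻¹ * (u * y * u⁻¹))⁻¹ = x := by
    rw [show y⁻¹ * (u * y * u⁻¹) * x * (y⁻¹ * (u * y * u⁻¹))⁻¹ = y⁻¹ * (u * y * u⁻¹ * x * (u * y * u⁻¹)⁻¹) * y by group,
      e1, ← F.conj]
    group
  have hc : Commute (y⁻¹ * (u * y * u⁻¹)) x := mul_inv_eq_iff_eq_mul.1 e2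
  -- conjugate by `y`, which normalises `⟨x⟩`
  have hk1 : Commute (u * y * u⁻¹ * y⁻¹) (x ^ k) := by
    have := (Commute.conj_iff y).2 hc
    rw [F.conj, show y * (y⁻¹ * (u * y * u⁻¹)) * y⁻¹ = u * y * u⁻¹ * y⁻¹ by group] at this
    exact this
  have hxk : x ^ k ≠ 1 := fun e => F.hq.one_lt.ne' (by
    rw [← F.conj] at e
    rw [← F.ox, conj_eq_one_iff.1 e, orderOf_one])
  have hkc : k.Coprime q := ((F.hq.coprime_iff_not_dvd).2 fun hd => hxk (orderOf_dvd_iff_pow_eq_one.1 (F.ox ▸ hd))).symm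
  obtain ⟨l, hl⟩ := exists_pow_eq_self_of_coprime (x := x) (n := k) (F.ox.symm ▸ hkc)
  rw [← hl]
  exact hk1.pow_right l

/-- Correct an inverting involution so that it commutes with `y`. -/
theorem exists_corrected {T : Sylow 2 G} {x y a : G} {q k : ℕ} (F : Frame T r x y a q k) {u : G}
    (hu : orderOf u = 2) (hinv : u * x * u⁻¹ = x⁻¹) (E : Subgroup G) (hEx : ∀ e ∈ E, Commute e x)
    (hEy : ∀ e ∈ E, y * e * y⁻¹ ∈ E) (hE : u * y * u⁻¹ * y⁻¹ ∈ E) :
    ∃ e ∈ E, orderOf (e * u) = 2 ∧ Commute (e * u) y ∧ (e * u) * x * (e * u)⁻¹ = x⁻¹ := by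
  let f : E → E := fun e => ⟨(e : G)⁻¹ * (y * e * y⁻¹), mul_mem (inv_mem e.2) (hEy e e.2)⟩
  have hf : Function.Injective f := by
    intro e e' he
    have he' : (e : G)⁻¹ * (y * e * y⁻¹) = (e' : G)⁻¹ * (y * e' * y⁻¹) := congrArg Subtype.val he
    have hc : Commute ((e' : G) * (e : G)⁻¹) y := by
      have := congrArg (fun z => (e' : G) * z * y * (e : G)⁻¹) he'
      exact (by simpa [mul_assoc] using this : (e' : G) * (e : G)⁻¹ * y = y * ((e' : G) * (e : G)⁻¹))
    exact Subtype.ext (mul_inv_eq_one.1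
      (h.eq_one_of_comm_xy F (hEx _ (mul_mem e'.2 (inv_mem e.2))) hc)).symm
  obtain ⟨e, he⟩ := Finite.injective_iff_surjective.1 hf ⟨_, hE⟩
  have he' : (e : G)⁻¹ * (y * e * y⁻¹) = u * y * u⁻¹ * y⁻¹ := congrArg Subtype.val he
  have huy : u * y * u⁻¹ = (e : G)⁻¹ * (y * e * y⁻¹) * y := by rw [he', inv_mul_cancel_right]
  have hcy : Commute ((e : G) * u) y := by
    refine mul_inv_eq_iff_eq_mul.1 ?_
    rw [show (e : G) * u * y * ((e : G) * u)⁻¹ = e * (u * y * u⁻¹) * (e : G)⁻¹ by group, huy]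
    group
  have hcx : (e : G) * u * x * ((e : G) * u)⁻¹ = x⁻¹ := by
    rw [show (e : G) * u * x * ((e : G) * u)⁻¹ = e * (u * x * u⁻¹) * (e : G)⁻¹ by group, hinv,
      (hEx e e.2).inv_right.eq, mul_inv_cancel_right]
  refine ⟨e, e.2, invol_of_mul_self (h.eq_one_of_comm_xy F ?_ (hcy.mul_left hcy)) ?_, hcy, hcx⟩
  · refine mul_inv_eq_iff_eq_mul.1 ?_
    calc (e : G) * u * ((e : G) * u) * x * ((e : G) * u * ((e : G) * u))⁻¹
        = (e : G) * u * ((e : G) * u * x * ((e : G) * u)⁻¹) * ((e : G) * u)⁻¹ := by group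
      _ = x := by rw [hcx, ← conj_inv, hcx, inv_inv]
  · intro e1
    rw [e1, one_mul, inv_one, mul_one] at hcx
    exact F.hq.one_lt.ne' (F.ox ▸ orderOf_eq_one_iff.2 (eq_one_of_odd_sq
      (F.ox.symm ▸ F.hq.odd_of_ne_two F.q2) (mul_eq_one_iff_eq_inv.2 hcx)))

/-- The distinguished outer involution. -/
theorem exists_u {T : Sylow 2 G} (hB : NoCore T) {x y a : G} {q k : ℕ} (F : Frame T r x y a q k) :
    ∃ u : G, orderOf u = 2 ∧ u ∉ normalizer ((T : Subgroup G) : Set G) ∧ Commute u y ∧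
      u * x * u⁻¹ = x⁻¹ := by
  haveI := Fact.mk F.hq
  obtain ⟨g, -, hg⟩ := SetLike.exists_of_lt (h.se_of_noCore hB).1.lt_top
  have hβ : (g : G ⧸ (normalizer ((T : Subgroup G) : Set G))) ≠ base T := fun e => hg (by
    have := QuotientGroup.eq.1 e.symm
    rwa [inv_one, one_mul] at this)
  obtain ⟨u, g, hu, huN, hg, ho, hg1, hinv, -, -⟩ := h.exists_swapper hB hβ
  obtain ⟨s, hs, i, rfl, hi⟩ := h.inverted_conj hB F hu huN hg ho hg1 hinv
  set v := s⁻¹ * u * s with hv
  have hv2 : orderOf v = 2 := by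
    rw [hv, show s⁻¹ * u * s = s⁻¹ * u * s⁻¹⁻¹ by rw [inv_inv], orderOf_conj_eq, hu]
  have hvi : v * x ^ i * v⁻¹ = (x ^ i)⁻¹ := by
    calc v * x ^ i * v⁻¹ = s⁻¹ * (u * (s * x ^ i * s⁻¹) * u⁻¹) * s := by rw [hv]; group
      _ = _ := by rw [hinv]; group
  have hvx : v * x * v⁻¹ = x⁻¹ := by
    have hic : i.Coprime q := ((F.hq.coprime_iff_not_dvd).2 fun hd => hi (orderOf_dvd_iff_pow_eq_one.1 (F.ox ▸ hd))).symm
    obtain ⟨l, hl⟩ := exists_pow_eq_self_of_coprime (x := x) (n := i) (F.ox.symm ▸ hic)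
    calc v * x * v⁻¹ = v * (x ^ i) ^ l * v⁻¹ := by rw [hl]
      _ = ((x ^ i) ^ l)⁻¹ := by rw [← conj_pow, hvi, inv_pow]
      _ = x⁻¹ := by rw [hl]
  obtain ⟨e, he, he2, hey, hex⟩ := h.exists_corrected F hv2 hvx (Subgroup.centralizer ({x} : Set G))
    (fun e he => Subgroup.mem_centralizer_singleton_iff.1 he) (fun e he => by
      refine Subgroup.mem_centralizer_singleton_iff.2 ?_
      have hek : Commute (y * e * y⁻¹) (x ^ k) :=
        F.conj ▸ (Commute.conj_iff y).2 (Subgroup.mem_centralizer_singleton_iff.1 he)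
      have hxk : x ^ k ≠ 1 := fun e => F.hq.one_lt.ne' (by
        rw [← F.conj] at e
        rw [← F.ox, conj_eq_one_iff.1 e, orderOf_one])
      have hkc : k.Coprime q := ((F.hq.coprime_iff_not_dvd).2 fun hd => hxk (orderOf_dvd_iff_pow_eq_one.1 (F.ox ▸ hd))).symm
      obtain ⟨l, hl⟩ := exists_pow_eq_self_of_coprime (x := x) (n := k) (F.ox.symm ▸ hkc)
      exact (hl ▸ hek.pow_right l).eq)
    (Subgroup.mem_centralizer_singleton_iff.2 (h.comm_mod F hv2 hvx).eq)
  refine ⟨e * v, he2, fun hm => ?_, hey, hex⟩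
  have hT := h.mem_of_normalizer hm (invol_mul_self he2)
  have hx2 : x⁻¹ * x⁻¹ ∈ (T : Subgroup G) := by
    have := mul_mem hT ((Subgroup.mem_normalizer_iff.1 F.hx (e * v)⁻¹).1 (inv_mem hT))
    rwa [show e * v * (x * (e * v)⁻¹ * x⁻¹) = (e * v * x * (e * v)⁻¹) * x⁻¹ by group, hex] at this
  have hxo : Odd (orderOf x⁻¹) := by rw [orderOf_inv, F.ox]; exact F.hq.odd_of_ne_two F.q2
  have h3 := eq_one_of_two_of_odd T.2 hx2 (hxo.of_dvd_nat (by rw [← pow_two]; exact orderOf_pow_dvd 2))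
  exact F.hq.one_lt.ne' (by rw [← F.ox, inv_eq_one.1 (eq_one_of_odd_sq hxo h3), orderOf_one])

/-- A coset other than the base fixed by `y` is one of two. -/
theorem fix_y_cases {T : Sylow 2 G} (hB : NoCore T) {x y a : G} {q k : ℕ} (F : Frame T r x y a q k)
    {u : G} (huy : Commute u y) (hux : u * x * u⁻¹ = x⁻¹)
    {β : G ⧸ normalizer ((T : Subgroup G) : Set G)} (hβ : β ≠ base T) (hyβ : y • β = β) :
    β = u • base T ∨ β = a • (u • base T) := by
  haveI := Fact.mk F.hq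
  obtain ⟨v, g, hv, hvN, hg, ho, hg1, hinv, hvb, hgβ⟩ := h.exists_swapper hB hβ
  obtain ⟨s, hs, i, rfl, hi⟩ := h.inverted_conj hB F hv hvN hg ho hg1 hinv
  have hic : i.Coprime q := ((F.hq.coprime_iff_not_dvd).2 fun hd => hi (orderOf_dvd_iff_pow_eq_one.1 (F.ox ▸ hd))).symm
  obtain ⟨l, hl⟩ := exists_pow_eq_self_of_coprime (x := x) (n := i) (F.ox.symm ▸ hic)
  -- elements fixing both cosets
  have honly : ∀ b ∈ (T : Subgroup G), b • β = β → b = 1 := fun b hb e => by
    by_contra hb1; exact h.not_fix_two hB hb hb1 hβ e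
  -- `s` is centralised by `y`
  have hsa : s = 1 ∨ s = a := by
    refine F.fixy s hs ?_
    set z := y * (s * x ^ i * s⁻¹) * y⁻¹ with hz
    have hzβ : z • β = β := by
      rw [hz, mul_smul, mul_smul, show y⁻¹ • β = β from inv_smul_eq_iff.2 hyβ.symm, hgβ, hyβ]
    have hgk : (s * x ^ i * s⁻¹) ^ k • β = β :=
      MulAction.mem_stabilizer_iff.1 (pow_mem (show s * x ^ i * s⁻¹ ∈ MulAction.stabilizer G β from hgβ) k)
    have hys : y * s * y⁻¹ ∈ (T : Subgroup G) := (Subgroup.mem_normalizer_iff.1 F.hy s).1 hs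
    have hzx : z = (y * s * y⁻¹) * x ^ (i * k) * (y * s * y⁻¹)⁻¹ := by
      rw [hz, show y * (s * x ^ i * s⁻¹) * y⁻¹ = (y * s * y⁻¹) * (y * x ^ i * y⁻¹) * (y * s * y⁻¹)⁻¹ by group,
        ← conj_pow, F.conj, ← pow_mul, mul_comm k]
    have hgk' : (s * x ^ i * s⁻¹) ^ k = s * x ^ (i * k) * s⁻¹ := by rw [conj_pow, ← pow_mul]
    have hXN : x ^ (i * k) ∈ (normalizer ((T : Subgroup G) : Set G)) := pow_mem F.hx _
    have hd : z * ((s * x ^ i * s⁻¹) ^ k)⁻¹ ∈ (T : Subgroup G) := by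
      rw [hzx, hgk']
      have h1 := (Subgroup.mem_normalizer_iff.1 hXN ((y * s * y⁻¹)⁻¹ * s)).1 (mul_mem (inv_mem hys) hs)
      have h2 := mul_mem (mul_mem hys h1) (inv_mem hs)
      simpa [mul_assoc] using h2
    have h3 := honly _ hd (by rw [mul_smul, inv_smul_eq_iff.2 hgk.symm, hzβ])
    rw [hzx, hgk', mul_inv_eq_one] at h3
    have hc : Commute (x ^ (i * k)) (s⁻¹ * (y * s * y⁻¹)) := by
      have := congrArg (fun w => s⁻¹ * w * (y * s * y⁻¹)) h3
      exact (by simpa [mul_assoc] using this : s⁻¹ * (y * s * y⁻¹) * x ^ (i * k) = x ^ (i * k) * (s⁻¹ * (y * s * y⁻¹))).symm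
    have hik : x ^ (i * k) ≠ 1 := fun e => hi (by
      rw [mul_comm, pow_mul, ← F.conj, conj_pow] at e
      exact conj_eq_one_iff.1 e)
    have h4 := h.fix_commute_fpf F hik (mul_mem (inv_mem hs) hys) hc
    exact mul_inv_eq_iff_eq_mul.1 (inv_mul_eq_one.1 h4).symm
  -- reduce to `s = 1`
  set β' := s • β with hβ'
  have hs2 : s * s = 1 := h.sq_sylow T s hs
  have hsi : s⁻¹ = s := inv_eq_of_mul_eq_one_right hs2
  have hsy : Commute s y := by
    rcases hsa with rfl | rfl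
    · exact Commute.one_left y
    · exact F.comm.symm
  set w := s * v * s with hw
  have hw2 : orderOf w = 2 := by
    rw [hw]
    nth_rewrite 2 [← hsi]
    rw [orderOf_conj_eq, hv]
  have hwb : w • base T = β' := by
    rw [hw, mul_smul, mul_smul, mem_iff_fix.2 (le_normalizer hs), hvb]
  have hwi : w * x ^ i * w⁻¹ = (x ^ i)⁻¹ := by
    have : s * v * s * x ^ i * (s * v * s)⁻¹ = s⁻¹ * (v * (s * x ^ i * s⁻¹) * v⁻¹) * s := by
      simp only [mul_inv_rev, hsi, mul_assoc]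
    rw [hw, this, hinv]
    group
  have hwx : w * x * w⁻¹ = x⁻¹ := by
    calc w * x * w⁻¹ = w * (x ^ i) ^ l * w⁻¹ := by rw [hl]
      _ = ((x ^ i) ^ l)⁻¹ := by rw [← conj_pow, hwi, inv_pow]
      _ = x⁻¹ := by rw [hl]
  have hxβ : x • β' = β' := by
    have hxi : x ^ i • β' = β' := by
      rw [hβ', ← mul_smul, show x ^ i * s = s * (s * x ^ i * s⁻¹) by rw [hsi, ← mul_assoc, ← mul_assoc, hs2, one_mul],
        mul_smul, hgβ]
    rw [← hl]
    exact MulAction.mem_stabilizer_iff.1 (pow_mem (show x ^ i ∈ MulAction.stabilizer G β' from hxi) l)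
  have hyβ' : y • β' = β' := by rw [hβ', ← mul_smul, ← hsy.eq, mul_smul, hyβ]
  have hβ'ne : β' ≠ base T := fun e => hβ (by
    rw [← one_smul G β, ← hs2, mul_smul, ← hβ', e, mem_iff_fix.2 (le_normalizer hs)])
  -- `w` normalises the stabiliser of the two cosets
  set c := w * y * w⁻¹ with hc
  have hwbase : w • β' = base T := invol_smul_swap hw2 hwb
  have hwinv : w⁻¹ = w := invol_inv hw2
  have hc1 : c • base T = base T := by
    rw [hc, hwinv, mul_smul, mul_smul, hwb, hyβ', hwbase]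
  have hc2 : c • β' = β' := by
    rw [hc, hwinv, mul_smul, mul_smul, hwbase, mem_iff_fix.2 F.hy, hwb]
  have hcx : Commute (c * y⁻¹) x := h.comm_mod F hw2 hwx
  have hcN : c * y⁻¹ ∈ (normalizer ((T : Subgroup G) : Set G)) := mul_mem (mem_iff_fix.1 hc1) (inv_mem F.hy)
  have hcz : c * y⁻¹ ∈ zpowers x := by
    by_cases hone : c * y⁻¹ = 1
    · rw [hone]; exact one_mem _
    have ho' : orderOf (c * y⁻¹) = q := by
      rcases h.ord (c * y⁻¹) with e | e | e
      · exact absurd (orderOf_eq_one_iff.1 e) hone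
      · by_contra hne
        rcases h.prime_pair e F.hq hne rfl F.ox hcx with ⟨-, e'⟩ | ⟨-, e'⟩
        · exact F.qr e'
        · exact F.q2 e'
      · exfalso
        have hr' : orderOf ((c * y⁻¹) ^ 2) = r := by
          rw [orderOf_pow_of_dvd two_ne_zero (e ▸ dvd_mul_right 2 r), e, Nat.mul_div_cancel_left r two_pos]
        rcases h.prime_pair h.hr F.hq (Ne.symm F.qr) hr' F.ox (hcx.pow_left 2) with ⟨e', -⟩ | ⟨-, e'⟩
        · exact h.r_ne_two e'
        · exact F.q2 e'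
    obtain ⟨s', hs', i', he⟩ := F.conjx _ hcN ho'
    have hd : (c * y⁻¹) * (x ^ i')⁻¹ ∈ (T : Subgroup G) := by
      rw [he]
      have h1 := (Subgroup.mem_normalizer_iff.1 (pow_mem F.hx i') s'⁻¹).1 (inv_mem hs')
      simpa [mul_assoc] using mul_mem hs' h1
    have hcomm : Commute ((c * y⁻¹) * (x ^ i')⁻¹) x := hcx.mul_left ((Commute.refl x).pow_left i').inv_left
    have h1 := h.fix_commute_fpf F (i := 1) (by rw [pow_one]; exact fun e => F.hq.one_lt.ne' (by rw [← F.ox, e, orderOf_one]))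
      hd (by rw [pow_one]; exact hcomm.symm)
    rw [mul_inv_eq_one.1 h1]
    exact pow_mem (mem_zpowers x) i'
  obtain ⟨e, he, he2, hey, hex⟩ := h.exists_corrected F hw2 hwx (zpowers x)
    (fun e ⟨n, hn⟩ => hn ▸ (Commute.refl x).zpow_left n) (fun e ⟨n, hn⟩ => by
      subst hn
      show y * x ^ n * y⁻¹ ∈ _
      rw [← conj_zpow, F.conj]
      exact zpow_mem (pow_mem (mem_zpowers x) k) n) hcz
  have heb : (e * w) • base T = β' := by
    rw [mul_smul, hwb]
    exact MulAction.mem_stabilizer_iff.1 (zpowers_le.2 (show x ∈ MulAction.stabilizer G β' from hxβ) he)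
  -- the corrected involution is `u`
  have heq : e * w = u := by
    have h1 : Commute (u⁻¹ * (e * w)) x := by
      refine mul_inv_eq_iff_eq_mul.1 ?_
      calc u⁻¹ * (e * w) * x * (u⁻¹ * (e * w))⁻¹ = u⁻¹ * (e * w * x * (e * w)⁻¹) * u := by group
        _ = u⁻¹ * x⁻¹ * u := by rw [hex]
        _ = x := by rw [← hux]; group
    exact (inv_mul_eq_one.1 (h.eq_one_of_comm_xy F h1 (huy.inv_left.mul_left hey))).symm
  rw [heq] at heb
  have hβeq : β = s • (u • base T) := by rw [heb, hβ', ← mul_smul, hs2, one_smul]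
  rcases hsa with rfl | rfl
  · exact Or.inl (by rw [hβeq, one_smul])
  · exact Or.inr hβeq

end Spec

end CfsgLib.InvChar.OneComposite
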