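import Cfsg.Agent.Lib.InvChar.OneComposite.Automizer
import Cfsg.Agent.Lib.Recog.GenDihedral.Main

/-!
# A four-group with a fixed-point-free action on a core

If `T` is a four-group centralised by no odd element and some core is nontrivial, the centraliser is
generalized dihedral and the group is `PSL(2, F)`.
-/

set_option autoImplicit false
set_option linter.unusedSectionVars false
set_option linter.style.haveILetI false

namespace CfsgLib.InvChar.OneComposite

open Subgroup CfsgLib.Invol CfsgLib.EqOrder CfsgLib.FiveOrbit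

universe u

variable {G : Type u} [Group G] [Finite G] {r : ℕ}

namespace Spec

variable (h : Spec G r)
include h

theorem psl_of_klein (T : Sylow 2 G) (h4 : Nat.card (T : Subgroup G) = 4)
    (hZ : ∀ z : G, Odd (orderOf z) → (∀ a ∈ (T : Subgroup G), Commute z a) → z = 1) {a : G}
    (ha : a ∈ (T : Subgroup G)) (ha1 : a ≠ 1) :
    ∃ (F : Type) (_ : Field F) (_ : Fintype F), Odd (Fintype.card F) ∧
      Nonempty (G ≃* Matrix.ProjectiveSpecialLinearGroup (Fin 2) F) := by
  classical
  haveI := h.simple
  haveI : Fact (Nat.Prime 2) := ⟨Nat.prime_two⟩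
  obtain ⟨b, hb, hb1, hba⟩ : ∃ b ∈ (T : Subgroup G), b ≠ 1 ∧ b ≠ a := by
    by_contra hne
    push Not at hne
    let f : Bool → (T : Subgroup G) := fun i => if i then 1 else ⟨a, ha⟩
    have hf : Function.Surjective f := fun x => by
      by_cases hx : (x : G) = 1
      · exact ⟨true, Subtype.ext (by simp [f, hx])⟩
      · exact ⟨false, Subtype.ext (by simp [f, hne x x.2 hx])⟩
    have := Nat.card_le_card_of_surjective f hf
    simp at this
    omega
  set t : (T : Subgroup G) := ⟨a, ha⟩ with ht
  set s : (T : Subgroup G) := ⟨b, hb⟩ with hs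
  have ht2 : t * t = 1 := Subtype.ext (h.sq_sylow T a ha)
  have hs2 : s * s = 1 := Subtype.ext (h.sq_sylow T b hb)
  have ht1 : t ≠ 1 := fun e => ha1 (congrArg Subtype.val e)
  have hs1 : s ≠ 1 := fun e => hb1 (congrArg Subtype.val e)
  have hst : s ≠ t := fun e => hba (congrArg Subtype.val e)
  have hcomm : s * t = t * s := Subtype.ext (h.comm_sylow T hb ha).eq
  have hcases : ∀ u : (T : Subgroup G), u = 1 ∨ u = t ∨ u = s ∨ u = t * s := by
    intro u
    let f : Fin 4 → (T : Subgroup G) := ![1, t, s, t * s]
    have hf : Function.Injective f := by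
      intro i j e
      have e1 : t * s ≠ 1 := fun e => hst (by
        rw [← mul_right_inj t, e, ht2])
      fin_cases i <;> fin_cases j <;>
        simp [f, ht1, ht1.symm, hs1, hs1.symm, hst, hst.symm, e1, e1.symm] at e ⊢
    obtain ⟨i, rfl⟩ := (hf.bijective_of_nat_card_le (by rw [h4, Nat.card_fin])).2 u
    fin_cases i <;> simp [f]
  have hzs : s ∉ zpowers t := by
    rintro ⟨i, hi⟩
    have hi' : t ^ i = s := hi
    rcases Int.even_or_odd i with ⟨l, rfl⟩ | ⟨l, rfl⟩
    · rw [zpow_add, ← (Commute.refl t).mul_zpow, ht2, one_zpow] at hi'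
      exact hs1 hi'.symm
    · rw [zpow_add, two_mul, zpow_add, ← (Commute.refl t).mul_zpow, ht2, one_zpow, one_mul, zpow_one] at hi'
      exact hst hi'.symm
  let D : DihData (T : Subgroup G) :=
    { h := 1
      r := t
      s := s
      h_pos := one_pos
      h_pow := ⟨0, rfl⟩
      orderOf_r := invol_of_mul_self ht2 ht1
      orderOf_s := invol_of_mul_self hs2 hs1
      conj_r := by rw [hcomm, mul_inv_cancel_right]; exact (inv_eq_of_mul_eq_one_right ht2).symm
      s_notMem := hzs
      cases := fun u => by
        rcases hcases u with rfl | rfl | rfl | rfl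
        · exact Or.inl ⟨0, (zpow_zero t).symm⟩
        · exact Or.inl ⟨1, (zpow_one t).symm⟩
        · exact Or.inr ⟨0, by rw [zpow_zero, one_mul]⟩
        · exact Or.inr ⟨1, by rw [zpow_one]⟩
      card_eq := h4.trans (by norm_num) }
  have hdz : dz T D = a := by
    show ((t ^ ((1 : ℕ) : ℤ) : (T : Subgroup G)) : G) = a
    rw [Nat.cast_one, zpow_one]
  have hao := h.invol_sylow ha ha1
  -- the reflection inverts the core
  have hinv : ∀ w ∈ core a, b * w * b = w⁻¹ := by
    refine CfsgLib.Recog.SymEight.inverts_of_no_fixed (h.sq_sylow T b hb) (fun w hw => ?_) fun w hw hbw => ?_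
    · have := core_normal (h.comm_sylow T hb ha) hw
      rwa [inv_eq_of_mul_eq_one_right (h.sq_sylow T b hb)] at this
    · refine hZ w (odd_of_mem (odd_core a) hw) fun c hc => ?_
      have hwa : Commute w a := core_commute hw
      rcases hcases ⟨c, hc⟩ with e | e | e | e <;>
        rw [show c = _ from congrArg Subtype.val e]
      · exact Commute.one_right w
      · exact hwa
      · exact hbw.symm
      · exact hwa.mul_right hbw.symm
  have hgen : CfsgLib.Recog.GenDih.Gen T D (core a) := by
    refine ⟨odd_core a, fun k hk => (core_commute hk).symm, fun k hk => ?_, fun x hx => ?_⟩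
    · show b * k * b⁻¹ = k⁻¹
      rw [inv_eq_of_mul_eq_one_right (h.sq_sylow T b hb)]
      exact hinv k hk
    rw [hdz] at hx
    obtain ⟨w, hw, n, hn, hna, rfl⟩ := h.decomp_centralizer ha ha1 (Subgroup.mem_centralizer_singleton_iff.1 hx)
    -- `n` centralises `T`
    have hl : autT T ⟨n, hn⟩ = 1 := by
      have hsq : autT T ⟨n, hn⟩ ^ 2 = 1 := by
        rw [← map_pow]
        refine autT_eq_one_iff.2 fun c hc => ?_
        have hmv : ∀ d ∈ (T : Subgroup G), n * d * n⁻¹ ∈ (T : Subgroup G) := fun d hd =>
          (Subgroup.mem_normalizer_iff.1 hn d).1 hd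
        have hnb : n * b * n⁻¹ = b ∨ n * b * n⁻¹ = a * b := by
          rcases hcases ⟨_, hmv b hb⟩ with e | e | e | e
          · exact absurd (conj_eq_one_iff.1 (congrArg Subtype.val e)) hb1
          · have e' : n * b * n⁻¹ = n * a * n⁻¹ := by
              rw [hna.eq, mul_inv_cancel_right]; exact congrArg Subtype.val e
            exact absurd (mul_left_cancel (mul_right_cancel e')) hba
          · exact Or.inl (congrArg Subtype.val e)
          · exact Or.inr (congrArg Subtype.val e)
        have hnnb : Commute (n ^ 2) b := by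
          refine mul_inv_eq_iff_eq_mul.1 ?_
          rw [pow_two, show n * n * b * (n * n)⁻¹ = n * (n * b * n⁻¹) * n⁻¹ by group]
          rcases hnb with e | e
          · rw [e, e]
          · rw [e, show n * (a * b) * n⁻¹ = (n * a * n⁻¹) * (n * b * n⁻¹) by group, e, hna.eq,
              mul_inv_cancel_right, ← mul_assoc, h.sq_sylow T a ha, one_mul]
        have hnna : Commute (n ^ 2) a := hna.pow_left 2
        show Commute (n ^ 2) c
        rcases hcases ⟨c, hc⟩ with e | e | e | e <;>
          rw [show c = _ from congrArg Subtype.val e]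
        · exact Commute.one_right _
        · exact hnna
        · exact hnnb
        · exact hnna.mul_right hnnb
      have hd : orderOf (⟨autT T ⟨n, hn⟩, ⟨_, rfl⟩⟩ : (autT T).range) ∣ 2 :=
        orderOf_dvd_of_pow_eq_one (Subtype.ext hsq)
      have hodd := (h.odd_range T).of_dvd_nat (orderOf_dvd_natCard (⟨autT T ⟨n, hn⟩, ⟨_, rfl⟩⟩ : (autT T).range))
      rcases (Nat.dvd_prime Nat.prime_two).1 hd with e | e
      · exact congrArg Subtype.val (orderOf_eq_one_iff.1 e)
      · rw [e] at hodd; exact absurd hodd (by decide)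
    obtain ⟨c, hc, hodd⟩ := h.odd_part_centralizer (T := T) (autT_eq_one_iff.1 hl)
    have hnc : n * c = 1 := hZ _ hodd fun d hd => (autT_eq_one_iff.1 hl d hd).mul_left (h.comm_sylow T hc hd)
    exact ⟨w, hw, n, by rw [eq_inv_of_mul_eq_one_left hnc]; exact inv_mem hc, rfl⟩
  exact CfsgLib.Recog.GenDih.psl_of_gen hgen

end Spec

end CfsgLib.InvChar.OneComposite
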