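import Mathlib

/-!
# Commuting involutory automorphisms of an abelian group of odd order

`mem_fix_of_norm`: an automorphism `y` of prime order `q`, all of whose norms are trivial, which
normalises a group `S` of commuting involutory automorphisms, centralises it.
`pow_card_eq_one_of_norms`: the norm identity for a semidirect product `N ⟨x⟩`.
-/

set_option autoImplicit false
set_option linter.unusedSectionVars false
set_option linter.style.haveILetI false

namespace CfsgLib.InvChar.OneComposite

variable {V : Type*} [CommGroup V] [Finite V]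

theorem mem_zpowers_sq (hV : Odd (Nat.card V)) (v : V) : v ∈ Subgroup.zpowers (v * v) := by
  obtain ⟨k, hk⟩ := hV
  refine ⟨(k + 1 : ℕ), ?_⟩
  show (v * v) ^ ((k + 1 : ℕ) : ℤ) = v
  rw [zpow_natCast, ← pow_two, ← pow_mul, show 2 * (k + 1) = Nat.card V + 1 by omega, pow_succ,
    pow_card_eq_one', one_mul]

theorem eq_one_of_sq_eq (hV : Odd (Nat.card V)) {v : V} (h : v * v = 1) : v = 1 := by
  have := mem_zpowers_sq hV v
  rw [h, Subgroup.zpowers_one_eq_bot, Subgroup.mem_bot] at this
  exact this

variable {S : Subgroup (MulAut V)}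

/-- The common eigenvectors of `S` generate. -/
theorem closure_eigen (hV : Odd (Nat.card V)) (hsq : ∀ s ∈ S, s * s = 1)
    (hcomm : ∀ s ∈ S, ∀ t ∈ S, s * t = t * s) :
    Subgroup.closure {v : V | ∀ s ∈ S, s v = v ∨ s v = v⁻¹} = ⊤ := by
  classical
  haveI := Fintype.ofFinite (MulAut V)
  have key : ∀ F : Finset (MulAut V), (∀ a ∈ F, a ∈ S) →
      Subgroup.closure {v : V | ∀ s ∈ F, s v = v ∨ s v = v⁻¹} = ⊤ := by
    intro F
    induction F using Finset.induction_on with
    | empty =>
      intro _
      exact le_antisymm le_top fun v _ => Subgroup.subset_closure fun s hs => by simp at hs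
    | @insert b F _ ih =>
      intro hF
      have hb := hF b (Finset.mem_insert_self b F)
      refine le_antisymm le_top ?_
      rw [← ih fun a ha => hF a (Finset.mem_insert_of_mem ha), Subgroup.closure_le]
      intro v hv
      have hbb : b (b v) = v := by rw [← MulAut.mul_apply, hsq b hb, MulAut.one_apply]
      have hcm : ∀ s ∈ F, s (b v) = b (s v) := fun s hs => by
        rw [← MulAut.mul_apply, ← MulAut.mul_apply, hcomm s (hF s (Finset.mem_insert_of_mem hs)) b hb]
      have h1 : v * b v ∈ {v : V | ∀ s ∈ insert b F, s v = v ∨ s v = v⁻¹} := by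
        intro s hs
        rcases Finset.mem_insert.1 hs with rfl | hs
        · exact Or.inl (by rw [map_mul, hbb, mul_comm])
        · rcases hv s hs with e | e
          · exact Or.inl (by rw [map_mul, hcm s hs, e])
          · exact Or.inr (by rw [map_mul, hcm s hs, e, map_inv, mul_inv])
      have h2 : v * (b v)⁻¹ ∈ {v : V | ∀ s ∈ insert b F, s v = v ∨ s v = v⁻¹} := by
        intro s hs
        rcases Finset.mem_insert.1 hs with rfl | hs
        · exact Or.inr (by rw [map_mul, map_inv, hbb, mul_inv, inv_inv, mul_comm])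
        · rcases hv s hs with e | e
          · exact Or.inl (by rw [map_mul, map_inv, hcm s hs, e])
          · exact Or.inr (by rw [map_mul, map_inv, hcm s hs, e, map_inv, mul_inv])
      have hvv := mul_mem (Subgroup.subset_closure h1) (Subgroup.subset_closure h2)
      rw [show v * b v * (v * (b v)⁻¹) = v * v by rw [mul_mul_mul_comm, mul_inv_cancel, mul_one]] at hvv
      exact (Subgroup.zpowers_le.2 hvv) (mem_zpowers_sq hV v)
  have h := key (Finset.univ.filter (· ∈ S)) (by simp)
  rw [← h]
  congr 1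
  ext v
  simp

/-- Eigenvectors with pairwise different weights are independent. -/
theorem eq_one_of_prod_eq_one (hV : Odd (Nat.card V)) {ι : Type*} [DecidableEq ι] (F : Finset ι)
    (f : ι → V) (heig : ∀ i ∈ F, ∀ s ∈ S, s (f i) = f i ∨ s (f i) = (f i)⁻¹)
    (hsep : ∀ i ∈ F, ∀ j ∈ F, i ≠ j → ∃ s ∈ S, ¬ (s (f i) = f i ↔ s (f j) = f j))
    (hprod : ∏ i ∈ F, f i = 1) : ∀ i ∈ F, f i = 1 := by
  classical
  induction hn : F.card using Nat.strong_induction_on generalizing F with
  | _ n ih =>
    subst hn
    intro i hi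
    by_cases hone : ∀ j ∈ F, j = i
    · rw [show F = {i} from Finset.eq_singleton_iff_unique_mem.2 ⟨hi, hone⟩, Finset.prod_singleton]
        at hprod
      exact hprod
    push Not at hone
    obtain ⟨j, hj, hji⟩ := hone
    obtain ⟨s, hs, hne⟩ := hsep i hi j hj hji.symm
    have hfix : ∏ k ∈ F.filter (fun k => s (f k) = f k), f k = 1 := by
      refine eq_one_of_sq_eq hV ?_
      have h1 : ∏ k ∈ F, f k * s (f k) = 1 := by
        rw [Finset.prod_mul_distrib, ← map_prod, hprod, map_one, mul_one]
      rw [← Finset.prod_filter_mul_prod_filter_not F (fun k => s (f k) = f k)] at h1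
      have h2 : ∏ k ∈ F.filter (fun k => ¬ s (f k) = f k), f k * s (f k) = 1 :=
        Finset.prod_eq_one fun k hk => by
          obtain ⟨hk, hk'⟩ := Finset.mem_filter.1 hk
          rw [(heig k hk s hs).resolve_left hk', mul_inv_cancel]
      rw [h2, mul_one] at h1
      rw [← Finset.prod_mul_distrib]
      exact (Finset.prod_congr rfl fun k hk => by rw [(Finset.mem_filter.1 hk).2]).trans h1
    have hinv : ∏ k ∈ F.filter (fun k => ¬ s (f k) = f k), f k = 1 := by
      rw [← Finset.prod_filter_mul_prod_filter_not F (fun k => s (f k) = f k), hfix, one_mul] at hprod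
      exact hprod
    have hstep : ∀ (P : ι → Prop) [DecidablePred P], (∃ k ∈ F, ¬ P k) → ∏ k ∈ F.filter P, f k = 1 →
        ∀ k ∈ F.filter P, f k = 1 := by
      intro P _ ⟨k, hk, hkP⟩ hp
      refine ih _ (Finset.card_lt_card (Finset.filter_ssubset.2 ⟨k, hk, hkP⟩)) _
        (fun a ha => heig a (Finset.mem_filter.1 ha).1)
        (fun a ha b hb => hsep a (Finset.mem_filter.1 ha).1 b (Finset.mem_filter.1 hb).1) hp rfl
    by_cases hP : s (f i) = f i
    · refine hstep (fun k => s (f k) = f k) ⟨j, hj, fun e => hne (iff_of_true hP e)⟩ hfix i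
        (Finset.mem_filter.2 ⟨hi, hP⟩)
    · refine hstep (fun k => ¬ s (f k) = f k) ⟨j, hj, fun e => hne (iff_of_false hP e)⟩ hinv i
        (Finset.mem_filter.2 ⟨hi, hP⟩)

theorem eigen_conj {y : MulAut V} (hy : ∀ s ∈ S, y⁻¹ * s * y ∈ S) {v : V}
    (hv : ∀ s ∈ S, s v = v ∨ s v = v⁻¹) : ∀ s ∈ S, s (y v) = y v ∨ s (y v) = (y v)⁻¹ := by
  intro s hs
  have e : s (y v) = y ((y⁻¹ * s * y) v) := by simp [MulAut.mul_apply, MulAut.inv_apply]
  rcases hv _ (hy s hs) with h | h
  · exact Or.inl (by rw [e, h])
  · exact Or.inr (by rw [e, h, map_inv])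

/-- An automorphism of prime order with trivial norms normalising commuting involutions
centralises them. -/
theorem comm_of_norm (hV : Odd (Nat.card V)) (hsq : ∀ s ∈ S, s * s = 1)
    (hcomm : ∀ s ∈ S, ∀ t ∈ S, s * t = t * s) {y : MulAut V} {q : ℕ} (hq : q.Prime)
    (hyS : ∀ s ∈ S, y⁻¹ * s * y ∈ S) (hyq : y ^ q = 1)
    (hN : ∀ v : V, ∏ i ∈ Finset.range q, (y ^ i) v = 1) {s : MulAut V} (hs : s ∈ S) :
    y⁻¹ * s * y = s := by
  classical
  have hpowS : ∀ i : ℕ, ∀ t ∈ S, (y ^ i)⁻¹ * t * y ^ i ∈ S := by
    intro i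
    induction i with
    | zero => intro t ht; simpa using ht
    | succ i ih =>
      intro t ht
      have := hyS _ (ih t ht)
      rw [pow_succ, mul_inv_rev]
      simpa [mul_assoc] using this
  apply MulEquiv.ext
  intro v
  have hmem : v ∈ Subgroup.closure {v : V | ∀ s ∈ S, s v = v ∨ s v = v⁻¹} := by
    rw [closure_eigen hV hsq hcomm]; exact Subgroup.mem_top v
  induction hmem using Subgroup.closure_induction with
  | one => simp
  | mul a b _ _ ha hb => rw [map_mul, map_mul, ha, hb]
  | inv a _ ha => rw [map_inv, map_inv, ha]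
  | mem v hv =>
    by_contra hne
    set f : ℕ → V := fun i => (y ^ i) v with hf
    have hv1 : v ≠ 1 := by rintro rfl; exact hne (by simp)
    have heig : ∀ i, ∀ t ∈ S, t (f i) = f i ∨ t (f i) = (f i)⁻¹ := fun i =>
      eigen_conj (hpowS i) hv
    -- the weight of `y ^ i v` at `t` is the weight of `v` at `(y ^ i)⁻¹ t y ^ i`
    have hwt : ∀ i, ∀ t ∈ S, t (f i) = f i ↔ ((y ^ i)⁻¹ * t * y ^ i) v = v := by
      intro i t _
      have e : t (f i) = (y ^ i) (((y ^ i)⁻¹ * t * y ^ i) v) := by
        simp [hf, MulAut.mul_apply, MulAut.inv_apply]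
      rw [e]
      exact ⟨fun h => (y ^ i).injective h, fun h => by rw [h]⟩
    have hsame : ∀ {t t' : MulAut V}, t ∈ S → t' ∈ S → (t v = v ↔ t' v = v) → t v = t' v := by
      intro t t' ht ht' hiff
      by_cases h : t v = v
      · rw [h, hiff.1 h]
      · rw [(hv t ht).resolve_left h, (hv t' ht').resolve_left fun e => h (hiff.2 e)]
    have hsep : ∀ i j, i < j → j < q → ∃ t ∈ S, ¬ (t (f i) = f i ↔ t (f j) = f j) := by
      intro i j hij hj
      by_contra hall
      push Not at hall
      set d := j - i with hd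
      -- the weight has period `d`
      have hper : ∀ t ∈ S, ((y ^ d)⁻¹ * t * y ^ d) v = t v := by
        intro t ht
        have hti : y ^ i * t * (y ^ i)⁻¹ ∈ S := by
          have h1 := hpowS (i * q - i) t ht
          have e : y ^ (i * q - i) = (y ^ i)⁻¹ := by
            rw [eq_inv_iff_mul_eq_one, ← pow_add, Nat.sub_add_cancel (Nat.le_mul_of_pos_right i hq.pos),
              mul_comm, pow_mul, hyq, one_pow]
          rwa [e, inv_inv] at h1
        refine hsame (hpowS d t ht) ht ?_
        have h2 := hall _ hti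
        rw [hwt i _ hti, hwt j _ hti] at h2
        rw [show j = i + d by omega, pow_add] at h2
        simp only [mul_inv_rev, mul_assoc, inv_mul_cancel_left, inv_mul_cancel, mul_one] at h2 ⊢
        exact h2.symm
      have hmul : ∀ n : ℕ, ∀ t ∈ S, ((y ^ (n * d))⁻¹ * t * y ^ (n * d)) v = t v := by
        intro n
        induction n with
        | zero => intro t _; simp
        | succ n ih =>
          intro t ht
          rw [show (n + 1) * d = d + n * d by ring, pow_add, mul_inv_rev]
          have h1 := ih _ (hpowS d t ht)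
          rw [hper t ht] at h1
          simpa [mul_assoc] using h1
      have hcop : Nat.Coprime d q := ((hq.coprime_iff_not_dvd).2 fun h => by
        have := Nat.le_of_dvd (by omega) h; omega).symm
      obtain ⟨n, -, hn⟩ := Nat.exists_mul_mod_eq_one_of_coprime hcop hq.one_lt
      have hyn : y ^ (n * d) = y := by
        rw [mul_comm, ← Nat.mod_add_div (d * n) q, hn, pow_add, pow_one, pow_mul, hyq, one_pow, mul_one]
      have := hmul n s hs
      rw [hyn] at this
      exact hne this
    have hall := eq_one_of_prod_eq_one hV (Finset.range q) f (fun i _ => heig i)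
      (fun i hi j hj hij => by
        rcases lt_or_gt_of_ne hij with h | h
        · exact hsep i j h (Finset.mem_range.1 hj)
        · obtain ⟨t, ht, hne'⟩ := hsep j i h (Finset.mem_range.1 hi)
          exact ⟨t, ht, fun e => hne' e.symm⟩) (hN v) 0 (Finset.mem_range.2 hq.pos)
    exact hv1 (by simpa [hf] using hall)

/-- The norm identity for `N ⟨x⟩` with `x` fixed-point-free on `N`. -/
theorem pow_card_eq_one_of_norms {L : Type*} [Group L] (φ : L →* MulAut V) (N : Subgroup L) [Finite N]
    {x : L} {q : ℕ} (hq : 0 < q) (hxN : ∀ n ∈ N, x * n * x⁻¹ ∈ N)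
    (hfree : ∀ i : ℕ, 0 < i → i < q → ∀ n ∈ N, n * x ^ i = x ^ i * n → n = 1)
    (hNnorm : ∀ (_ : Fintype N) (v : V), ∏ n : N, φ (n : L) v = 1)
    (hxnorm : ∀ v : V, ∀ n ∈ N, ∏ i ∈ Finset.range q, φ ((n * x * n⁻¹) ^ i) v = 1) (v : V) :
    v ^ Nat.card N = 1 := by
  classical
  haveI := Fintype.ofFinite N
  have hpow : ∀ i : ℕ, ∀ n ∈ N, x ^ i * n * (x ^ i)⁻¹ ∈ N := by
    intro i
    induction i with
    | zero => intro n hn; simpa using hn
    | succ i ih =>
      intro n hn
      have := hxN _ (ih n hn)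
      rw [pow_succ']
      simpa [mul_assoc] using this
  have h1 : ∏ n : N, ∏ i ∈ Finset.range q, φ (((n : L) * x * (n : L)⁻¹) ^ i) v = 1 :=
    Finset.prod_eq_one fun n _ => hxnorm v n n.2
  rw [Finset.prod_comm] at h1
  obtain ⟨q', rfl⟩ := Nat.exists_eq_succ_of_ne_zero hq.ne'
  rw [Finset.prod_range_succ'] at h1
  have h2 : ∀ i ∈ Finset.range q', ∏ n : N, φ (((n : L) * x * (n : L)⁻¹) ^ (i + 1)) v = 1 := by
    intro i hi
    set j := i + 1
    let g : N → N := fun n => ⟨(n : L) * (x ^ j * (n : L)⁻¹ * (x ^ j)⁻¹),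
      mul_mem n.2 (hpow j _ (inv_mem n.2))⟩
    have hg : Function.Injective g := by
      intro a b e
      have e' : (a : L) * (x ^ j * (a : L)⁻¹ * (x ^ j)⁻¹) = (b : L) * (x ^ j * (b : L)⁻¹ * (x ^ j)⁻¹) :=
        congrArg Subtype.val e
      have e2 : (b : L)⁻¹ * a * x ^ j = x ^ j * ((b : L)⁻¹ * a) := by
        have := congrArg (fun z => (b : L)⁻¹ * z * x ^ j * (a : L)) e'
        simpa [mul_assoc] using this
      have := hfree j (Nat.succ_pos i) (by have := Finset.mem_range.1 hi; omega) _
        (mul_mem (inv_mem b.2) a.2) e2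
      exact Subtype.ext (inv_mul_eq_one.1 this).symm
    have h3 : ∀ n : N, φ (((n : L) * x * (n : L)⁻¹) ^ j) v = φ ((g n : N) : L) (φ (x ^ j) v) := by
      intro n
      rw [conj_pow, ← MulAut.mul_apply, ← map_mul]
      congr 2
      simp [g, mul_assoc]
    rw [Finset.prod_congr rfl fun n _ => h3 n]
    exact (Fintype.prod_bijective g (Finite.injective_iff_bijective.1 hg) _ _ fun n => rfl).trans
      (hNnorm inferInstance _)
  rw [Finset.prod_eq_one h2, one_mul] at h1
  simpa [Nat.card_eq_fintype_card] using h1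

end CfsgLib.InvChar.OneComposite
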