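import Cfsg.Agent.Lib.InvChar.OneComposite.Core

/-!
# Maximal Sylow-2-invariant `r`-subgroups

Normalisers of elementary abelian `r`-subgroups normalised by a Sylow 2-subgroup `T` are solvable,
whence two maximal `T`-invariant `r`-subgroups which meet nontrivially are equal.
-/

set_option autoImplicit false
set_option linter.unusedSectionVars false
set_option linter.style.haveILetI false

namespace CfsgLib.InvChar.OneComposite

open Subgroup CfsgLib.Invol CfsgLib.EqOrder CfsgLib.FiveOrbit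

variable {G : Type*} [Group G] [Finite G] {r : ℕ}

/-- `r`-subgroups normalised by `T`. -/
def InvR (T : Sylow 2 G) (r : ℕ) (R : Subgroup G) : Prop :=
  IsPGroup r R ∧ (T : Subgroup G) ≤ normalizer (R : Set G)

theorem InvR.conj_mem {T : Sylow 2 G} {R : Subgroup G} (hR : InvR T r R) {a x : G}
    (ha : a ∈ (T : Subgroup G)) (hx : x ∈ R) : a * x * a⁻¹ ∈ R :=
  (Subgroup.mem_normalizer_iff.1 (hR.2 ha) x).1 hx

theorem exists_max_invR (T : Sylow 2 G) {R : Subgroup G} (hR : InvR T r R) :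
    ∃ M, InvR T r M ∧ R ≤ M ∧ ∀ M', InvR T r M' → M ≤ M' → M' = M := by
  obtain ⟨M, hM⟩ := (Set.toFinite {M : Subgroup G | InvR T r M ∧ R ≤ M}).exists_maximal ⟨R, hR, le_rfl⟩
  exact ⟨M, hM.prop.1, hM.prop.2, fun M' h' hle =>
    le_antisymm (hM.2 ⟨h', hM.prop.2.trans hle⟩ hle) hle⟩

namespace Spec

variable (h : Spec G r)
include h

theorem odd_of_isPGroup {R : Subgroup G} (hR : IsPGroup r R) : Odd (Nat.card R) := by
  haveI := Fact.mk h.hr
  obtain ⟨k, hk⟩ := IsPGroup.iff_card.1 hR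
  rw [hk]; exact h.r_odd.pow

/-- Elements of odd order normalising `T` and an elementary abelian `r`-group act on `T` as on it. -/
theorem conj_eq_on {T : Sylow 2 G} {V : Subgroup G} (hV : InvR T r V)
    (hVc : ∀ a ∈ V, ∀ b ∈ V, a * b = b * a) {y : G} (hy : y ∈ normalizer ((T : Subgroup G) : Set G))
    (hyV : y ∈ normalizer (V : Set G)) {q : ℕ} (hq : q.Prime) (hq2 : q ≠ 2) (hyq : orderOf y = q)
    {a : G} (ha : a ∈ (T : Subgroup G)) :
    V.normalizerMonoidHom ⟨y, hyV⟩ * V.normalizerMonoidHom ⟨a, hV.2 ha⟩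
      = V.normalizerMonoidHom ⟨a, hV.2 ha⟩ * V.normalizerMonoidHom ⟨y, hyV⟩ := by
  classical
  letI : CommGroup V :=
    { (inferInstance : Group V) with mul_comm := fun a b => Subtype.ext (hVc a a.2 b b.2) }
  set φ := V.normalizerMonoidHom with hφ
  set S : Subgroup (MulAut V) := ((T : Subgroup G).subgroupOf (normalizer (V : Set G))).map φ with hS
  have hsq : ∀ s ∈ S, s * s = 1 := by
    rintro _ ⟨b, hb, rfl⟩
    rw [← map_mul, show b * b = 1 from Subtype.ext (h.sq_sylow T b hb), map_one]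
  have hcomm : ∀ s ∈ S, ∀ t ∈ S, s * t = t * s := by
    rintro _ ⟨b, hb, rfl⟩ _ ⟨c, hc, rfl⟩
    rw [← map_mul, ← map_mul, show b * c = c * b from Subtype.ext (h.comm_sylow T hb hc).eq]
  have hyS : ∀ s ∈ S, (φ ⟨y, hyV⟩)⁻¹ * s * φ ⟨y, hyV⟩ ∈ S := by
    rintro _ ⟨b, hb, rfl⟩
    refine ⟨(⟨y, hyV⟩ : normalizer (V : Set G))⁻¹ * b * ⟨y, hyV⟩, ?_, by rw [map_mul, map_mul, map_inv]⟩
    refine Subgroup.mem_subgroupOf.2 ?_
    have := (Subgroup.mem_normalizer_iff.1 (inv_mem hy) (b : G)).1 hb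
    simpa using this
  have hVodd : Odd (Nat.card V) := h.odd_of_isPGroup hV.1
  have hpow : φ ⟨y, hyV⟩ ^ q = 1 := by
    rw [← map_pow, show (⟨y, hyV⟩ : normalizer (V : Set G)) ^ q = 1 from
      Subtype.ext (hyq ▸ pow_orderOf_eq_one y), map_one]
  have key := comm_of_norm hVodd hsq hcomm hq hyS hpow
    (fun v => h.norm_eq_one hV.1 (MonoidHom.id V) hyV hq hq2 hyq v)
    (show φ ⟨a, hV.2 ha⟩ ∈ S from ⟨⟨a, hV.2 ha⟩, ha, rfl⟩)
  calc _ = φ ⟨y, hyV⟩ * ((φ ⟨y, hyV⟩)⁻¹ * φ ⟨a, hV.2 ha⟩ * φ ⟨y, hyV⟩) := by rw [key]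
    _ = _ := by group

theorem isSolvable_normalizer {T : Sylow 2 G} {V : Subgroup G} (hV : InvR T r V) (hne : V ≠ ⊥)
    (hVc : ∀ a ∈ V, ∀ b ∈ V, a * b = b * a) : Group.IsSolvable (normalizer (V : Set G)) := by
  haveI : Fact (Nat.Prime 2) := ⟨Nat.prime_two⟩
  set K := normalizer (V : Set G) with hK
  set f : K →* MulAut V := V.normalizerMonoidHom with hf
  haveI hker : Group.IsSolvable f.ker := by
    obtain ⟨v, hv, hv1⟩ := (Subgroup.ne_bot_iff_exists_ne_one).1 hne |>.elim fun x hx =>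
      (⟨(x : G), x.2, fun e => hx (Subtype.ext e)⟩ : ∃ v ∈ V, v ≠ 1)
    have hvr : orderOf v = r :=
      ((Nat.dvd_prime h.hr).1 (orderOf_dvd_of_pow_eq_one (h.pow_r hV.1 hv))).resolve_left
        fun e => hv1 (orderOf_eq_one_iff.1 e)
    haveI := h.isSolvable_of_commute (X := f.ker.map K.subtype) (g := v) (Or.inr hvr) (by
      rintro _ ⟨x, hx, rfl⟩
      have h1 : (f x) ⟨v, hv⟩ = ⟨v, hv⟩ := by rw [MonoidHom.mem_ker.1 hx]; rfl
      exact mul_inv_eq_iff_eq_mul.1 (congrArg Subtype.val h1))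
    exact Group.isSolvable_of_surjective
      (f := (f.ker.equivMapOfInjective K.subtype K.subtype_injective).symm.toMonoidHom)
      (MulEquiv.surjective _)
  haveI hran : Group.IsSolvable f.range := by
    set T₁ : Sylow 2 K := T.subtype hV.2
    set Tb : Sylow 2 f.range := T₁.mapSurjective (f := f.rangeRestrict) f.rangeRestrict_surjective
    have hP : normalizer ((Tb : Subgroup f.range) : Set f.range) ≤ centralizer (Tb : Subgroup f.range) := by
      intro g hg
      obtain ⟨k, rfl⟩ := f.rangeRestrict_surjective g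
      set M := (Tb : Subgroup f.range).comap f.rangeRestrict with hM
      have hTM : (T₁ : Subgroup K) ≤ M := fun a ha => ⟨a, ha, rfl⟩
      have hkTM : ((k • T₁ : Sylow 2 K) : Subgroup K) ≤ M := by
        rintro _ ⟨a, ha, rfl⟩
        show f.rangeRestrict (k * a * k⁻¹) ∈ (Tb : Subgroup f.range)
        rw [map_mul, map_mul, map_inv]
        exact (Subgroup.mem_normalizer_iff.1 hg _).1 ⟨a, ha, rfl⟩
      obtain ⟨⟨u, hu⟩, hu'⟩ := MulAction.exists_smul_eq M ((k • T₁).subtype hkTM) (T₁.subtype hTM)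
      -- `u k` normalises `T`
      have huk : ((u * k : K) : G) ∈ normalizer ((T : Subgroup G) : Set G) := by
        refine normalizer_of_conj_mem fun a ha => ?_
        have h1 : k * ⟨a, hV.2 ha⟩ * k⁻¹ ∈ ((k • T₁ : Sylow 2 K) : Subgroup K) :=
          ⟨⟨a, hV.2 ha⟩, ha, rfl⟩
        have h2 : (⟨u, hu⟩ : M) * ⟨_, hkTM h1⟩ * (⟨u, hu⟩ : M)⁻¹ ∈
            ((T₁.subtype hTM : Sylow 2 M) : Subgroup M) := by
          rw [← hu']
          exact ⟨⟨_, hkTM h1⟩, h1, rfl⟩
        have h3 : (u : G) * ((k : G) * a * (k : G)⁻¹) * (u : G)⁻¹ ∈ (T : Subgroup G) := h2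
        simpa [mul_assoc] using h3
      have hucomm : ∀ a ∈ (Tb : Subgroup f.range), Commute a (f.rangeRestrict u) := by
        obtain ⟨b, hb, hbe⟩ := hu
        rw [← hbe]
        rintro _ ⟨a, ha, rfl⟩
        exact (show Commute a b from Subtype.ext (h.comm_sylow T ha hb).eq).map _
      -- elements normalising `T` centralise the image
      have hcent : ∀ n : K, (n : G) ∈ normalizer ((T : Subgroup G) : Set G) →
          ∀ a ∈ (Tb : Subgroup f.range), Commute a (f.rangeRestrict n) := by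
        intro n hn
        have hodd : ∀ m : K, (m : G) ∈ normalizer ((T : Subgroup G) : Set G) →
            (orderOf (m : G)).Prime → ∀ a ∈ (Tb : Subgroup f.range), Commute a (f.rangeRestrict m) := by
          intro m hm hp
          by_cases h2 : orderOf (m : G) = 2
          · have hmT := h.mem_of_normalizer hm (invol_mul_self h2)
            rintro _ ⟨a, ha, rfl⟩
            exact (show Commute a m from Subtype.ext (h.comm_sylow T ha hmT).eq).map _
          · rintro _ ⟨a, ha, rfl⟩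
            exact Subtype.ext (h.conj_eq_on hV hVc hm m.2 hp h2 rfl (a := (a : G)) ha).symm
        rcases h.ord (n : G) with e | e | e
        · intro a _
          rw [show n = 1 from Subtype.ext (orderOf_eq_one_iff.1 e), map_one]
          exact Commute.one_right a
        · exact hodd n hn e
        · intro a ha
          have h1 : orderOf ((n ^ r : K) : G) = 2 := by
            rw [SubgroupClass.coe_pow, orderOf_pow_of_dvd h.hr.ne_zero (e ▸ dvd_mul_left r 2), e,
              Nat.mul_div_cancel 2 h.hr.pos]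
          have h2 : orderOf ((n ^ 2 : K) : G) = r := by
            rw [SubgroupClass.coe_pow, orderOf_pow_of_dvd two_ne_zero (e ▸ dvd_mul_right 2 r), e,
              Nat.mul_div_cancel_left r two_pos]
          have c1 := hodd _ (by rw [SubgroupClass.coe_pow]; exact pow_mem hn r) (h1 ▸ Nat.prime_two) a ha
          have c2 := hodd _ (by rw [SubgroupClass.coe_pow]; exact pow_mem hn 2) (h2 ▸ h.hr) a ha
          obtain ⟨l, hl⟩ := h.r_odd
          have he : n = n ^ r * ((n ^ 2) ^ l)⁻¹ := by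
            rw [← pow_mul, hl, pow_succ', mul_inv_cancel_right]
          have c3 : Commute a (f.rangeRestrict ((n ^ 2) ^ l)) := by rw [map_pow]; exact c2.pow_right l
          rw [he, map_mul, map_inv]
          exact c1.mul_right c3.inv_right
      refine mem_centralizer_iff.2 fun a ha => ?_
      have e1 := hcent (u * k) huk a ha
      rw [map_mul] at e1
      have e2 := (hucomm a ha).inv_right.mul_right e1
      rw [inv_mul_cancel_left] at e2
      exact e2.eq
    have hc : Subgroup.IsComplement' (MonoidHom.transferSylow Tb hP).ker (Tb : Subgroup f.range) :=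
      MonoidHom.ker_transferSylow_isComplement' Tb hP
    haveI := CfsgLib.FT.odd_order_solvable_of CfsgLib.FT.typePBase CfsgLib.FT.fieldLemma
      (G := (MonoidHom.transferSylow Tb hP).ker) (by
      rw [← Subgroup.IsComplement'.index_eq_card hc]
      exact CfsgLib.EqOrder.odd_index_sylow_two Tb)
    haveI : Group.IsSolvable (Tb : Subgroup f.range) := by
      haveI := Tb.2.isNilpotent
      infer_instance
    exact Group.isSolvable_of_ker_le_range (MonoidHom.transferSylow Tb hP).ker.subtype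
      (MonoidHom.transferSylow Tb hP) (Subgroup.range_subtype _).ge
  exact Group.isSolvable_of_ker_le_range f.ker.subtype f.rangeRestrict
    (by rw [MonoidHom.ker_rangeRestrict, Subgroup.range_subtype])

/-- In a solvable `K ≥ T` two `T`-invariant `r`-subgroups lie in a common one. -/
theorem exists_common {T : Sylow 2 G} {K Y₁ Y₂ : Subgroup G} [Group.IsSolvable K]
    (hTK : (T : Subgroup G) ≤ K) (h₁ : InvR T r Y₁) (h₂ : InvR T r Y₂) (hK₁ : Y₁ ≤ K) (hK₂ : Y₂ ≤ K) :
    ∃ P, InvR T r P ∧ Y₁ ≤ P ∧ Y₂ ≤ P := by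
  haveI := Fact.mk h.hr
  haveI : Fact (Nat.Prime 2) := ⟨Nat.prime_two⟩
  set O := oddSub K with hO
  obtain ⟨t, ht, ht1⟩ := h.exists_ne_one T
  have hA : (T : Subgroup G) ≤ normalizer (O : Set G) := hTK.trans (le_normalizer_oddSub K)
  have hcop : (Nat.card (T : Subgroup G)).Coprime (Nat.card O) := by
    rw [T.card_eq_multiplicity]
    exact Nat.Coprime.pow_left _ (Nat.coprime_two_left.2 (odd_oddSub K))
  haveI hTs : Group.IsSolvable (T : Subgroup G) := by
    haveI := T.2.isNilpotent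
    infer_instance
  have hin : ∀ {Y}, InvR T r Y → Y ≤ K → Y ≤ O := fun hY hYK =>
    h.le_oddSub hTK (h.odd_of_isPGroup hY.1) hYK fun a ha y hy => hY.conj_mem ha hy
  -- `C_O(T)` is an `r`-group, so lies in every invariant Sylow `r`-subgroup
  have hC : IsPGroup r (O ⊓ centralizer ((T : Subgroup G) : Set G) : Subgroup G) :=
    h.isPGroup_r_of_order fun x hx h1 => h.order_of_invol (h.invol_sylow ht ht1)
      (mem_centralizer_commute.1 hx.2 t ht).symm (odd_of_mem (odd_oddSub K) hx.1) h1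
  obtain ⟨P₀, hP₀, hP₀n⟩ := CfsgLib.Coprime.exists_invariant_sylow_ge hA hcop (Or.inl hTs) hC inf_le_left
    (fun a ha => normalizer_of_conj_mem fun x hx => by
      rw [(mem_centralizer_commute.1 hx.2 a ha).eq, mul_inv_cancel_right]; exact hx)
  have hall : ∀ {Y}, InvR T r Y → Y ≤ K → Y ≤ (P₀ : Subgroup O).map O.subtype := by
    intro Y hY hYK
    obtain ⟨P, hP, hPn⟩ := CfsgLib.Coprime.exists_invariant_sylow_ge hA hcop (Or.inl hTs) hY.1 (hin hY hYK) hY.2
    obtain ⟨c, hc, hce⟩ := CfsgLib.Coprime.exists_conj_invariant_sylow hA hcop (Or.inl hTs) P₀ P hP₀n hPn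
    refine hP.trans ?_
    rw [← hce]
    rintro _ ⟨x, hx, rfl⟩
    exact mul_mem (mul_mem (hP₀ hc) hx) (inv_mem (hP₀ hc))
  exact ⟨(P₀ : Subgroup O).map O.subtype, ⟨P₀.2.map _, hP₀n⟩, hall h₁ hK₁, hall h₂ hK₂⟩

/-- Maximal invariant `r`-subgroups which meet are equal. -/
theorem max_eq {T : Sylow 2 G} {R₁ R₂ : Subgroup G} (h₁ : InvR T r R₁) (h₂ : InvR T r R₂)
    (hm₁ : ∀ M, InvR T r M → R₁ ≤ M → M = R₁) (hm₂ : ∀ M, InvR T r M → R₂ ≤ M → M = R₂)
    (hne : R₁ ⊓ R₂ ≠ ⊥) : R₁ = R₂ := by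
  haveI := Fact.mk h.hr
  induction hn : Nat.card G - Nat.card (R₁ ⊓ R₂ : Subgroup G) using Nat.strong_induction_on
    generalizing R₁ R₂ with
  | _ n ih =>
    subst hn
    by_contra hd
    set D := R₁ ⊓ R₂ with hD
    have hDp : IsPGroup r D := h₁.1.to_le inf_le_left
    have hDT : (T : Subgroup G) ≤ normalizer (D : Set G) := fun a ha =>
      normalizer_of_conj_mem fun x hx => ⟨h₁.conj_mem ha hx.1, h₂.conj_mem ha hx.2⟩
    haveI : Nontrivial D := (Subgroup.nontrivial_iff_ne_bot D).2 hne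
    haveI := hDp.center_nontrivial
    set V := (Subgroup.center D).map D.subtype with hV
    have hVD : V ≤ D := map_subtype_le _
    have hND : normalizer (D : Set G) ≤ normalizer (V : Set G) := by
      intro g hg
      refine normalizer_of_conj_mem ?_
      rintro _ ⟨z, hz, rfl⟩
      exact ⟨⟨g * z * g⁻¹, (Subgroup.mem_normalizer_iff.1 hg _).1 z.2⟩, Subgroup.mem_center_iff.2 fun d => by
        have hd' : g⁻¹ * d * g ∈ D := by
          have := (Subgroup.mem_normalizer_iff.1 (inv_mem hg) _).1 d.2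
          simpa using this
        have hz' : g⁻¹ * d * g * z = z * (g⁻¹ * d * g) :=
          congrArg Subtype.val (Subgroup.mem_center_iff.1 hz ⟨_, hd'⟩)
        refine Subtype.ext ?_
        calc (d : G) * (g * z * g⁻¹) = g * (g⁻¹ * d * g * z) * g⁻¹ := by group
          _ = g * (z * (g⁻¹ * d * g)) * g⁻¹ := by rw [hz']
          _ = _ := by simp [mul_assoc], rfl⟩
    have hVi : InvR T r V := ⟨hDp.to_le hVD, hDT.trans hND⟩
    have hVne : V ≠ ⊥ := fun e => by
      rw [hV, Subgroup.map_eq_bot_iff_of_injective _ D.subtype_injective] at e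
      exact (Subgroup.nontrivial_iff_ne_bot _).1 inferInstance e
    have hVc : ∀ a ∈ V, ∀ b ∈ V, a * b = b * a := by
      rintro _ ⟨a, ha, rfl⟩ _ ⟨b, -, rfl⟩
      exact (congrArg Subtype.val (Subgroup.mem_center_iff.1 ha b)).symm
    haveI := h.isSolvable_normalizer hVi hVne hVc
    -- normalisers grow
    have hY : ∀ {R}, InvR T r R → D < R →
        InvR T r (R ⊓ normalizer (D : Set G)) ∧ D < R ⊓ normalizer (D : Set G) := by
      intro R hR hlt
      refine ⟨⟨hR.1.to_le inf_le_left, fun a ha => normalizer_of_conj_mem fun x hx =>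
        ⟨hR.conj_mem ha hx.1, (normalizer (D : Set G)).mul_mem ((normalizer (D : Set G)).mul_mem (hDT ha) hx.2)
          ((normalizer (D : Set G)).inv_mem (hDT ha))⟩⟩, ?_⟩
      refine lt_of_le_of_ne (le_inf hlt.le le_normalizer) fun e => ?_
      haveI := hR.1.isNilpotent
      have hlt' : D.subgroupOf R < ⊤ := lt_top_iff_ne_top.2 fun e' =>
        absurd (Subgroup.subgroupOf_eq_top.1 e') hlt.not_ge
      obtain ⟨x, hx, hxD⟩ := SetLike.exists_of_lt
        (Group.normalizerCondition_of_isNilpotent _ hlt')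
      refine hxD (Subgroup.mem_subgroupOf.2 (e.ge ⟨x.2, normalizer_of_conj_mem fun d hd => ?_⟩))
      have := (Subgroup.mem_normalizer_iff.1 hx ⟨d, hlt.le hd⟩).1 (Subgroup.mem_subgroupOf.2 hd)
      exact Subgroup.mem_subgroupOf.1 this
    have hlt₁ : D < R₁ := lt_of_le_of_ne inf_le_left fun e =>
      hd ((hm₁ R₂ h₂ (e ▸ inf_le_right)).symm)
    have hlt₂ : D < R₂ := lt_of_le_of_ne inf_le_right fun e =>
      hd (hm₂ R₁ h₁ (e ▸ inf_le_left))
    obtain ⟨hY₁, hY₁'⟩ := hY h₁ hlt₁
    obtain ⟨hY₂, hY₂'⟩ := hY h₂ hlt₂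
    obtain ⟨P, hP, hPY₁, hPY₂⟩ := h.exists_common (K := normalizer (V : Set G)) hVi.2 hY₁ hY₂
      (inf_le_right.trans hND) (inf_le_right.trans hND)
    obtain ⟨R₃, h₃, hPR, hm₃⟩ := exists_max_invR T hP
    have key : ∀ {R}, InvR T r R → (∀ M, InvR T r M → R ≤ M → M = R) →
        ∀ Y, Y ≤ R → Y ≤ R₃ → D < Y → R₃ = R := by
      intro R hR hmR Y hYR hY3 hlt
      have hlt' : D < R₃ ⊓ R := lt_of_lt_of_le hlt (le_inf hY3 hYR)
      refine ih _ ?_ h₃ hR (fun M hM hle => hm₃ M hM hle) hmR ?_ rfl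
      · have h1 : Nat.card D < Nat.card (R₃ ⊓ R : Subgroup G) := by
          by_contra hge
          exact hlt'.ne (Subgroup.eq_of_le_of_card_ge hlt'.le (not_lt.1 hge))
        have h2 := (R₃ ⊓ R).card_le_card_group
        omega
      · exact fun e => hne (le_bot_iff.1 (e ▸ hlt'.le))
    exact hd ((key h₁ hm₁ _ inf_le_left (hPY₁.trans hPR) hY₁').symm.trans
      (key h₂ hm₂ _ inf_le_left (hPY₂.trans hPR) hY₂'))

end Spec

end CfsgLib.InvChar.OneComposite
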