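import Cfsg.Agent.Lib.InvChar.OneComposite.CaseA
import Cfsg.Agent.Lib.InvChar.OneComposite.Klein
import Cfsg.Agent.Lib.InvChar.OneComposite.EndFinal

/-!
# Simple groups with one composite element order `2 r`

Every such group is `PSL(2, F)` for some field of odd order.
-/

set_option autoImplicit false
set_option linter.unusedSectionVars false
set_option linter.style.haveILetI false

namespace CfsgLib.InvChar.OneComposite

open Subgroup CfsgLib.Invol CfsgLib.EqOrder CfsgLib.FiveOrbit

universe u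

variable {G : Type u} [Group G] [Finite G] {r : ℕ}

/-- A simple group in which every element order is `1`, a prime or `2 r` (`r` an odd prime), and
`2 r` occurs, is `PSL(2, F)` with `F` of odd order. -/
theorem Spec.psl (h : Spec G r) :
    ∃ (F : Type) (_ : Field F) (_ : Fintype F), Odd (Fintype.card F) ∧
      Nonempty (G ≃* Matrix.ProjectiveSpecialLinearGroup (Fin 2) F) := by
  classical
  haveI : Fact (Nat.Prime 2) := ⟨Nat.prime_two⟩
  obtain ⟨T⟩ : Nonempty (Sylow 2 G) := inferInstance
  by_cases hall : NoCore T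
  · exact (h.false_of_noCore hall).elim
  obtain ⟨a₀, ha₀, ha₀1, hne⟩ : ∃ a ∈ (T : Subgroup G), a ≠ 1 ∧ core a ≠ ⊥ := by
    by_contra hc
    exact hall fun a ha ha1 => by_contra fun e => hc ⟨a, ha, ha1, e⟩
  by_cases hcase : (∃ z : G, z ≠ 1 ∧ Odd (orderOf z) ∧ ∀ a ∈ (T : Subgroup G), Commute z a) ∨
      8 ≤ Nat.card (T : Subgroup G)
  · exact (h.false_of_bounded ⟨h.exists_bound T hcase, ⟨a₀, ha₀, ha₀1, hne⟩⟩).elim
  push Not at hcase
  obtain ⟨hz, h8⟩ := hcase
  have h4 : Nat.card (T : Subgroup G) = 4 := by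
    have := h.four_le T
    obtain ⟨n, hn⟩ := IsPGroup.iff_card.1 T.2
    rw [hn] at this h8 ⊢
    obtain rfl : n = 2 := by
      have h3 : n < 3 := (Nat.pow_lt_pow_iff_right one_lt_two).1 (h8.trans_eq (by norm_num))
      have h2 : 2 ≤ n := (Nat.pow_le_pow_iff_right one_lt_two).1 (le_trans (by norm_num) this)
      omega
    norm_num
  refine h.psl_of_klein T h4 (fun z hzo hzc => by_contra fun hz1 => ?_) ha₀ ha₀1
  obtain ⟨b, hb, hbc⟩ := hz z hz1 hzo
  exact hbc (hzc b hb)

end CfsgLib.InvChar.OneComposite
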