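import Cfsg.Agent.Lib.InvChar.OneComposite.Base
import Cfsg.Agent.Lib.InvChar.OneComposite.Linear

/-!
# Norms of elements of odd prime order on `r`-groups they normalise

An element `y` of odd prime order `q` normalising an `r`-group `V` has `(v y) ^ q = 1` for all
`v ∈ V`, so all its norms on abelian images of `V` are trivial.
-/

set_option autoImplicit false
set_option linter.unusedSectionVars false
set_option linter.style.haveILetI false

namespace CfsgLib.InvChar.OneComposite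

open Subgroup CfsgLib.Invol

variable {G : Type*} [Group G] [Finite G] {r : ℕ}

theorem mul_pow_mem {V : Subgroup G} {A : Type*} [CommGroup A] (θ : V →* A) {y : G}
    (hy : y ∈ normalizer (V : Set G)) (v : V) (n : ℕ) :
    ∃ hm : ((v : G) * y) ^ n * (y ^ n)⁻¹ ∈ V, θ ⟨_, hm⟩
      = ∏ i ∈ Finset.range n, θ ((V.normalizerMonoidHom ⟨y, hy⟩ ^ i) v) := by
  set ψ := V.normalizerMonoidHom ⟨y, hy⟩ with hψ
  have hψa : ∀ (i : ℕ) (a : V), ((ψ ^ i) a : G) = y ^ i * (a : G) * (y ^ i)⁻¹ := by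
    intro i
    induction i with
    | zero => intro a; simp
    | succ i ih =>
      intro a
      rw [pow_succ', MulAut.mul_apply]
      show y * ((ψ ^ i) a : G) * y⁻¹ = _
      rw [ih, pow_succ']
      group
  induction n with
  | zero =>
    refine ⟨by simp, ?_⟩
    rw [Finset.range_zero, Finset.prod_empty, ← map_one θ]
    congr 1
    exact Subtype.ext (by simp)
  | succ n ih =>
    obtain ⟨hm, he⟩ := ih
    have e : ((v : G) * y) ^ (n + 1) * (y ^ (n + 1))⁻¹
        = (⟨_, hm⟩ * (ψ ^ n) v : V) := by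
      rw [Subgroup.coe_mul, hψa, pow_succ, pow_succ]
      group
    refine ⟨e ▸ SetLike.coe_mem _, ?_⟩
    rw [Finset.prod_range_succ, ← he, ← map_mul]
    congr 1
    exact Subtype.ext e

namespace Spec

variable (h : Spec G r)
include h

theorem pow_mul_eq_one {V : Subgroup G} (hV : IsPGroup r V) {y : G}
    (hy : y ∈ normalizer (V : Set G)) {q : ℕ} (hq : q.Prime) (hq2 : q ≠ 2) (hyq : orderOf y = q)
    {v : G} (hv : v ∈ V) : (v * y) ^ q = 1 := by
  by_cases hyV : y ∈ V
  · have hqr : q = r := by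
      have := orderOf_dvd_of_pow_eq_one (h.pow_r hV hyV)
      rw [hyq] at this
      exact (Nat.prime_dvd_prime_iff_eq hq h.hr).1 this
    exact hqr ▸ h.pow_r hV (mul_mem hv hyV)
  obtain ⟨hm, -⟩ := mul_pow_mem (1 : V →* Multiplicative (ZMod 1)) hy ⟨v, hv⟩ q
  rw [show y ^ q = 1 from hyq ▸ pow_orderOf_eq_one y] at hm
  rw [inv_one, mul_one] at hm
  have hd : orderOf (v * y) ∣ q * r := orderOf_dvd_of_pow_eq_one (by rw [pow_mul]; exact h.pow_r hV hm)
  rcases h.ord (v * y) with e | e | e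
  · rw [orderOf_eq_one_iff.1 e, one_pow]
  · rcases (Nat.Prime.dvd_mul e).1 hd with hd | hd
    · exact orderOf_dvd_iff_pow_eq_one.1 hd
    · by_cases hqr : q = r
      · exact orderOf_dvd_iff_pow_eq_one.1 (hqr ▸ hd)
      exfalso
      obtain ⟨hm', -⟩ := mul_pow_mem (1 : V →* Multiplicative (ZMod 1)) hy ⟨v, hv⟩ r
      rw [orderOf_dvd_iff_pow_eq_one.1 hd, one_mul] at hm'
      have hyr : y ^ r ∈ V := by simpa using inv_mem hm'
      obtain ⟨k, hk⟩ := exists_pow_eq_self_of_coprime (x := y) (n := r)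
        (hyq ▸ (Nat.coprime_primes h.hr hq).2 (Ne.symm hqr))
      exact hyV (hk ▸ pow_mem hyr k)
  · exfalso
    rw [e] at hd
    exact (Nat.not_even_iff_odd.2 ((hq.odd_of_ne_two hq2).mul h.r_odd))
      (even_iff_two_dvd.2 ((dvd_mul_right 2 r).trans hd))

/-- All norms vanish. -/
theorem norm_eq_one {V : Subgroup G} (hV : IsPGroup r V) {A : Type*} [CommGroup A] (θ : V →* A)
    {y : G} (hy : y ∈ normalizer (V : Set G)) {q : ℕ} (hq : q.Prime) (hq2 : q ≠ 2)
    (hyq : orderOf y = q) (v : V) :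
    ∏ i ∈ Finset.range q, θ ((V.normalizerMonoidHom ⟨y, hy⟩ ^ i) v) = 1 := by
  obtain ⟨hm, he⟩ := mul_pow_mem θ hy v q
  rw [← he, ← map_one θ]
  congr 1
  refine Subtype.ext ?_
  show ((v : G) * y) ^ q * (y ^ q)⁻¹ = 1
  rw [h.pow_mul_eq_one hV hy hq hq2 hyq v.2, show y ^ q = 1 from hyq ▸ pow_orderOf_eq_one y, inv_one,
    mul_one]

end Spec

end CfsgLib.InvChar.OneComposite
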