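import Cfsg.Agent.Lib.InvChar.OneComposite.Bound
import Cfsg.Agent.Lib.Recog.SymEight.Tools
import Cfsg.Agent.Lib.Invol.Strong

/-!
# Strong embedding and the automizer of a Sylow 2-subgroup
-/

set_option autoImplicit false
set_option linter.unusedSectionVars false
set_option linter.style.haveILetI false

namespace CfsgLib.InvChar.OneComposite

open Subgroup CfsgLib.Invol CfsgLib.EqOrder CfsgLib.FiveOrbit

variable {G : Type*} [Group G] [Finite G] {r : ℕ}

/-- The normaliser of a Sylow 2-subgroup acting on it. -/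
noncomputable def autT (T : Sylow 2 G) :
    normalizer ((T : Subgroup G) : Set G) →* MulAut (T : Subgroup G) :=
  (T : Subgroup G).normalizerMonoidHom

theorem autT_eq_iff {T : Sylow 2 G} {n m : normalizer ((T : Subgroup G) : Set G)} :
    autT T n = autT T m ↔
      ∀ a ∈ (T : Subgroup G), (n : G) * a * (n : G)⁻¹ = (m : G) * a * (m : G)⁻¹ := by
  constructor
  · exact fun e a ha => congrArg Subtype.val (DFunLike.congr_fun e (⟨a, ha⟩ : (T : Subgroup G)))
  · exact fun e => MulEquiv.ext fun a => Subtype.ext (e a a.2)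

theorem autT_eq_one_iff {T : Sylow 2 G} {n : normalizer ((T : Subgroup G) : Set G)} :
    autT T n = 1 ↔ ∀ a ∈ (T : Subgroup G), Commute (n : G) a := by
  rw [← map_one (autT T), autT_eq_iff]
  refine forall₂_congr fun a _ => ?_
  rw [OneMemClass.coe_one, one_mul, inv_one, mul_one, mul_inv_eq_iff_eq_mul]
  exact Iff.rfl

/-- The integer `r ^ (2 j + 1) + 1` is `r + 1` times an odd number. -/
theorem odd_cofactor {r : ℤ} (hr : Odd r) (j : ℕ) :
    ∃ c : ℤ, Odd c ∧ r ^ (2 * j + 1) + 1 = (r + 1) * c := by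
  induction j with
  | zero => exact ⟨1, odd_one, by ring⟩
  | succ j ih =>
    obtain ⟨c, hc, he⟩ := ih
    refine ⟨r ^ 2 * c - (r - 1), (hr.pow.mul hc).sub_even (hr.sub_odd odd_one), ?_⟩
    rw [show 2 * (j + 1) + 1 = 2 * j + 1 + 2 by ring, pow_add]
    linear_combination r ^ 2 * he

/-- `2 ^ m - 1` is not a proper power of an odd prime. -/
theorem exponent_eq_one {r m k : ℕ} (hr : r.Prime) (hodd : Odd r) (hm : 2 ≤ m)
    (e : 2 ^ m = r ^ k + 1) : k = 1 := by
  obtain ⟨m', rfl⟩ := Nat.exists_eq_add_of_le hm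
  rcases Nat.even_or_odd k with ⟨l, rfl⟩ | ⟨j, rfl⟩
  · exfalso
    obtain ⟨c, hc⟩ := hodd.pow (n := l)
    rw [pow_add r, hc, pow_add] at e
    have : (2 * c + 1) * (2 * c + 1) + 1 = 4 * (c * c + c) + 2 := by ring
    omega
  · obtain ⟨c, hc, he⟩ := odd_cofactor (r := (r : ℤ)) (by exact_mod_cast hodd) j
    have hc0 : 0 < c := by
      by_contra hle
      have h1 : (0 : ℤ) < (r : ℤ) ^ (2 * j + 1) + 1 := by positivity
      rw [he] at h1
      have := mul_nonpos_of_nonneg_of_nonpos (show (0 : ℤ) ≤ (r : ℤ) + 1 by positivity) (not_lt.1 hle)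
      omega
    obtain ⟨c', rfl⟩ : ∃ c' : ℕ, (c' : ℤ) = c := ⟨c.toNat, Int.toNat_of_nonneg hc0.le⟩
    have he' : r ^ (2 * j + 1) + 1 = (r + 1) * c' := by exact_mod_cast he
    rw [← e] at he'
    obtain ⟨i, -, hi⟩ := (Nat.dvd_prime_pow Nat.prime_two).1 (he'.symm ▸ dvd_mul_left c' (r + 1))
    have hc' : Odd c' := by exact_mod_cast hc
    rcases i with _ | i
    · rw [hi, pow_zero, mul_one] at he'
      rw [e] at he'
      have h1 : r ^ (2 * j + 1) = r ^ 1 := by rw [pow_one]; omega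
      exact Nat.pow_right_injective hr.two_le h1
    · rw [hi] at hc'
      exact absurd hc' (Nat.not_odd_iff_even.2 (even_two.pow_of_ne_zero i.succ_ne_zero))

namespace Spec

variable (h : Spec G r)
include h

/-- Decompose an element of the normaliser of `T` with nontrivial action into prime order. -/
theorem commute_of_prime {T : Sylow 2 G} {A : Type*} [Group A]
    (φ : normalizer ((T : Subgroup G) : Set G) →* A) (b : A)
    (hT : ∀ a : normalizer ((T : Subgroup G) : Set G), (a : G) ∈ (T : Subgroup G) → Commute b (φ a))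
    (hp : ∀ n : normalizer ((T : Subgroup G) : Set G), ∀ q : ℕ, q.Prime → q ≠ 2 →
      orderOf (n : G) = q → Commute b (φ n))
    (n : normalizer ((T : Subgroup G) : Set G)) : Commute b (φ n) := by
  have hodd : ∀ m : normalizer ((T : Subgroup G) : Set G), (orderOf (m : G)).Prime → Commute b (φ m) := by
    intro m hm
    by_cases h2 : orderOf (m : G) = 2
    · exact hT m (h.mem_of_normalizer m.2 (invol_mul_self h2))
    · exact hp m _ hm h2 rfl
  rcases h.ord (n : G) with e | e | e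
  · rw [show n = 1 from Subtype.ext (orderOf_eq_one_iff.1 e), map_one]
    exact Commute.one_right b
  · exact hodd n e
  · have h1 : orderOf ((n ^ r : normalizer ((T : Subgroup G) : Set G)) : G) = 2 := by
      rw [SubgroupClass.coe_pow, orderOf_pow_of_dvd h.hr.ne_zero (e ▸ dvd_mul_left r 2), e,
        Nat.mul_div_cancel 2 h.hr.pos]
    have h2 : orderOf ((n ^ 2 : normalizer ((T : Subgroup G) : Set G)) : G) = r := by
      rw [SubgroupClass.coe_pow, orderOf_pow_of_dvd two_ne_zero (e ▸ dvd_mul_right 2 r), e,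
        Nat.mul_div_cancel_left r two_pos]
    obtain ⟨l, hl⟩ := h.r_odd
    have he : n = n ^ r * ((n ^ 2) ^ l)⁻¹ := by rw [← pow_mul, hl, pow_succ', mul_inv_cancel_right]
    have c3 : Commute b (φ ((n ^ 2) ^ l)) := by
      rw [map_pow]; exact (hodd _ (h2 ▸ h.hr)).pow_right l
    rw [he, map_mul, map_inv]
    exact (hodd _ (by rw [h1]; exact Nat.prime_two)).mul_right c3.inv_right

theorem exists_conj_in {T : Sylow 2 G} {M : Subgroup G} (hTM : (T : Subgroup G) ≤ M) {u : G}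
    (hu : u ∈ M) (ho : orderOf u = 2) : ∃ m ∈ M, m * u * m⁻¹ ∈ (T : Subgroup G) := by
  haveI : Fact (Nat.Prime 2) := ⟨Nat.prime_two⟩
  obtain ⟨m, hm⟩ := exists_conj_invol_mem_sylow (T.subtype hTM) (x := (⟨u, hu⟩ : M))
    (by rw [← Subgroup.orderOf_coe]; exact ho)
  exact ⟨m, m.2, hm⟩

/-- Fusion in the abelian Sylow 2-subgroup. -/
theorem fusion {T : Sylow 2 G} {a b g : G} (ha : a ∈ (T : Subgroup G)) (hb : g * a * g⁻¹ ∈ (T : Subgroup G))
    (he : b = g * a * g⁻¹) : ∃ n ∈ normalizer ((T : Subgroup G) : Set G), n * a * n⁻¹ = b := by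
  haveI : Fact (Nat.Prime 2) := ⟨Nat.prime_two⟩
  haveI : IsMulCommutative (T : Subgroup G) :=
    isMulCommutative_of fun a ha b hb => (h.comm_sylow T ha hb).eq
  obtain ⟨n, hn, hne⟩ := T.conj_eq_normalizer_conj_of_mem a g⁻¹ ha (by simpa [← SetLike.mem_coe] using hb)
  exact ⟨n⁻¹, inv_mem hn, by rw [he]; simpa using hne.symm⟩

/-- A proper subgroup containing `N(T)` and all `C(a)`, `a ∈ T#`, is strongly embedded. -/
theorem isStronglyEmbedded {T : Sylow 2 G} {M : Subgroup G} (hne : M ≠ ⊤)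
    (hN : normalizer ((T : Subgroup G) : Set G) ≤ M)
    (hC : ∀ a ∈ (T : Subgroup G), a ≠ 1 → ∀ c : G, Commute c a → c ∈ M) :
    Cfsg.IsStronglyEmbedded M := by
  obtain ⟨a, ha, ha1⟩ := h.exists_ne_one T
  refine CfsgLib.Recog.SymEight.isStronglyEmbedded_of_conj hne (hN (le_normalizer ha))
    (h.invol_sylow ha ha1) fun u hu huo g hg => ?_
  obtain ⟨m₁, hm₁, h₁⟩ := h.exists_conj_in (le_normalizer.trans hN) hu huo
  obtain ⟨m₂, hm₂, h₂⟩ := h.exists_conj_in (le_normalizer.trans hN) hg (by rw [orderOf_conj_eq, huo])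
  set k := m₂ * g * m₁⁻¹ with hk
  have he : k * (m₁ * u * m₁⁻¹) * k⁻¹ = m₂ * (g * u * g⁻¹) * m₂⁻¹ := by rw [hk]; group
  obtain ⟨n, hn, hne'⟩ := h.fusion h₁ (he ▸ h₂) rfl
  have hc : Commute (n⁻¹ * k) (m₁ * u * m₁⁻¹) := by
    show n⁻¹ * k * (m₁ * u * m₁⁻¹) = (m₁ * u * m₁⁻¹) * (n⁻¹ * k)
    refine mul_inv_eq_iff_eq_mul.1 ?_
    calc n⁻¹ * k * (m₁ * u * m₁⁻¹) * (n⁻¹ * k)⁻¹
        = n⁻¹ * (k * (m₁ * u * m₁⁻¹) * k⁻¹) * n := by group
      _ = n⁻¹ * (n * (m₁ * u * m₁⁻¹) * n⁻¹) * n := by rw [hne']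
      _ = _ := by group
  have hnk := hC _ h₁ (fun e => invol_ne_one huo (conj_eq_one_iff.1 e)) _ hc
  have : g = m₂⁻¹ * (n * (n⁻¹ * k)) * m₁ := by rw [hk]; group
  rw [this]
  exact M.mul_mem (M.mul_mem (M.inv_mem hm₂) (M.mul_mem (hN hn) hnk)) hm₁

/-- With `M` strongly embedded, `N(T)` is transitive on the involutions of `T`. -/
theorem transitive {T : Sylow 2 G} {M : Subgroup G} (hM : Cfsg.IsStronglyEmbedded M) {a b : G}
    (ha : a ∈ (T : Subgroup G)) (ha1 : a ≠ 1) (hb : b ∈ (T : Subgroup G)) (hb1 : b ≠ 1) :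
    ∃ n ∈ normalizer ((T : Subgroup G) : Set G), n * a * n⁻¹ = b := by
  obtain ⟨g, hg⟩ := isConj_iff.1 (se_isConj hM (h.invol_sylow ha ha1) (h.invol_sylow hb hb1))
  exact h.fusion ha (hg ▸ hb) hg.symm

theorem odd_range (T : Sylow 2 G) : Odd (Nat.card (autT T).range) := by
  haveI : Fact (Nat.Prime 2) := ⟨Nat.prime_two⟩
  rw [← Subgroup.index_ker]
  have hTle : ((T : Subgroup G)).subgroupOf (normalizer ((T : Subgroup G) : Set G)) ≤ (autT T).ker :=
    fun a ha => MonoidHom.mem_ker.2 (autT_eq_one_iff.2 fun b hb =>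
      h.comm_sylow T (Subgroup.mem_subgroupOf.1 ha) hb)
  exact (CfsgLib.EqOrder.odd_index_sylow_two (T.subtype le_normalizer)).of_dvd_nat
    (Subgroup.index_dvd_of_le hTle)

theorem range_order {T : Sylow 2 G} {l : (autT T).range} (hl : l ≠ 1) :
    (orderOf l).Prime ∧ ∃ n : normalizer ((T : Subgroup G) : Set G),
      autT T n = (l : MulAut (T : Subgroup G)) ∧ orderOf (n : G) = orderOf l := by
  obtain ⟨n, hn⟩ := l.2
  have hodd : Odd (orderOf l) := (h.odd_range T).of_dvd_nat (orderOf_dvd_natCard l)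
  have hd : orderOf l ∣ orderOf (n : G) := by
    rw [Subgroup.orderOf_coe, ← Subgroup.orderOf_coe l, ← hn]; exact orderOf_map_dvd _ n
  have hne : orderOf l ≠ 1 := fun e => hl (orderOf_eq_one_iff.1 e)
  rcases h.ord (n : G) with e | e | e
  · rw [e] at hd; exact absurd (Nat.dvd_one.1 hd) hne
  · have heq := ((Nat.dvd_prime e).1 hd).resolve_left hne
    exact ⟨heq ▸ e, n, hn, heq.symm⟩
  · rw [e] at hd
    have heq : orderOf l = r :=
      ((Nat.dvd_prime h.hr).1 ((Nat.coprime_two_right.2 hodd).dvd_of_dvd_mul_left hd)).resolve_left hne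
    refine ⟨heq ▸ h.hr, n ^ (r + 1), ?_, ?_⟩
    · rw [map_pow, hn, pow_succ, ← SubgroupClass.coe_pow, ← heq, pow_orderOf_eq_one,
        OneMemClass.coe_one, one_mul]
    · obtain ⟨j, hj⟩ := h.r_odd
      rw [heq, SubgroupClass.coe_pow, show r + 1 = 2 * (j + 1) by omega, pow_mul]
      have h2 : orderOf ((n : G) ^ 2) = r := by
        rw [orderOf_pow_of_dvd two_ne_zero (e ▸ dvd_mul_right 2 r), e, Nat.mul_div_cancel_left r two_pos]
      rw [Nat.Coprime.orderOf_pow (by
        rw [h2]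
        exact (h.hr.coprime_iff_not_dvd).2 fun hd' => by
          have := Nat.le_of_dvd (by omega) hd'; omega), h2]

/-- An element of prime order other than `r` normalising `T` moves all its involutions. -/
theorem fpf_of_ne {T : Sylow 2 G} {n a : G} {q : ℕ} (hq : q.Prime) (hq2 : q ≠ 2) (hqr : q ≠ r)
    (hn : orderOf n = q) (ha : a ∈ (T : Subgroup G)) (hc : Commute n a) : a = 1 := by
  by_contra ha1
  exact hqr (hn ▸ h.order_of_invol (h.invol_sylow ha ha1) hc (hn.symm ▸ hq.odd_of_ne_two hq2)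
    (fun e => hq.one_lt.ne' (hn ▸ e ▸ orderOf_one)))

theorem isSolvable_range (T : Sylow 2 G) : Group.IsSolvable (autT T).range :=
  CfsgLib.FT.odd_order_solvable_of CfsgLib.FT.typePBase CfsgLib.FT.fieldLemma (h.odd_range T)

end Spec

end CfsgLib.InvChar.OneComposite
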